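import Mathlib.GroupTheory.SpecificGroups.Alternating.Simple
import Mathlib.GroupTheory.GroupAction.Primitive
import Mathlib.Data.Set.Card
import Cfsg.Agent.CharactersDeep.QuatSylow
import Cfsg.Agent.FastGrp
import Cfsg.Agent.Prune
set_option linter.all false

section
prune_inst 0x7f00000000000000000000000000000000000000000000000000000000000000000000000000000000000000000000000000000000000000000000000000000000000000000000000000000000000000003fffffffffffffffffffffffffffbeffbdffffffff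

-- part: SM/Base
section
set_option linter.all false
open scoped Cfsg.Agent.FastGrp

/-!
# SM (S3570): the setting, the lattice lemmas and the boxes (helper59)

`X` is `A_n` or `S_n` acting on `Ω`, `H` is second maximal in `X`, `Ov X H` is the set of the maximal subgroups of `X`
over `H`.
-/

set_option autoImplicit false
set_option linter.unusedSectionVars false
set_option linter.unusedVariables false

namespace Cfsg.Agent.SM

open Equiv Subgroup MulAction

variable {Ω : Type} [Fintype Ω] [DecidableEq Ω]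

/-- the maximal subgroups of `X` over `H` -/
def Ov (X H : Subgroup (Perm Ω)) : Set (Subgroup (Perm Ω)) := {M | M ⋖ X ∧ H ≤ M}

/-- `H` is second maximal in `X ≥ A_n`, and `A_n` itself is not one of the maximal overgroups -/
structure Sec (X H : Subgroup (Perm Ω)) : Prop where
  five : 5 ≤ Fintype.card Ω
  alt : alternatingGroup Ω ≤ X
  lt : H < X
  nmax : ¬ H ⋖ X
  cov : ∀ M ∈ Ov X H, H ⋖ M
  nalt : alternatingGroup Ω ∉ Ov X H

/-- `N` is a normal subgroup of `M` -/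
structure Nor (M N : Subgroup (Perm Ω)) : Prop where
  le : N ≤ M
  conj : ∀ g ∈ M, ∀ x ∈ N, g * x * g⁻¹ ∈ N

/-- `M` is almost simple with socle `T` -/
structure Soc (M T : Subgroup (Perm Ω)) : Prop extends Nor M T where
  simple : IsSimpleGroup T
  nab : ¬ IsMulCommutative T
  cen : ∀ g ∈ M, (∀ t ∈ T, g * t = t * g) → g = 1

/-- `V` is a non-trivial abelian normal subgroup of `M` -/
structure Aff (M V : Subgroup (Perm Ω)) : Prop extends Nor M V where
  ne : V ≠ ⊥
  comm : ∀ x ∈ V, ∀ y ∈ V, x * y = y * x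

/-- box: `H` not primitive -/
def BoxNP : Prop := ∀ (Ω : Type) [Fintype Ω] [DecidableEq Ω] (X H : Subgroup (Perm Ω)), Sec X H →
  ¬ IsPreprimitive H Ω → (Ov X H).ncard ≤ 11

/-- box: `H` primitive and affine -/
def BoxAff : Prop := ∀ (Ω : Type) [Fintype Ω] [DecidableEq Ω] (X H V : Subgroup (Perm Ω)), Sec X H →
  IsPreprimitive H Ω → Aff H V → (Ov X H).ncard ≤ 11

/-- box: `H` primitive, neither affine nor almost simple -/
def BoxPow : Prop := ∀ (Ω : Type) [Fintype Ω] [DecidableEq Ω] (X H : Subgroup (Perm Ω)), Sec X H →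
  IsPreprimitive H Ω → (∀ V, ¬ Aff H V) → (∀ T, ¬ Soc H T) → (Ov X H).ncard ≤ 11

/-- box: `H` primitive and almost simple, the overgroups that are not almost simple -/
def BoxOth : Prop := ∀ (Ω : Type) [Fintype Ω] [DecidableEq Ω] (X H T : Subgroup (Perm Ω)), Sec X H →
  IsPreprimitive H Ω → Soc H T → {M | M ∈ Ov X H ∧ ∀ S, ¬ Soc M S}.ncard ≤ 1 ∨ (Ov X H).ncard ≤ 11

/-- box: `H` primitive and almost simple, the almost simple overgroups with another socle -/
def BoxAS : Prop := ∀ (Ω : Type) [Fintype Ω] [DecidableEq Ω] (X H T : Subgroup (Perm Ω)), Sec X H →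
  IsPreprimitive H Ω → Soc H T → {M | M ∈ Ov X H ∧ ∃ S, Soc M S ∧ S ≠ T}.ncard ≤ 9

/-! ### normal subgroups -/

theorem Nor.le_normalizer {M N : Subgroup (Perm Ω)} (h : Nor M N) : M ≤ normalizer (N : Set (Perm Ω)) := by
  intro g hg
  rw [mem_normalizer_iff]
  intro x
  refine ⟨h.conj g hg x, fun hx => ?_⟩
  have := h.conj g⁻¹ (M.inv_mem hg) _ hx
  simpa [mul_assoc] using this

theorem Nor.of_le {M N : Subgroup (Perm Ω)} (h1 : N ≤ M) (h2 : M ≤ normalizer (N : Set (Perm Ω))) : Nor M N :=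
  ⟨h1, fun g hg x hx => (mem_normalizer_iff.1 (h2 hg) x).1 hx⟩

theorem Nor.normal {M N : Subgroup (Perm Ω)} (h : Nor M N) : (N.subgroupOf M).Normal :=
  ⟨fun x hx g => by
    rw [mem_subgroupOf] at hx ⊢
    exact h.conj g g.2 x hx⟩

theorem Nor.of_normal {M : Subgroup (Perm Ω)} (N : Subgroup M) [hN : N.Normal] : Nor M (N.map M.subtype) :=
  ⟨map_subtype_le N, by
    rintro g hg x ⟨y, hy, rfl⟩
    exact ⟨(⟨g, hg⟩ * y * ⟨g, hg⟩⁻¹ :), hN.conj_mem y hy _, rfl⟩⟩

theorem Nor.refl (M : Subgroup (Perm Ω)) : Nor M M :=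
  ⟨le_rfl, fun g hg x hx => M.mul_mem (M.mul_mem hg hx) (M.inv_mem hg)⟩

theorem Nor.mono {M K N : Subgroup (Perm Ω)} (h : Nor M N) (h1 : N ≤ K) (h2 : K ≤ M) : Nor K N :=
  ⟨h1, fun g hg => h.conj g (h2 hg)⟩

theorem Nor.inf {M N : Subgroup (Perm Ω)} (h : Nor M N) {K : Subgroup (Perm Ω)} (h2 : K ≤ M) : Nor K (K ⊓ N) :=
  ⟨inf_le_left, fun g hg x hx => ⟨(Nor.refl K).conj g hg x hx.1, h.conj g (h2 hg) x hx.2⟩⟩

theorem Soc.ne {M T : Subgroup (Perm Ω)} (h : Soc M T) : T ≠ ⊥ := by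
  have := h.simple
  exact (Subgroup.nontrivial_iff_ne_bot T).1 inferInstance

/-- a permutation that commutes with `A_n` is trivial -/
theorem eq_one_of_comm_alt (h5 : 5 ≤ Fintype.card Ω) {g : Perm Ω} (hg : ∀ a ∈ alternatingGroup Ω, a * g = g * a) :
    g = 1 := by
  by_contra hne
  have h5' : 5 ≤ Nat.card Ω := by rwa [Nat.card_eq_fintype_card]
  have hnt : Nontrivial (centralizer (alternatingGroup Ω : Set (Perm Ω))) :=
    (Subgroup.nontrivial_iff_ne_bot _).2 fun hb => hne (by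
      have : g ∈ centralizer (alternatingGroup Ω : Set (Perm Ω)) := fun a ha => hg a ha
      rwa [hb, mem_bot] at this)
  have hle := Perm.alternatingGroup_le_of_normal h5' hnt
  have hc := alternatingGroup.center_eq_bot (α := Ω) (by omega)
  have := alternatingGroup.nontrivial_of_three_le_card (α := Ω) (by omega)
  obtain ⟨x, hx⟩ := exists_ne (1 : alternatingGroup Ω)
  apply hx
  rw [← mem_bot, ← hc, mem_center_iff]
  intro y
  exact Subtype.ext (hle x.2 y y.2)

/-- a non-trivial group normalised by `A_n` contains it -/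
theorem alt_le_of_conj (h5 : 5 ≤ Fintype.card Ω) {N : Subgroup (Perm Ω)} (hN : N ≠ ⊥)
    (h : ∀ g ∈ alternatingGroup Ω, ∀ x ∈ N, g * x * g⁻¹ ∈ N) : alternatingGroup Ω ≤ N := by
  have h5' : 5 ≤ Nat.card Ω := by rwa [Nat.card_eq_fintype_card]
  have hn : (N.subgroupOf (alternatingGroup Ω)).Normal := ⟨fun x hx g => by
    rw [mem_subgroupOf] at hx ⊢
    exact h g g.2 x hx⟩
  rcases alternatingGroup.normal_subgroup_eq_bot_or_eq_top h5' (N := N.subgroupOf (alternatingGroup Ω)) with hb | ht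
  · exfalso
    apply hN
    rw [eq_bot_iff]
    intro g hg
    rw [mem_bot]
    refine eq_one_of_comm_alt h5 fun a ha => ?_
    have h1 : a * g * a⁻¹ * g⁻¹ ∈ alternatingGroup Ω := by
      rw [Perm.mem_alternatingGroup] at ha ⊢
      simp [ha]
    have h2 : (⟨_, h1⟩ : alternatingGroup Ω) ∈ N.subgroupOf (alternatingGroup Ω) :=
      mem_subgroupOf.2 (N.mul_mem (h a ha g hg) (N.inv_mem hg))
    rw [hb, mem_bot, Subtype.ext_iff] at h2
    have h3 : a * g * a⁻¹ * g⁻¹ = 1 := h2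
    calc a * g = a * g * a⁻¹ * g⁻¹ * (g * a) := by group
      _ = g * a := by rw [h3, one_mul]
  · exact subgroupOf_eq_top.1 ht

/-- a group over `A_n` is `A_n` or `S_n` -/
theorem eq_alt_or_top (h5 : 5 ≤ Fintype.card Ω) {K : Subgroup (Perm Ω)} (h : alternatingGroup Ω ≤ K) :
    K = alternatingGroup Ω ∨ K = ⊤ := by
  have : Nontrivial Ω := Fintype.one_lt_card_iff_nontrivial.1 (by omega)
  have h2 := index_dvd_of_le h
  rw [alternatingGroup.index_eq_two] at h2
  rcases (Nat.dvd_prime Nat.prime_two).1 h2 with h1 | h1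
  · exact Or.inr (index_eq_one.1 h1)
  · exact Or.inl (Perm.eq_alternatingGroup_of_index_eq_two h1)

namespace Sec

variable {X H M M₁ M₂ : Subgroup (Perm Ω)}

theorem finite (X H : Subgroup (Perm Ω)) : (Ov X H).Finite := Set.toFinite _

/-- no maximal overgroup contains `A_n` -/
theorem not_alt_le (s : Sec X H) (hM : M ∈ Ov X H) : ¬ alternatingGroup Ω ≤ M := by
  intro h
  rcases eq_alt_or_top s.five h with h1 | h1
  · exact s.nalt (h1 ▸ hM)
  · exact hM.1.lt.ne (top_le_iff.1 (h1 ▸ hM.1.lt.le) ▸ h1)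

/-- every proper subgroup of `X` over `H` lies in a member of `Ov` -/
theorem exists_ov {K : Subgroup (Perm Ω)} (h1 : H ≤ K) (h2 : K < X) : ∃ M ∈ Ov X H, K ≤ M := by
  obtain ⟨M, hKM, hM⟩ := exists_le_covBy_of_lt h2
  exact ⟨M, ⟨hM, h1.trans hKM⟩, hKM⟩

/-- a group strictly between `H` and `X` is a member of `Ov` -/
theorem mem_ov (s : Sec X H) {K : Subgroup (Perm Ω)} (h1 : H < K) (h2 : K < X) : K ∈ Ov X H := by
  obtain ⟨M, hM, hKM⟩ := exists_ov h1.le h2
  rcases (s.cov M hM).eq_or_eq h1.le hKM with h | h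
  · exact absurd h h1.ne'
  · exact h ▸ hM

theorem not_alt_le_H (s : Sec X H) : ¬ alternatingGroup Ω ≤ H := by
  obtain ⟨M, hM, hHM⟩ := exists_ov le_rfl s.lt
  exact fun h => s.not_alt_le hM (h.trans hHM)

/-- a group between `H` and a member of `Ov` is one of the two -/
theorem eq_or_eq (s : Sec X H) (hM : M ∈ Ov X H) {K : Subgroup (Perm Ω)} (h1 : H ≤ K) (h2 : K ≤ M) :
    K = H ∨ K = M := (s.cov M hM).eq_or_eq h1 h2

theorem eq_of_le (h₁ : M₁ ∈ Ov X H) (h₂ : M₂ ∈ Ov X H) (h : M₁ ≤ M₂) : M₁ = M₂ := by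
  rcases h₁.1.eq_or_eq h h₂.1.le with h3 | h3
  · exact h3.symm
  · exact absurd h3 h₂.1.lt.ne

theorem inf_eq (s : Sec X H) (h₁ : M₁ ∈ Ov X H) (h₂ : M₂ ∈ Ov X H) (hne : M₁ ≠ M₂) : M₁ ⊓ M₂ = H := by
  rcases s.eq_or_eq h₁ (le_inf h₁.2 h₂.2) inf_le_left with h | h
  · exact h
  · exact absurd (eq_of_le h₁ h₂ (inf_eq_left.1 h)) hne

theorem sup_eq (h₁ : M₁ ∈ Ov X H) (h₂ : M₂ ∈ Ov X H) (hne : M₁ ≠ M₂) : M₁ ⊔ M₂ = X := by
  rcases h₁.1.eq_or_eq (le_sup_left : M₁ ≤ M₁ ⊔ M₂) (sup_le h₁.1.le h₂.1.le) with h | h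
  · exact absurd (eq_of_le h₂ h₁ (sup_eq_left.1 h)).symm hne
  · exact h

/-- two members of `Ov` with a common element outside `H` are equal -/
theorem eq_of_mem (s : Sec X H) (h₁ : M₁ ∈ Ov X H) (h₂ : M₂ ∈ Ov X H) {g : Perm Ω} (g1 : g ∈ M₁) (g2 : g ∈ M₂)
    (hg : g ∉ H) : M₁ = M₂ := by
  by_contra hne
  exact hg (s.inf_eq h₁ h₂ hne ▸ (⟨g1, g2⟩ : g ∈ M₁ ⊓ M₂))

/-- **rigidity**: two members of `Ov` inside a group that does not contain `A_n` are equal -/
theorem eq_of_le_of_le (s : Sec X H) (h₁ : M₁ ∈ Ov X H) (h₂ : M₂ ∈ Ov X H) {K : Subgroup (Perm Ω)}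
    (k1 : M₁ ≤ K) (k2 : M₂ ≤ K) (hK : ¬ alternatingGroup Ω ≤ K) : M₁ = M₂ := by
  by_contra hne
  exact hK (s.alt.trans (sup_eq h₁ h₂ hne ▸ sup_le k1 k2))

/-- a member of `Ov` inside a group `K` that does not contain `A_n` is `X ⊓ K` -/
theorem eq_inf (s : Sec X H) (hM : M ∈ Ov X H) {K : Subgroup (Perm Ω)} (k : M ≤ K) (hK : ¬ alternatingGroup Ω ≤ K) :
    M = X ⊓ K := by
  rcases hM.1.eq_or_eq (le_inf hM.1.le k) inf_le_left with h | h
  · exact h.symm
  · exact absurd (s.alt.trans (inf_eq_left.1 h)) hK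

theorem not_alt_le_normalizer (s : Sec X H) (hM : M ∈ Ov X H) {N : Subgroup (Perm Ω)} (hN : N ≤ M) (h0 : N ≠ ⊥) :
    ¬ alternatingGroup Ω ≤ normalizer (N : Set (Perm Ω)) := fun h =>
  s.not_alt_le hM ((alt_le_of_conj s.five h0 fun g hg x hx => (mem_normalizer_iff.1 (h hg) x).1 hx).trans hN)

/-- a member of `Ov` is the normaliser in `X` of each of its non-trivial normal subgroups -/
theorem eq_normalizer (s : Sec X H) (hM : M ∈ Ov X H) {N : Subgroup (Perm Ω)} (hN : Nor M N) (h0 : N ≠ ⊥) :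
    M = X ⊓ normalizer (N : Set (Perm Ω)) :=
  s.eq_inf hM hN.le_normalizer (s.not_alt_le_normalizer hM hN.le h0)

theorem eq_of_nor (s : Sec X H) (h₁ : M₁ ∈ Ov X H) (h₂ : M₂ ∈ Ov X H) {N : Subgroup (Perm Ω)} (n1 : Nor M₁ N)
    (n2 : Nor M₂ N) (h0 : N ≠ ⊥) : M₁ = M₂ :=
  (s.eq_normalizer h₁ n1 h0).trans (s.eq_normalizer h₂ n2 h0).symm

/-- a normal subgroup of a member of `Ov` lies in `H` or supplements it -/
theorem le_or_sup (s : Sec X H) (hM : M ∈ Ov X H) {N : Subgroup (Perm Ω)} (hN : N ≤ M) : N ≤ H ∨ H ⊔ N = M := by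
  rcases s.eq_or_eq hM (le_sup_left : H ≤ H ⊔ N) (sup_le hM.2 hN) with h | h
  · exact Or.inl (sup_eq_left.1 h)
  · exact Or.inr h

/-- an `H`-invariant subgroup of `M ∈ Ov` lies in `H` or supplements it elementwise -/
theorem le_or_mul (s : Sec X H) (hM : M ∈ Ov X H) {N : Subgroup (Perm Ω)} (hN : N ≤ M)
    (hc : ∀ g ∈ H, ∀ x ∈ N, g * x * g⁻¹ ∈ N) : N ≤ H ∨ ∀ m ∈ M, ∃ h ∈ H, ∃ x ∈ N, m = h * x := by
  let K : Subgroup (Perm Ω) :=
    { carrier := {m | ∃ h ∈ H, ∃ x ∈ N, m = h * x}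
      one_mem' := ⟨1, H.one_mem, 1, N.one_mem, by simp⟩
      mul_mem' := by
        rintro _ _ ⟨h, hh, x, hx, rfl⟩ ⟨k, hk, y, hy, rfl⟩
        exact ⟨h * k, H.mul_mem hh hk, k⁻¹ * x * k⁻¹⁻¹ * y, N.mul_mem (hc _ (H.inv_mem hk) x hx) hy, by group⟩
      inv_mem' := by
        rintro _ ⟨h, hh, x, hx, rfl⟩
        exact ⟨h⁻¹, H.inv_mem hh, h * x⁻¹ * h⁻¹, hc h hh _ (N.inv_mem hx), by group⟩ }
  have h1 : H ≤ K := fun h hh => ⟨h, hh, 1, N.one_mem, by simp⟩
  have h2 : K ≤ M := by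
    rintro _ ⟨h, hh, x, hx, rfl⟩
    exact M.mul_mem (hM.2 hh) (hN hx)
  rcases s.eq_or_eq hM h1 h2 with h | h
  · exact Or.inl fun x hx => h ▸ (⟨1, H.one_mem, x, hx, by simp⟩ : x ∈ K)
  · exact Or.inr fun m hm => (h ▸ hm : m ∈ K)

end Sec

/-- an overgroup of a primitive group is primitive -/
theorem prim_of_le {H M : Subgroup (Perm Ω)} (h : H ≤ M) (hp : IsPreprimitive H Ω) : IsPreprimitive M Ω :=
  IsPreprimitive.of_surjective (φ := inclusion h) (f := (⟨id, fun _ _ => rfl⟩ : Ω →ₑ[inclusion h] Ω))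
    Function.surjective_id

end Cfsg.Agent.SM
end

-- part: SM/Ex78/Base
section
set_option linter.all false
open scoped Cfsg.Agent.FastGrp

/-!
# SM (S3570), exceptional socles of small rank: factorisations `S = X Y` (helper78)

* `Pd X Y` : every element is a product `x * y`;
* `Pd.relIndex`, `Pd.index_dvd`, `Pd.prime_dvd`, `Pd.cyc` (cyclic Sylow subgroups lie in one factor);
* `NoFac S` : no factorisation by two proper subgroups.
-/

set_option autoImplicit false

namespace Cfsg.Agent.SM.Ex78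

open Subgroup

/-- `S = X Y` -/
def Pd {S : Type*} [Group S] (X Y : Subgroup S) : Prop := ∀ g : S, ∃ x ∈ X, ∃ y ∈ Y, g = x * y

/-- no factorisation by two proper subgroups -/
def NoFac (S : Type*) [Group S] : Prop := ∀ X Y : Subgroup S, X ≠ ⊤ → Y ≠ ⊤ → ¬ Pd X Y

namespace Pd

variable {S : Type*} [Group S] {X Y : Subgroup S}

theorem symm (h : Pd X Y) : Pd Y X := fun g => by
  obtain ⟨x, hx, y, hy, e⟩ := h g⁻¹
  refine ⟨y⁻¹, Y.inv_mem hy, x⁻¹, X.inv_mem hx, ?_⟩
  rw [← mul_inv_rev, ← e, inv_inv]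

theorem mono (h : Pd X Y) {X' Y' : Subgroup S} (hX : X ≤ X') (hY : Y ≤ Y') : Pd X' Y' := fun g => by
  obtain ⟨x, hx, y, hy, e⟩ := h g
  exact ⟨x, hX hx, y, hY hy, e⟩

theorem map (h : Pd X Y) {S' : Type*} [Group S'] (f : S →* S') (hf : Function.Surjective f) :
    Pd (X.map f) (Y.map f) := fun g => by
  obtain ⟨g, rfl⟩ := hf g
  obtain ⟨x, hx, y, hy, e⟩ := h g
  exact ⟨f x, ⟨x, hx, rfl⟩, f y, ⟨y, hy, rfl⟩, by rw [e, map_mul]⟩

/-- conjugating the second factor -/
theorem conj (h : Pd X Y) (c : S) : Pd X (Y.map (MulAut.conj c).toMonoidHom) := fun g => by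
  obtain ⟨x, hx, y, hy, e⟩ := h c
  obtain ⟨x', hx', y', hy', e'⟩ := h (g * x)
  refine ⟨x' * x⁻¹, X.mul_mem hx' (X.inv_mem hx), c * (y⁻¹ * y' * y) * c⁻¹,
    ⟨y⁻¹ * y' * y, Y.mul_mem (Y.mul_mem (Y.inv_mem hy) hy') hy, rfl⟩, ?_⟩
  have h1 : g = x' * y' * x⁻¹ := by rw [← e', mul_inv_cancel_right]
  rw [h1, e]
  group

theorem relIndex (h : Pd X Y) : Y.relIndex X = Y.index := by
  let f : X ⧸ Y.subgroupOf X → S ⧸ Y := Quotient.map' (fun x : X => (x : S)) fun a b hab => by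
    rw [QuotientGroup.leftRel_apply] at hab ⊢
    exact hab
  refine Nat.card_congr (Equiv.ofBijective f ⟨?_, ?_⟩)
  · intro a b
    induction a using Quotient.inductionOn'
    induction b using Quotient.inductionOn'
    intro hab
    have h1 := Quotient.exact' hab
    apply Quotient.sound'
    rw [QuotientGroup.leftRel_apply] at h1 ⊢
    exact h1
  · intro c
    induction c using Quotient.inductionOn' with
    | h g =>
      obtain ⟨x, hx, y, hy, e⟩ := h g
      refine ⟨Quotient.mk'' ⟨x, hx⟩, Quotient.sound' ?_⟩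
      rw [QuotientGroup.leftRel_apply]
      show x⁻¹ * g ∈ Y
      rw [e, inv_mul_cancel_left]
      exact hy

theorem card_left (h : Pd X Y) : Nat.card ↥(X ⊓ Y) * Y.index = Nat.card X := by
  rw [← h.relIndex, Subgroup.relIndex, ← (Y.subgroupOf X).card_mul_index]
  congr 1
  rw [← Subgroup.inf_subgroupOf_left]
  exact (Nat.card_congr (subgroupOfEquivOfLe (inf_le_left : X ⊓ Y ≤ X)).toEquiv).symm

theorem index_dvd (h : Pd X Y) : Y.index ∣ Nat.card X := Dvd.intro_left _ h.card_left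

theorem card (h : Pd X Y) : Nat.card S * Nat.card ↥(X ⊓ Y) = Nat.card X * Nat.card Y := by
  rw [← h.card_left, ← Y.card_mul_index]
  ring

theorem card_dvd (h : Pd X Y) : Nat.card S ∣ Nat.card X * Nat.card Y := Dvd.intro _ h.card

theorem prime_dvd (h : Pd X Y) {r : ℕ} (hr : r.Prime) (hS : r ∣ Nat.card S) : r ∣ Nat.card X ∨ r ∣ Nat.card Y :=
  hr.dvd_mul.1 (hS.trans h.card_dvd)

theorem index_le [Finite S] (h : Pd X Y) : Y.index ≤ Nat.card X := Nat.le_of_dvd Nat.card_pos h.index_dvd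

/-- **A cyclic Sylow subgroup lies in (a conjugate of) one of the factors.** -/
theorem cyc [Finite S] (h : Pd X Y) {r : ℕ} (hr : r.Prime) (hc : ∀ P : Subgroup S, IsPGroup r P → IsCyclic P) :
    ¬ r ∣ X.index ∨ ¬ r ∣ Y.index := by
  classical
  have := Fact.mk hr
  obtain ⟨A⟩ : Nonempty (Sylow r X) := inferInstance
  obtain ⟨B⟩ : Nonempty (Sylow r Y) := inferInstance
  have hA : IsPGroup r ((A : Subgroup X).map X.subtype) := A.isPGroup'.map _
  have hB : IsPGroup r ((B : Subgroup Y).map Y.subtype) := B.isPGroup'.map _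
  obtain ⟨P, hP⟩ := hA.exists_le_sylow
  obtain ⟨Q, hQ⟩ := hB.exists_le_sylow
  obtain ⟨c, hcPQ⟩ := MulAction.exists_smul_eq S Q P
  set Y' := Y.map (MulAut.conj c).toMonoidHom with hY'
  have h' : Pd X Y' := h.conj c
  set A' := (A : Subgroup X).map X.subtype with hA'
  set B' := ((B : Subgroup Y).map Y.subtype).map (MulAut.conj c).toMonoidHom with hB'
  have hB'P : B' ≤ P := by
    rw [← hcPQ]
    rintro _ ⟨b, hb, rfl⟩
    rw [Sylow.smul_def, Sylow.pointwise_smul_def]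
    exact Subgroup.smul_mem_pointwise_smul _ _ _ (hQ hb)
  have hB'Y : B' ≤ Y' := map_mono (map_subtype_le _)
  have hA'X : A' ≤ X := map_subtype_le _
  have cA : Nat.card A' = r ^ (Nat.card X).factorization r := by
    rw [hA', card_map_of_injective X.subtype_injective, A.card_eq_multiplicity]
  have cY : Nat.card Y' = Nat.card Y := card_map_of_injective (MulAut.conj c).injective
  have cB : Nat.card B' = r ^ (Nat.card Y').factorization r := by
    rw [hB', card_map_of_injective (MulAut.conj c).injective, card_map_of_injective Y.subtype_injective,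
      B.card_eq_multiplicity, cY]
  have iY : Y'.index = Y.index := by
    have h1 := Y'.card_mul_index
    rw [cY, ← Y.card_mul_index] at h1
    exact Nat.eq_of_mul_eq_mul_left Nat.card_pos h1
  have hPc : IsCyclic P := hc _ P.isPGroup'
  have hv : ∀ (U V : Subgroup S), Pd U V → ∀ W : Subgroup S, W ≤ U ⊓ V → Nat.card W = r ^ (Nat.card U).factorization r →
      ¬ r ∣ V.index := by
    intro U V hUV W hW hWc hd
    have h1 : r ^ (Nat.card U).factorization r * r ∣ Nat.card ↥(U ⊓ V) * V.index :=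
      Nat.mul_dvd_mul (hWc ▸ card_dvd_of_le hW) hd
    rw [hUV.card_left, ← pow_succ] at h1
    exact Nat.pow_succ_factorization_not_dvd Nat.card_pos.ne' hr h1
  rcases le_total ((Nat.card X).factorization r) ((Nat.card Y').factorization r) with hle | hle
  · right
    rw [← iY]
    refine hv X Y' h' A' (le_inf hA'X (le_trans ?_ hB'Y)) cA
    refine Cfsg.Agent.CharactersDeep.QuatSylow.le_of_card_dvd_of_le_cyclic hPc hP hB'P ?_
    rw [cA, cB]
    exact pow_dvd_pow _ hle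
  · left
    refine hv Y' X h'.symm B' (le_inf hB'Y (le_trans ?_ hA'X)) cB
    refine Cfsg.Agent.CharactersDeep.QuatSylow.le_of_card_dvd_of_le_cyclic hPc hB'P hP ?_
    rw [cA, cB]
    exact pow_dvd_pow _ hle

end Pd

theorem NoFac.congr {S S' : Type*} [Group S] [Group S'] (h : NoFac S') (e : S ≃* S') : NoFac S := by
  intro X Y hX hY hP
  have ht : ∀ Z : Subgroup S, Z.map e.toMonoidHom = ⊤ → Z = ⊤ := by
    intro Z hZ
    rw [eq_top_iff]
    intro z _
    have h1 : e z ∈ Z.map e.toMonoidHom := hZ ▸ mem_top _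
    obtain ⟨w, hw, h2⟩ := h1
    rwa [← e.injective h2]
  exact h _ _ (fun h1 => hX (ht _ h1)) (fun h1 => hY (ht _ h1)) (hP.map e.toMonoidHom e.surjective)

end Cfsg.Agent.SM.Ex78
end
end
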