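import Cfsg.Prelude.Def_Classification2
import Cfsg.Agent.SM.Base_m3
import Cfsg.Prelude.Def_Characters
import Cfsg.Agent.H180.MElNum
import Cfsg.Agent.SM.Ti.Box
import Cfsg.Prelude.Def_LieTypeChar
import Cfsg.Prelude.Def_LieClassical
import Cfsg.Agent.H481.TBound
import Cfsg.Agent.Prune
set_option linter.all false

section
prune_inst 0x7f00000000000000000000000000000000000000000000000000000000000000000000000000000000000000000000000000000000000000000000000000000000000000000000000000000000000000003fffffffffffffffffffffffffffbeffbdffffffff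

-- part: SM/Defs
section
set_option linter.all false
open scoped Cfsg.Agent.FastGrp

/-!
# SM (S3570): the almost simple box, split by the family of the socle `S` (helper32, plan in `notes/SM/plan.md`)

* `Up X H T M S`: `H` second maximal, primitive, almost simple with socle `T`; `M ∈ Ov X H` almost simple with socle `S ≠ T`.
* `Fac M S H T B`: the abstract factorisation `S = T (B ⊓ S)` (`B` a point stabiliser of `M`) in any ambient group.
* `Bnd P R`: if some overgroup has its socle in the family `P`, then `R |T| |Ω| k` holds for some `k` which bounds the number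
  of such overgroups (`R` = the table of the rows of the family: order of `T`, degree, bound).
-/

set_option autoImplicit false
set_option linter.unusedSectionVars false

namespace Cfsg.Agent.SM

open Cfsg Equiv Subgroup MulAction

/-- a family of groups -/
abbrev Fam := ∀ (T : Type) [Group T], Prop

/-- `X` is almost simple with socle `T` (any ambient group) -/
structure AS {Γ : Type} [Group Γ] (X T : Subgroup Γ) : Prop where
  le : T ≤ X
  conj : ∀ g ∈ X, ∀ x ∈ T, g * x * g⁻¹ ∈ T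
  simple : IsSimpleGroup T
  nab : ¬ IsMulCommutative T
  cen : ∀ g ∈ X, (∀ t ∈ T, g * t = t * g) → g = 1

/-- The abstract factorisation: `M` is almost simple with socle `S`, `H` and `B` are maximal in `M` and do not contain `S`,
`H` is almost simple with socle `T < S`, `H ⊓ B` is maximal in `H`, `1 < T ⊓ B < T`, and `S = T (B ⊓ S)`, `M = H S = B S`,
`H = (H ⊓ B) T`. -/
structure Fac {Γ : Type} [Group Γ] (M S H T B : Subgroup Γ) : Prop where
  asM : AS M S
  asH : AS H T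
  le : T ≤ S
  ne : T ≠ S
  hm : H ⋖ M
  bm : B ⋖ M
  nH : ¬ S ≤ H
  nB : ¬ S ≤ B
  nT : ¬ T ≤ B
  pr : H ⊓ B ⋖ H
  nb : T ⊓ B ≠ ⊥
  fac : ∀ s ∈ S, ∃ t ∈ T, ∃ b ∈ B, s = t * b
  facH : ∀ m ∈ M, ∃ h ∈ H ⊓ B, ∃ s ∈ S, m = h * s

section perm

variable {Ω : Type} [Fintype Ω] [DecidableEq Ω]

theorem Soc.as {M T : Subgroup (Perm Ω)} (h : Soc M T) : AS M T := ⟨h.le, h.conj, h.simple, h.nab, h.cen⟩

/-- `H` second maximal, primitive, almost simple with socle `T`; `M` an almost simple overgroup with socle `S ≠ T` -/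
structure Up (X H T M S : Subgroup (Perm Ω)) : Prop where
  sec : Sec X H
  prim : IsPreprimitive H Ω
  socH : Soc H T
  ov : M ∈ Ov X H
  socM : Soc M S
  ne : S ≠ T

/-- the overgroups with socle in the family `P` -/
def OvP (P : Fam) (X H T : Subgroup (Perm Ω)) : Set (Subgroup (Perm Ω)) := {M | ∃ S, Up X H T M S ∧ P S}

/-- **Counting by invariant structures**: every member of `O` lies in one of `k` groups `Y i` without the alternating group. -/
theorem Sec.ncard_le_of_cover {X H : Subgroup (Perm Ω)} (s : Sec X H) {O : Set (Subgroup (Perm Ω))} {k : ℕ}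
    (Y : Fin k → Subgroup (Perm Ω)) (h : ∀ M ∈ O, M ∈ Ov X H ∧ ∃ i, M ≤ Y i ∧ ¬ alternatingGroup Ω ≤ Y i) :
    O.ncard ≤ k := by
  rcases O.eq_empty_or_nonempty with rfl | ⟨M₀, h₀⟩
  · simp
  have : Nonempty (Fin k) := ⟨(h M₀ h₀).2.choose⟩
  choose! f hf using fun M (hM : M ∈ O) => (h M hM).2
  have h1 := Set.ncard_le_ncard_of_injOn (s := O) (t := (Set.univ : Set (Fin k))) f (fun _ _ => Set.mem_univ _)
    (fun M hM M' hM' e => s.eq_of_le_of_le (h M hM).1 (h M' hM').1 (hf M hM).1 (e ▸ (hf M' hM').1) (hf M hM).2)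
  rwa [Set.ncard_univ, Nat.card_eq_fintype_card, Fintype.card_fin] at h1

end perm

/-- a table of rows: order of `T`, degree, bound on the number of overgroups -/
abbrev Tab := ℕ → ℕ → ℕ → Prop

/-- the overgroups with socle in `P` are bounded by a row of the table `R` -/
def Bnd (P : Fam) (R : Tab) : Prop :=
  ∀ (Ω : Type) [Fintype Ω] [DecidableEq Ω] (X H T : Subgroup (Perm Ω)), (OvP P X H T).Nonempty →
    ∃ k, R (Nat.card T) (Fintype.card Ω) k ∧ (OvP P X H T).ncard ≤ k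

theorem Bnd.mono {P : Fam} {R R' : Tab} (h : Bnd P R) (hR : ∀ t n k, R t n k → ∃ k', k ≤ k' ∧ R' t n k') : Bnd P R' :=
  fun Ω _ _ X H T hn => by
    obtain ⟨k, h1, h2⟩ := h Ω X H T hn
    obtain ⟨k', h3, h4⟩ := hR _ _ _ h1
    exact ⟨k', h4, h2.trans h3⟩

/-- no overgroup has its socle in `P` -/
def Nil (P : Fam) : Prop :=
  ∀ (Ω : Type) [Fintype Ω] [DecidableEq Ω] (X H T M S : Subgroup (Perm Ω)), Up X H T M S → P S → False

theorem Nil.bnd {P : Fam} (h : Nil P) (R : Tab) : Bnd P R := fun Ω _ _ X H T ⟨M, S, h1, h2⟩ => (h Ω X H T M S h1 h2).elim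

/-! ### the nine families -/

def fA : Fam := fun S _ => IsAlternating S
def fL : Fam := fun S _ => IsPSL S ∧ ¬ IsAlternating S
def fU : Fam := fun S _ => IsPSU S
def fS : Fam := fun S _ => IsPSp S
def fO : Fam := fun S _ => IsPOmegaOdd S
def fP : Fam := fun S _ => IsPOmegaPlus S
def fM : Fam := fun S _ => IsPOmegaMinus S
def fE : Fam := fun S _ => IsExceptionalLieType S ∧ ¬ Lie.IsoTits S
def fX : Fam := fun S _ => IsSporadicGroup S ∨ Lie.IsoTits S

end Cfsg.Agent.SM
end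

-- part: SM/Asm
section
set_option linter.all false
open scoped Cfsg.Agent.FastGrp

/-!
# SM (S3570): the almost simple box from the nine family bounds (helper32)
-/

set_option autoImplicit false
set_option linter.unusedSectionVars false

namespace Cfsg.Agent.SM

open Cfsg Equiv Subgroup MulAction

/-- the value `k` is `0` or a bound of the table -/
def Tab.At (R : Tab) (t n k : ℕ) : Prop := k = 0 ∨ R t n k

theorem Bnd.at {P : Fam} {R : Tab} (h : Bnd P R) {Ω : Type} [Fintype Ω] [DecidableEq Ω] (X H T : Subgroup (Perm Ω)) :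
    ∃ k, R.At (Nat.card T) (Fintype.card Ω) k ∧ (OvP P X H T).ncard ≤ k := by
  rcases (OvP P X H T).eq_empty_or_nonempty with e | e
  · exact ⟨0, Or.inl rfl, by simp [e]⟩
  · obtain ⟨k, h1, h2⟩ := h Ω X H T e
    exact ⟨k, Or.inr h1, h2⟩

/-- splitting a family into two parts -/
theorem Bnd.split {P P₁ P₂ : Fam} {R₁ R₂ R : Tab} (h₁ : Bnd P₁ R₁) (h₂ : Bnd P₂ R₂)
    (hP : ∀ (S : Type) [Group S], P S → P₁ S ∨ P₂ S)
    (hR : ∀ t n k₁ k₂, R₁.At t n k₁ → R₂.At t n k₂ → (R₁ t n k₁ ∨ R₂ t n k₂) → ∃ k, k₁ + k₂ ≤ k ∧ R t n k) :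
    Bnd P R := fun Ω _ _ X H T hn => by
  have hs : OvP P X H T ⊆ OvP P₁ X H T ∪ OvP P₂ X H T := fun M ⟨S, u, hS⟩ =>
    (hP S hS).imp (fun k => ⟨S, u, k⟩) fun k => ⟨S, u, k⟩
  have hc := (Set.ncard_le_ncard hs).trans (Set.ncard_union_le _ _)
  rcases (OvP P₁ X H T).eq_empty_or_nonempty with e₁ | e₁
  · obtain ⟨k₂, a, b⟩ := h₂ Ω X H T (by
      obtain ⟨M, hM⟩ := hn
      exact ⟨M, (hs hM).resolve_left (by simp [e₁])⟩)
    obtain ⟨k, c, d⟩ := hR _ _ 0 k₂ (Or.inl rfl) (Or.inr a) (Or.inr a)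
    rw [e₁, Set.ncard_empty] at hc
    exact ⟨k, d, by omega⟩
  · obtain ⟨k₁, a, b⟩ := h₁ Ω X H T e₁
    obtain ⟨k₂, a', b'⟩ := h₂.at X H T
    obtain ⟨k, c, d⟩ := hR _ _ k₁ k₂ (Or.inr a) a' (Or.inl a)
    exact ⟨k, d, by omega⟩

/-- a subfamily -/
theorem Bnd.sub {P P' : Fam} {R : Tab} (h : Bnd P R) (hP : ∀ (S : Type) [Group S], P' S → P S) :
    Bnd P' R := fun Ω _ _ X H T hn => by
  have hs : OvP P' X H T ⊆ OvP P X H T := fun M ⟨S, u, hS⟩ => ⟨S, u, hP S hS⟩
  obtain ⟨k, a, b⟩ := h Ω X H T (hn.mono hs)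
  exact ⟨k, a, (Set.ncard_le_ncard hs).trans b⟩

/-- a family without overgroups can be added -/
theorem Bnd.or_nil {P P₁ P₂ : Fam} {R : Tab} (h₁ : Bnd P₁ R) (h₂ : Nil P₂)
    (hP : ∀ (S : Type) [Group S], P S → P₁ S ∨ P₂ S) : Bnd P R := fun Ω _ _ X H T hn => by
  have hs : OvP P X H T ⊆ OvP P₁ X H T := fun M ⟨S, u, hS⟩ =>
    (hP S hS).elim (fun k => ⟨S, u, k⟩) fun k => (h₂ Ω X H T M S u k).elim
  obtain ⟨k, a, b⟩ := h₁ Ω X H T (hn.mono hs)
  exact ⟨k, a, (Set.ncard_le_ncard hs).trans b⟩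

theorem Nil.or {P P₁ P₂ : Fam} (h₁ : Nil P₁) (h₂ : Nil P₂) (hP : ∀ (S : Type) [Group S], P S → P₁ S ∨ P₂ S) : Nil P :=
  fun Ω _ _ X H T M S u hS => (hP S hS).elim (h₁ Ω X H T M S u) (h₂ Ω X H T M S u)

/-- the sum of the tables is at most nine -/
def Arith (RA RL RU RS RO RP RM RE RX : Tab) : Prop :=
  ∀ t n a l u s o p m e x : ℕ, RA.At t n a → RL.At t n l → RU.At t n u → RS.At t n s → RO.At t n o → RP.At t n p →
    RM.At t n m → RE.At t n e → RX.At t n x → a + l + u + s + o + p + m + e + x ≤ 9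

theorem fam_cases {S : Type} [Group S] (hk : IsKnownSimple' S) (hn : ¬ IsMulCommutative S) :
    fA S ∨ fL S ∨ fU S ∨ fS S ∨ fO S ∨ fP S ∨ fM S ∨ fE S ∨ fX S := by
  unfold fA fL fU fS fO fP fM fE fX
  rcases hk with h | h | h | h | h | h | h | h | h | h
  · have : Fact (Nat.card S).Prime := ⟨h⟩
    have : IsCyclic S := isCyclic_of_prime_card (p := Nat.card S) rfl
    exact absurd (inferInstance : IsMulCommutative S) hn
  all_goals tauto

/-- **The almost simple box from the nine bounds.** -/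
theorem boxAS_of (cfsg : ∀ (S : Type) [Group S] [Finite S] [IsSimpleGroup S], IsKnownSimple' S)
    {RA RL RU RS RO RP RM RE RX : Tab} (hA : Bnd fA RA) (hL : Bnd fL RL) (hU : Bnd fU RU) (hS : Bnd fS RS)
    (hO : Bnd fO RO) (hP : Bnd fP RP) (hM : Bnd fM RM) (hE : Bnd fE RE) (hX : Bnd fX RX)
    (ar : Arith RA RL RU RS RO RP RM RE RX) : BoxAS := fun Ω _ _ X H T s hp hT => by
  obtain ⟨a, a1, a2⟩ := hA.at X H T
  obtain ⟨l, l1, l2⟩ := hL.at X H T
  obtain ⟨u, u1, u2⟩ := hU.at X H T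
  obtain ⟨s', s1, s2⟩ := hS.at X H T
  obtain ⟨o, o1, o2⟩ := hO.at X H T
  obtain ⟨p, p1, p2⟩ := hP.at X H T
  obtain ⟨m, m1, m2⟩ := hM.at X H T
  obtain ⟨e, e1, e2⟩ := hE.at X H T
  obtain ⟨x, x1, x2⟩ := hX.at X H T
  have h := ar _ _ _ _ _ _ _ _ _ _ _ a1 l1 u1 s1 o1 p1 m1 e1 x1
  have hs : {M | M ∈ Ov X H ∧ ∃ S, Soc M S ∧ S ≠ T} ⊆ OvP fA X H T ∪ (OvP fL X H T ∪ (OvP fU X H T ∪ (OvP fS X H T ∪
      (OvP fO X H T ∪ (OvP fP X H T ∪ (OvP fM X H T ∪ (OvP fE X H T ∪ OvP fX X H T))))))) := by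
    rintro M ⟨hM, S, h1, h2⟩
    have := h1.simple
    have v : Up X H T M S := ⟨s, hp, hT, hM, h1, h2⟩
    rcases fam_cases (cfsg S) h1.nab with k | k | k | k | k | k | k | k | k
    · exact Or.inl ⟨S, v, k⟩
    · exact Or.inr (Or.inl ⟨S, v, k⟩)
    · exact Or.inr (Or.inr (Or.inl ⟨S, v, k⟩))
    · exact Or.inr (Or.inr (Or.inr (Or.inl ⟨S, v, k⟩)))
    · exact Or.inr (Or.inr (Or.inr (Or.inr (Or.inl ⟨S, v, k⟩))))
    · exact Or.inr (Or.inr (Or.inr (Or.inr (Or.inr (Or.inl ⟨S, v, k⟩)))))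
    · exact Or.inr (Or.inr (Or.inr (Or.inr (Or.inr (Or.inr (Or.inl ⟨S, v, k⟩))))))
    · exact Or.inr (Or.inr (Or.inr (Or.inr (Or.inr (Or.inr (Or.inr (Or.inl ⟨S, v, k⟩)))))))
    · exact Or.inr (Or.inr (Or.inr (Or.inr (Or.inr (Or.inr (Or.inr (Or.inr ⟨S, v, k⟩)))))))
  have k : ∀ {A B : Set (Subgroup (Perm Ω))} {i j : ℕ}, A.ncard ≤ i → B.ncard ≤ j → (A ∪ B).ncard ≤ i + j :=
    fun h1 h2 => (Set.ncard_union_le _ _).trans (add_le_add h1 h2)
  have := (Set.ncard_le_ncard hs).trans (k a2 (k l2 (k u2 (k s2 (k o2 (k p2 (k m2 (k e2 x2))))))))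
  omega

end Cfsg.Agent.SM

private theorem dce_aa8b5669327f : _root_.True := by
  try have : _root_.True := by simp only [_root_.Cfsg.Agent.SM.OvP.congr_simp]
  exact _root_.True.intro
end

-- part: SM/Sp/Defs
section
set_option linter.all false

/-!
# SM (S3570), sporadic socles: the interface of the numerical engine (helper26)

* `Lc U V` : the normaliser in `U` of a non-trivial characteristic subgroup of `V` lies in `V`;
* `Fa X Y` : what is seen inside the socle `K = X Y`;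
* `Lst K L` : the pairs `(|X|, |K : Y|)` lie in `L`;
* `BoxRed`, `BoxLc`, `BoxCh` : the reduction, the consequences of `Lc`, two facts on characters.
-/

set_option autoImplicit false

namespace Cfsg.Agent.SM.Sp

open Cfsg

/-- the normaliser in `U` of a non-trivial characteristic subgroup of `V` lies in `V` -/
def Lc {K : Type} [Group K] (U V : Subgroup K) : Prop :=
  ∀ C : Subgroup V, C.Characteristic → C ≠ ⊥ → U ⊓ Subgroup.normalizer (C.map V.subtype : Set K) ≤ V

/-- the factorisation `K = X Y` -/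
structure Fa {K : Type} [Group K] (X Y : Subgroup K) : Prop where
  simple : IsSimpleGroup X
  nab : ¬ IsMulCommutative X
  neX : X ≠ ⊤
  neY : Y ≠ ⊤
  pd : Ex78.Pd X Y
  nb : X ⊓ Y ≠ ⊥
  lcX : Lc X (X ⊓ Y)
  lcY : Lc ⊤ Y

/-- **the result of the engine** -/
def Lst (K : Type) [Group K] (L : List (ℕ × ℕ)) : Prop := ∀ X Y : Subgroup K, Fa X Y → (Nat.card X, Y.index) ∈ L

/-- the reduction to the socle -/
def BoxRed : Prop :=
  (∀ (Γ : Type) [Group Γ] [Finite Γ] (M S H T B : Subgroup Γ), Fac M S H T B → Fa (T.subgroupOf S) (B.subgroupOf S)) ∧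
    ∀ (K K' : Type) [Group K] [Group K'] (L : List (ℕ × ℕ)), (K ≃* K') → Lst K' L → Lst K L

/-- no divisor `d > 1` of `m` is `1` modulo `p` -/
def Cl (p m : ℕ) : Prop := ∀ d, d ∣ m → d % p = 1 → d = 1

/-- The consequences of `Lc U V`, `V ≤ U`, `|V| = p ^ k * m`. -/
def BoxLc : Prop :=
  ∀ (K : Type) [Group K] [Finite K] (U V : Subgroup K), V ≤ U → Lc U V → ∀ p k m : ℕ, p.Prime → 0 < k → ¬ p ∣ m →
    Nat.card V = p ^ k * m →
      (Cl p m → V.relIndex U % p = 1) ∧
      (Cl p m → k = 1 → Nat.card {x : U // x ^ p = 1} = 1 + (p - 1) * V.relIndex U) ∧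
      (m = 1 → k ≤ 2 → IsSimpleGroup U → IsMulCommutative U) ∧
      ∀ q j : ℕ, q.Prime → k = 1 → m = q ^ j → (∀ d, d ∣ m → d % p = 1 → d = 1 ∨ d = m) →
        V.relIndex U % p = 1 ∨ V.relIndex U % q = 1

/-- two facts on characters -/
def BoxCh : Prop :=
  ∀ (K : Type) [Group K] [Finite K],
    (∀ (X Y : Subgroup K) [Fintype X] [Fintype Y] (χ : K → ℂ), Ex78.Pd X Y → IsIrrCharacter K χ → χ 1 ≠ 1 →
      ∑ x : X, χ x = 0 ∨ ∑ y : Y, χ y = 0) ∧
    ∀ (A : Subgroup K) [Fintype A] (n : ℕ) (χ : ℕ → K → ℂ) (d m : ℕ → ℕ), (∀ j < n, IsIrrCharacter K (χ j)) →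
      (∀ i < n, ∀ j < n, χ i = χ j → i = j) → (∀ ψ, IsIrrCharacter K ψ → ∃ j < n, ψ = χ j) → (∀ j < n, χ j 1 = d j) →
      (∀ j < n, ∑ x : A, χ j x = (Nat.card A * m j : ℕ)) →
      ∑ j ∈ Finset.range n, d j * m j = A.index ∧ ∃ j < n, d j = 1 ∧ m j = 1

end Cfsg.Agent.SM.Sp
end

-- part: SM/Sp/Red
section
set_option linter.all false
open scoped Cfsg.Agent.FastGrp

/-!
# SM (S3570), sporadic socles: the boxes `BoxRed` and `BoxLc` (helper33)
-/

set_option autoImplicit false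

namespace Cfsg.Agent.SM.Sp

open Cfsg Subgroup

namespace Rd

theorem char_comap {A B : Type} [Group A] [Group B] (e : A ≃* B) {C : Subgroup B} (hC : C.Characteristic) :
    (C.comap e.toMonoidHom).Characteristic := by
  rw [characteristic_iff_le_comap] at hC ⊢
  intro φ x hx
  have h1 := hC ((e.symm.trans φ).trans e) hx
  simpa using h1

/-- `Lc` is inherited along an injective homomorphism -/
theorem lc_of_map {K K' : Type} [Group K] [Group K'] (f : K →* K') (hf : Function.Injective f) {U V : Subgroup K}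
    (h : Lc (U.map f) (V.map f)) : Lc U V := by
  intro C hC hne x hx
  let e : V ≃* V.map f := V.equivMapOfInjective f hf
  have he : ∀ v : V, ((e v : V.map f) : K') = f v := fun v => rfl
  have h1 : C.comap e.symm.toMonoidHom ≠ ⊥ := by
    intro h0
    apply hne
    rw [eq_bot_iff]
    intro c hc
    have h2 : e c ∈ C.comap e.symm.toMonoidHom := by simpa using hc
    rw [h0, mem_bot] at h2
    exact mem_bot.2 (e.injective (h2.trans (map_one e).symm))
  have h2 : (C.comap e.symm.toMonoidHom).map (V.map f).subtype = (C.map V.subtype).map f := by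
    ext y
    constructor
    · rintro ⟨z, hz, rfl⟩
      refine ⟨e.symm z, ⟨e.symm z, hz, rfl⟩, ?_⟩
      rw [← he, e.apply_symm_apply]
      rfl
    · rintro ⟨_, ⟨c, hc, rfl⟩, rfl⟩
      exact ⟨e c, by simpa using hc, rfl⟩
  have h3 := h _ (char_comap e.symm hC) h1 (x := f x) ⟨⟨x, hx.1, rfl⟩, by
    rw [h2]
    exact le_normalizer_map f ⟨x, hx.2, rfl⟩⟩
  obtain ⟨y, hy, h4⟩ := h3
  exact hf h4 ▸ hy

theorem lc_map {K K' : Type} [Group K] [Group K'] (e : K ≃* K') {U V : Subgroup K} (h : Lc U V) :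
    Lc (U.map e.toMonoidHom) (V.map e.toMonoidHom) := by
  have h1 : ∀ W : Subgroup K, (W.map e.toMonoidHom).map e.symm.toMonoidHom = W := fun W => by
    rw [map_map]
    simp
  refine lc_of_map e.symm.toMonoidHom e.symm.injective ?_
  rwa [h1, h1]

theorem Lc.mono {K : Type} [Group K] {U U' V : Subgroup K} (h : Lc U V) (hU : U' ≤ U) : Lc U' V :=
  fun C hC hne => (inf_le_inf_right _ hU).trans (h C hC hne)

/-- a maximal subgroup of an almost simple group which does not contain the socle -/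
theorem lc_of_cov {Γ : Type} [Group Γ] {G N D : Subgroup Γ} (hAS : AS G N) (hD : D ⋖ G) (hND : ¬ N ≤ D) :
    Lc N (N ⊓ D) := by
  intro C hC hne x hx
  set C' := C.map (N ⊓ D).subtype with hC'
  have hCN : C' ≤ N ⊓ D := map_subtype_le _
  have h1 : D ≤ normalizer (C' : Set Γ) := by
    have h2 : ∀ d ∈ D, ∀ c ∈ C', d * c * d⁻¹ ∈ C' := by
      rintro d hd _ ⟨c, hc, rfl⟩
      have h3 : ∀ d ∈ D, ∀ v ∈ N ⊓ D, d * v * d⁻¹ ∈ N ⊓ D := fun d hd v hv =>
        ⟨hAS.conj d (hD.le hd) v hv.1, D.mul_mem (D.mul_mem hd hv.2) (D.inv_mem hd)⟩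
      let φ : ↥(N ⊓ D) ≃* ↥(N ⊓ D) :=
        { toFun := fun v => ⟨d * v * d⁻¹, h3 d hd v v.2⟩
          invFun := fun v => ⟨d⁻¹ * v * d⁻¹⁻¹, h3 d⁻¹ (D.inv_mem hd) v v.2⟩
          left_inv := fun v => Subtype.ext (by simp [mul_assoc])
          right_inv := fun v => Subtype.ext (by simp [mul_assoc])
          map_mul' := fun v w => Subtype.ext (by simp [mul_assoc]) }
      exact ⟨φ c, characteristic_iff_le_comap.1 hC φ hc, rfl⟩
    intro d hd
    rw [mem_normalizer_iff]
    intro c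
    refine ⟨h2 d hd c, fun hc => ?_⟩
    have h4 := h2 d⁻¹ (D.inv_mem hd) _ hc
    simpa [mul_assoc] using h4
  rcases hD.eq_or_eq (le_inf hD.le h1) (inf_le_left : G ⊓ normalizer (C' : Set Γ) ≤ G) with h2 | h2
  · refine ⟨hx.1, ?_⟩
    have h3 : x ∈ G ⊓ normalizer (C' : Set Γ) := ⟨hAS.le hx.1, hx.2⟩
    rwa [h2] at h3
  · exfalso
    have h3 : G ≤ normalizer (C' : Set Γ) := h2 ▸ inf_le_right
    have hs := hAS.simple
    have h4 : (C'.subgroupOf N).Normal := ⟨fun c hc g => by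
      rw [mem_subgroupOf] at hc ⊢
      exact (mem_normalizer_iff.1 (h3 (hAS.le g.2)) c).1 hc⟩
    rcases h4.eq_bot_or_eq_top with h5 | h5
    · apply hne
      rw [subgroupOf_eq_bot] at h5
      have h6 : C' = ⊥ := h5.eq_bot_of_le (hCN.trans inf_le_left)
      exact (map_eq_bot_iff_of_injective _ (N ⊓ D).subtype_injective).1 h6
    · rw [subgroupOf_eq_top] at h5
      exact hND (h5.trans (hCN.trans inf_le_right))

theorem lc_sub {Γ : Type} [Group Γ] {S U V : Subgroup Γ} (h : Lc U V) (hV : V ≤ S) :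
    Lc (U.subgroupOf S) (V.subgroupOf S) := by
  refine lc_of_map S.subtype S.subtype_injective ?_
  rw [map_subgroupOf_eq_of_le hV, subgroupOf_map_subtype]
  exact Lc.mono h inf_le_left

theorem fa_of {Γ : Type} [Group Γ] {M S H T B : Subgroup Γ} (h : Fac M S H T B) :
    Fa (T.subgroupOf S) (B.subgroupOf S) := by
  have e : T.subgroupOf S ≃* T := subgroupOfEquivOfLe h.le
  have hs := h.asH.simple
  refine ⟨e.isSimpleGroup, fun hc => h.asH.nab ⟨⟨fun a b => ?_⟩⟩, fun h1 => h.ne (le_antisymm h.le ?_), fun h1 => h.nB ?_,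
    fun g => ?_, fun h1 => h.nb ?_, ?_, ?_⟩
  · obtain ⟨a, rfl⟩ := e.surjective a
    obtain ⟨b, rfl⟩ := e.surjective b
    rw [← map_mul, ← map_mul, hc.is_comm.comm a b]
  · exact subgroupOf_eq_top.1 h1
  · exact subgroupOf_eq_top.1 h1
  · obtain ⟨t, ht, b, hb, h1⟩ := h.fac g g.2
    have hbS : b ∈ S := by
      have h2 : b = t⁻¹ * g := by rw [h1, inv_mul_cancel_left]
      exact h2 ▸ S.mul_mem (S.inv_mem (h.le ht)) g.2
    exact ⟨⟨t, h.le ht⟩, ht, ⟨b, hbS⟩, hb, Subtype.ext h1⟩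
  · rw [eq_bot_iff]
    intro x hx
    have h2 : (⟨x, h.le hx.1⟩ : S) ∈ T.subgroupOf S ⊓ B.subgroupOf S := ⟨hx.1, hx.2⟩
    rw [h1, mem_bot] at h2
    exact mem_bot.2 (congrArg Subtype.val h2)
  · have h1 := lc_of_cov h.asH h.pr fun h1 => h.nT (h1.trans inf_le_right)
    have h2 : T ⊓ (H ⊓ B) = T ⊓ B := by rw [← inf_assoc, inf_eq_left.2 h.asH.le]
    rw [h2] at h1
    exact lc_sub h1 (inf_le_left.trans h.le)
  · have h1 := lc_sub (lc_of_cov h.asM h.bm h.nB) (inf_le_left : S ⊓ B ≤ S)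
    rwa [subgroupOf_self, inf_subgroupOf_left] at h1

theorem fa_map {K K' : Type} [Group K] [Group K'] (e : K ≃* K') {X Y : Subgroup K} (h : Fa X Y) :
    Fa (X.map e.toMonoidHom) (Y.map e.toMonoidHom) := by
  have f : X ≃* X.map e.toMonoidHom := X.equivMapOfInjective _ e.injective
  have hs := h.simple
  have ht : ∀ Z : Subgroup K, Z.map e.toMonoidHom = ⊤ → Z = ⊤ := fun Z hZ =>
    map_injective (f := e.toMonoidHom) e.injective (hZ.trans (map_top_of_surjective _ e.surjective).symm)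
  have hi : X.map e.toMonoidHom ⊓ Y.map e.toMonoidHom = (X ⊓ Y).map e.toMonoidHom := (map_inf _ _ _ e.injective).symm
  refine ⟨f.symm.isSimpleGroup, fun hc => h.nab ⟨⟨fun a b => f.injective ?_⟩⟩, fun h1 => h.neX (ht _ h1),
    fun h1 => h.neY (ht _ h1), h.pd.map _ e.surjective, fun h1 => h.nb ?_, ?_, ?_⟩
  · rw [map_mul, map_mul, hc.is_comm.comm]
  · rw [hi] at h1
    exact (map_eq_bot_iff_of_injective _ e.injective).1 h1
  · rw [hi]
    exact lc_map e h.lcX
  · have h1 := lc_map e h.lcY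
    rwa [map_top_of_surjective _ e.surjective] at h1

/-! ### the consequences of `Lc` -/

section

variable {G : Type} [Group G] [Finite G] {V : Subgroup G}

/-- a normal Sylow subgroup of `V` has normaliser `V` and is a Sylow subgroup of `G` -/
theorem core (h : Lc ⊤ V) {p k m : ℕ} (hp : p.Prime) (hk : 0 < k) (hm : ¬ p ∣ m) (hV : Nat.card V = p ^ k * m)
    (P : Subgroup V) (hP : Nat.card P = p ^ k) (hn : P.Normal) :
    normalizer (P.map V.subtype : Set G) = V ∧ V.index % p = 1 := by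
  have := Fact.mk hp
  have hi : P.index = m := by
    have h1 := P.card_mul_index
    rw [hP, hV] at h1
    exact Nat.eq_of_mul_eq_mul_left (pow_pos hp.pos k) h1
  let Q : Sylow p V := (IsPGroup.of_card hP).toSylow (hi ▸ hm)
  have hc : P.Characteristic := Q.characteristic_of_normal hn
  have hne : P ≠ ⊥ := by
    rintro rfl
    rw [card_bot] at hP
    exact (Nat.one_lt_pow hk.ne' hp.one_lt).ne hP
  have h1 : normalizer (P.map V.subtype : Set G) = V := by
    refine le_antisymm (fun x hx => h P hc hne ⟨mem_top x, hx⟩) fun v hv => ?_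
    exact le_normalizer_map V.subtype ⟨⟨v, hv⟩, (normalizer_eq_top_iff.2 hn).symm ▸ mem_top _, rfl⟩
  refine ⟨h1, ?_⟩
  have hP' : Nat.card (P.map V.subtype) = p ^ k := by rw [card_map_of_injective V.subtype_injective, hP]
  have h2 := Sylow.card_normalizer_modEq_card hP'
  rw [h1, ← V.card_mul_index, hV, pow_succ, mul_assoc] at h2
  have h3 : m ≡ m * V.index [MOD p] := Nat.ModEq.mul_left_cancel' (pow_pos hp.pos k).ne' h2
  have h4 : 1 ≡ V.index [MOD p] :=
    Nat.ModEq.cancel_left_of_coprime ((Nat.Prime.coprime_iff_not_dvd hp).2 hm) (by rwa [mul_one])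
  rw [← h4, Nat.mod_eq_of_lt hp.one_lt]

theorem exists_syl {A : Type} [Group A] [Finite A] {p k m : ℕ} [hp : Fact p.Prime] (hm : ¬ p ∣ m)
    (hV : Nat.card A = p ^ k * m) :
    ∃ P : Sylow p A, Nat.card P = p ^ k ∧ Nat.card (Sylow p A) ∣ m ∧ Nat.card (Sylow p A) % p = 1 ∧ P.index = m := by
  obtain ⟨P⟩ : Nonempty (Sylow p A) := inferInstance
  have hm0 : m ≠ 0 := by
    rintro rfl
    exact hm (dvd_zero p)
  have h1 : Nat.card P = p ^ k := by
    rw [P.card_eq_multiplicity, hV, Nat.factorization_mul (pow_pos hp.out.pos k).ne' hm0, Finsupp.add_apply,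
      Nat.factorization_eq_zero_of_not_dvd hm, hp.out.factorization_pow, Finsupp.single_eq_same, add_zero]
  have hi : P.index = m := by
    have h2 := (P : Subgroup A).card_mul_index
    rw [h1, hV] at h2
    exact Nat.eq_of_mul_eq_mul_left (pow_pos hp.out.pos k) h2
  refine ⟨P, h1, hi ▸ P.card_dvd_index, ?_, hi⟩
  rw [card_sylow_modEq_one p A, Nat.mod_eq_of_lt hp.out.one_lt]

theorem normal_of_card {A : Type} [Group A] [Finite A] {p : ℕ} [Fact p.Prime] (h : Nat.card (Sylow p A) = 1)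
    (P : Sylow p A) : P.Normal := by
  have := (Nat.card_eq_one_iff_unique.1 h).1
  exact P.normal_of_subsingleton

theorem comm_of_card {A : Type} [Group A] [Finite A] {p k : ℕ} [Fact p.Prime] (hA : Nat.card A = p ^ k) (hk : k ≤ 2)
    (a b : A) : a * b = b * a := by
  rcases Nat.lt_or_ge k 2 with h | h
  · have h1 : IsCyclic A := isCyclic_of_card_dvd_prime (p := p) (by
      rw [hA]
      exact (pow_dvd_pow p (by omega : k ≤ 1)).trans (pow_one p).dvd)
    exact (IsCyclic.isMulCommutative (α := A)).is_comm.comm a b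
  · exact (IsPGroup.isMulCommutative_of_card_eq_prime_sq (p := p) (by rw [hA, le_antisymm hk h])).is_comm.comm a b

theorem card_pow_eq_one {p : ℕ} [hp : Fact p.Prime] :
    Nat.card {x : G // x ^ p = 1} = 1 + Nat.card {x : G // orderOf x = p} := by
  have h1 : {x : G | x ^ p = 1} = insert 1 {x : G | orderOf x = p} := by
    ext x
    constructor
    · intro hx
      by_cases h : x = 1
      · exact Or.inl h
      · exact Or.inr (orderOf_eq_prime hx h)
    · rintro (rfl | hx)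
      · exact one_pow p
      · exact (show orderOf x = p from hx) ▸ pow_orderOf_eq_one x
  have h2 : (1 : G) ∉ {x : G | orderOf x = p} := fun h => hp.out.one_lt.ne ((orderOf_one (G := G)).symm.trans h)
  change Set.ncard {x : G | x ^ p = 1} = 1 + Set.ncard {x : G | orderOf x = p}
  rw [h1, Set.ncard_insert_of_notMem h2, add_comm]

theorem lc_top (h : Lc ⊤ V) {p k m : ℕ} (hp : p.Prime) (hk : 0 < k) (hm : ¬ p ∣ m) (hV : Nat.card V = p ^ k * m) :
    (Cl p m → V.index % p = 1) ∧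
      (Cl p m → k = 1 → Nat.card {x : G // x ^ p = 1} = 1 + (p - 1) * V.index) ∧
      (m = 1 → k ≤ 2 → IsSimpleGroup G → IsMulCommutative G) ∧
      ∀ q j : ℕ, q.Prime → k = 1 → m = q ^ j → (∀ d, d ∣ m → d % p = 1 → d = 1 ∨ d = m) →
        V.index % p = 1 ∨ V.index % q = 1 := by
  have := Fact.mk hp
  obtain ⟨P, h1, h2, h3, h4⟩ := exists_syl hm hV
  have hc := fun h5 : Nat.card (Sylow p V) = 1 => core h hp hk hm hV P h1 (normal_of_card h5 P)
  have hP' : Nat.card ((P : Subgroup V).map V.subtype) = p ^ k := by rw [card_map_of_injective V.subtype_injective, h1]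
  have hs : Nat.card (Sylow p V) = 1 → ¬ p ∣ ((P : Subgroup V).map V.subtype).index := fun h5 hd => by
    rw [index_map_subtype, h4] at hd
    rcases hp.dvd_mul.1 hd with h6 | h6
    · exact hm h6
    · have h7 := (hc h5).2
      rw [Nat.mod_eq_zero_of_dvd h6] at h7
      exact zero_ne_one h7
  refine ⟨fun h5 => (hc (h5 _ h2 h3)).2, fun h5 h6 => ?_, fun h5 h6 hG => ?_, fun q j hq h5 h6 h7 => ?_⟩
  · let Q : Sylow p G := (IsPGroup.of_card hP').toSylow (hs (h5 _ h2 h3))
    have h8 : (Nat.card G).factorization p = 1 := by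
      have h9 := Q.card_eq_multiplicity
      rw [show Nat.card Q = p ^ k from hP', h6] at h9
      exact (Nat.pow_right_injective hp.two_le h9).symm
    rw [card_pow_eq_one, H180.MEl.card_order_prime h8, Q.card_eq_index_normalizer, mul_comm]
    congr 3
    exact (hc (h5 _ h2 h3)).1
  · have h8 : Nat.card (Sylow p V) = 1 := Nat.dvd_one.1 (h5 ▸ h2)
    let Q : Sylow p G := (IsPGroup.of_card hP').toSylow (hs h8)
    have h9 : normalizer ((Q : Subgroup G) : Set G) = V := (hc h8).1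
    have hcV : ∀ a b : V, a * b = b * a := comm_of_card (p := p) (by rw [hV, h5, mul_one]) h6
    have hQV : (Q : Subgroup G) ≤ V := map_subtype_le _
    have hle : normalizer ((Q : Subgroup G) : Set G) ≤ centralizer ((Q : Subgroup G) : Set G) := by
      rw [h9]
      intro v hv x hx
      exact congrArg Subtype.val (hcV ⟨x, hQV hx⟩ ⟨v, hv⟩)
    have h10 := MonoidHom.ker_transferSylow_isComplement' Q hle
    rcases (inferInstance : (MonoidHom.transferSylow Q hle).ker.Normal).eq_bot_or_eq_top with h11 | h11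
    · rw [h11, isComplement'_bot_left] at h10
      exact ⟨⟨fun a b => congrArg Subtype.val (hcV ⟨a, hQV (h10 ▸ mem_top a)⟩ ⟨b, hQV (h10 ▸ mem_top b)⟩)⟩⟩
    · rw [h11, isComplement'_top_left] at h10
      have h12 : Nat.card Q = p ^ k := hP'
      rw [h10, card_bot] at h12
      exact absurd h12 (Nat.one_lt_pow hk.ne' hp.one_lt).ne
  · by_cases h8 : Nat.card (Sylow p V) = 1
    · exact Or.inl (hc h8).2
    · right
      have h9 : Nat.card (Sylow p V) = m := (h7 _ h2 h3).resolve_left h8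
      have hj : 0 < j := Nat.pos_of_ne_zero fun h0 => h8 (by rw [h9, h6, h0, pow_zero])
      have h10 : normalizer ((P : Subgroup V) : Set V) = P := by
        refine le_antisymm (relIndex_eq_one.1 ?_) le_normalizer
        have h11 := relIndex_mul_index (le_normalizer : (P : Subgroup V) ≤ _)
        rw [h4, ← h9, P.card_eq_index_normalizer] at h11
        exact Nat.eq_of_mul_eq_mul_right (Nat.pos_of_ne_zero index_ne_zero_of_finite) (h11.trans (one_mul _).symm)
      have hle : normalizer ((P : Subgroup V) : Set V) ≤ centralizer ((P : Subgroup V) : Set V) := by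
        rw [h10]
        intro v hv x hx
        exact congrArg Subtype.val (comm_of_card h1 (by omega) (⟨x, hx⟩ : P) ⟨v, hv⟩)
      have h11 := MonoidHom.ker_transferSylow_isComplement' P hle
      have h12 : Nat.card (MonoidHom.transferSylow P hle).ker = q ^ j := by rw [← h11.index_eq_card, h4, h6]
      refine (core h hq hj (m := p) (fun hd => hm ?_) (by rw [hV, h5, h6, pow_one, mul_comm]) _ h12 inferInstance).2
      rw [h6, ← (Nat.prime_dvd_prime_iff_eq hq hp).1 hd]
      exact dvd_pow_self q hj.ne'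

end

end Rd

theorem boxRed : BoxRed := by
  refine ⟨fun Γ _ _ M S H T B h => Rd.fa_of h, fun K K' _ _ L e h X Y hF => ?_⟩
  have h1 := h _ _ (Rd.fa_map e hF)
  rwa [card_map_of_injective e.injective, index_map_of_bijective e.bijective] at h1

theorem boxLc : BoxLc := by
  intro K _ _ U V hVU h p k m hp hk hm hV
  have h1 := Rd.lc_sub h hVU
  rw [subgroupOf_self] at h1
  exact Rd.lc_top h1 hp hk hm ((Nat.card_congr (subgroupOfEquivOfLe hVU).toEquiv).trans hV)

end Cfsg.Agent.SM.Sp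
end

-- part: SM/CS/Defs
section
set_option linter.all false
open scoped Cfsg.Agent.FastGrp

/-!
# SM (S3570), common box CS: a factor of class `S` which is transitive on a sphere, `d ≥ 13` (helper62, `notes/SM/cs.md`)

* `Sph k q m B Sg G X` : one of the five spheres; `G = SU, Ω, Sp`, `G ⊓ X` the stabiliser of a point of the sphere;
* `Cs k G X Y P` : `Y ≤ G` proper modulo scalars, in the residual class with core `P`, `G = Y X`;
* `Hy` : the same with the derived facts (polar space, tight, index);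
* `Cov G π S`, `pre π Y` : `S = G / scalars` inside an abstract group, the preimage of `Y`;
* results for the family owners: `CS1` (`T` of class `S`, `Ω` the sphere), `CS2` (`B` of class `S`), `BoxCo` (count).
-/

set_option autoImplicit false
set_option linter.unusedSectionVars false

namespace Cfsg.Agent.SM.CS

open Cfsg Cfsg.Geo Matrix Subgroup
open Cfsg.Agent.H915.LD (Core FixQ)

/-- unitary `N₁`; plus type `N₁`, `N₂⁻`; odd dimension `N₁⁻`; symplectic, forms of minus type -/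
inductive Kind | u | p1 | p2 | o | s
  deriving DecidableEq

/-- the size of the sphere is `num / den` -/
def Kind.num : Kind → ℕ → ℕ → ℕ
  | .u, q, m => q ^ (2 * m - 1) * (q ^ (2 * m) - 1)
  | .p1, q, m => q ^ (m - 1) * (q ^ m - 1)
  | .p2, q, m => q ^ (2 * m - 2) * (q ^ m - 1) * (q ^ (m - 1) - 1)
  | .o, q, m => q ^ m * (q ^ m - 1)
  | .s, q, m => q ^ m * (q ^ m - 1)

def Kind.den : Kind → ℕ → ℕ
  | .u, q => q + 1
  | .p1, q => Nat.gcd 2 (q - 1)
  | .p2, q => 2 * (q + 1)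
  | .o, _ => 2
  | .s, _ => 2

theorem Kind.num_realised : ∀ k q m, Kind.num k q m = Kind.num k q m := fun k q m => by
  have := @Kind.num.eq_def
  have := @Kind.den.eq_def
  rfl

section matrix

variable {ι : Type} [Fintype ι] [DecidableEq ι] {K : Type} [Field K] [Fintype K]

/-- the isometry group of a form in two arguments (`spGL m K = Iso (sympForm m K)`, `GU n K q = Iso (hermForm n K q)` by `rfl`) -/
abbrev Iso (f : (ι → K) → (ι → K) → K) : Subgroup (GL ι K) := preserving (Units.coeHom (Matrix ι ι K)) f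

/-- the five spheres -/
inductive Sph (q m : ℕ) : Kind → ((ι → K) → (ι → K) → K) → ((ι → K) → Prop) → Subgroup (GL ι K) → Subgroup (GL ι K) → Prop
  | u (f : (ι → K) → (ι → K) → K) (hf : IsUnitaryFormPow q f) (hK : Fintype.card K = q ^ 2) (hd : Fintype.card ι = 2 * m)
      (v : ι → K) (hv : f v v ≠ 0) :
      Sph q m .u f (fun x => f x x = 0) (Iso f ⊓ specialLinear ι K) (subspaceStabilizer (Submodule.span K {v}))
  | p1 (Q : (ι → K) → K) (hQ : IsNondegenerateQuadraticForm Q) (hp : IsPlusTypeOn Q ⊤) (hK : Fintype.card K = q)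
      (hd : Fintype.card ι = 2 * m) (v : ι → K) (hv : Q v ≠ 0) :
      Sph q m .p1 (QuadraticMap.polar Q) (fun x => Q x = 0) (omegaGL Q) (subspaceStabilizer (Submodule.span K {v}))
  | p2 (Q : (ι → K) → K) (hQ : IsNondegenerateQuadraticForm Q) (hp : IsPlusTypeOn Q ⊤) (hK : Fintype.card K = q)
      (hd : Fintype.card ι = 2 * m) (W : Submodule K (ι → K)) (h2 : Module.finrank K W = 2)
      (hW : ∀ w ∈ W, Q w = 0 → w = 0) :
      Sph q m .p2 (QuadraticMap.polar Q) (fun x => Q x = 0) (omegaGL Q) (subspaceStabilizer W)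
  | o (Q : (ι → K) → K) (hQ : IsNondegenerateQuadraticForm Q) (hK : Fintype.card K = q) (hq : Odd q)
      (hd : Fintype.card ι = 2 * m + 1) (W : Submodule K (ι → K)) (h2 : Module.finrank K W = 2 * m)
      (hn : IsNondegenerateOn (QuadraticMap.polar Q) W) (hW : ¬ IsPlusTypeOn Q W) :
      Sph q m .o (QuadraticMap.polar Q) (fun x => Q x = 0) (omegaGL Q) (subspaceStabilizer W)
  | s (Q : (ι → K) → K) (hQ : IsNondegenerateQuadraticForm Q) (hp : ¬ IsPlusTypeOn Q ⊤) (hK : Fintype.card K = q)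
      (hq : Even q) (hd : Fintype.card ι = 2 * m) :
      Sph q m .s (QuadraticMap.polar Q) (fun _ => True) (Iso (QuadraticMap.polar Q)) (isometryGroup K Q)

/-- `Y ≤ G` is proper modulo scalars, in the residual class with core `P`, and `G = Y X` -/
structure Cs (k : Kind) (G X Y P : Subgroup (GL ι K)) : Prop where
  big : 13 ≤ Fintype.card ι
  core : IsResidualCore Y P
  le : Y ≤ G
  prop : ¬ G ≤ Y ⊔ scalars ι K
  fac : ∀ g ∈ G, ∃ y ∈ Y, ∃ x ∈ X, g = y * x
  nq : k = .s → ¬ FixQ P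

/-- `P` contains a classical group of `K ^ ι` (`H100.Ppd.Nat'` for any index type; `natG_iff`) -/
def NatG (P : Subgroup (GL ι K)) : Prop :=
  specialLinear ι K ≤ P ∨
  (∃ f : (ι → K) → (ι → K) → K, IsSymplecticForm f ∧ ∀ x : GL ι K, FixesForm {(x : Matrix ι ι K)} f → x ∈ P) ∨
  (∃ (τ : K ≃+* K) (f : (ι → K) → (ι → K) → K), IsUnitaryForm τ f ∧
    ∀ x : GL ι K, FixesForm {(x : Matrix ι ι K)} f → Matrix.GeneralLinearGroup.det x = 1 → x ∈ P) ∨
  (∃ Q : (ι → K) → K, IsNondegenerateQuadraticForm Q ∧ omegaGL Q ≤ P)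

theorem natG_iff {n : ℕ} (P : Subgroup (GL (Fin n) K)) : NatG P ↔ H100.Ppd.Nat' P := Iff.rfl

/-- the same with the derived facts -/
structure Hy (k : Kind) (q m : ℕ) (B : (ι → K) → (ι → K) → K) (Sg : (ι → K) → Prop) (G X Y P : Subgroup (GL ι K)) :
    Prop extends Cs k G X Y P where
  sph : Sph q m k B Sg G X
  pol : Ti.Pol B Sg G
  nd : IsNondegenerateForm B
  tight : Ti.Tight B Sg m Y
  sc : G ⊓ scalars ι K ≤ X
  idx : X.relIndex Y * k.den q = k.num q m
  nat : ¬ NatG P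

/-- the image of `X ⊓ P` in `P / scalars` -/
def img (X P : Subgroup (GL ι K)) : Subgroup (H915.LD.Soc P) := (X.subgroupOf P).map (QuotientGroup.mk' _)

end matrix

/-- `A` is not properly contained in a proper subgroup invariant under the automorphisms that normalise `A` -/
def Prm {T : Type} [Group T] (A : Subgroup T) : Prop :=
  ∀ C : Subgroup T, A ≤ C → (∀ φ : MulAut T, A.map φ.toMonoidHom = A → C.map φ.toMonoidHom = C) → C = A ∨ C = ⊤

/-- a property of all `Hy` (index type `Fin n`) -/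
def AllHy (R : ∀ (n : ℕ) (K : Type) [Field K] [Fintype K], Kind → ℕ → ℕ → ((Fin n → K) → (Fin n → K) → K) →
    Subgroup (GL (Fin n) K) → Subgroup (GL (Fin n) K) → Subgroup (GL (Fin n) K) → Prop) : Prop :=
  ∀ (n : ℕ) (K : Type) [Field K] [Fintype K] (k : Kind) (q m : ℕ) (B : (Fin n → K) → (Fin n → K) → K)
    (Sg : (Fin n → K) → Prop) (G X Y P : Subgroup (GL (Fin n) K)), Hy k q m B Sg G X Y P → R n K k q m B X Y P

/-! ### the surviving rows -/

/-- `B₄` on the spin module, `q` odd -/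
def RowBo (k : Kind) (q m : ℕ) (T : Type) [Group T] : Prop :=
  k = .p1 ∧ m = 8 ∧ Odd q ∧
    ∃ (F : Type) (_ : Field F) (_ : Fintype F), Fintype.card F = q ∧ Nonempty (T ≃* POmega F (quadFormOdd 4 F))
/-- `C₄` on the spin module, `q` even -/
def RowBe (k : Kind) (q m : ℕ) (T : Type) [Group T] : Prop :=
  k = .p1 ∧ m = 8 ∧ Even q ∧ ∃ (F : Type) (_ : Field F) (_ : Fintype F), Fintype.card F = q ∧ Nonempty (T ≃* PSp 4 F)
/-- `C₃` in dimension 13 -/
def RowC (k : Kind) (q m : ℕ) (T : Type) [Group T] : Prop :=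
  k = .o ∧ m = 6 ∧ ∃ (F : Type) (_ : Field F) (_ : Fintype F), Fintype.card F = q ∧ Nonempty (T ≃* PSp 3 F)
/-- `F₄` in dimension 25 -/
def RowF (k : Kind) (q m : ℕ) (T : Type) [Group T] : Prop :=
  k = .o ∧ m = 12 ∧ ∃ (F : Type) (_ : Field F) (_ : Fintype F), Fintype.card F = q ∧ Nonempty (T ≃* Lie.chevF4.group F)
/-- `Co₁` in dimension 24 -/
def RowCo (k : Kind) (q m : ℕ) (T : Type) [Group T] : Prop := k = .p1 ∧ m = 12 ∧ q = 2 ∧ Spor.IsoCo1 T

/-! ### the boxes -/

/-- [CS-Nat] -/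
def BoxNat : Prop :=
  ∀ (ι : Type) [Fintype ι] [DecidableEq ι] (K : Type) [Field K] [Fintype K] (k : Kind) (q m : ℕ) (B : (ι → K) → (ι → K) → K)
    (Sg : (ι → K) → Prop) (G X Y P : Subgroup (GL ι K)), Sph q m k B Sg G X → Cs k G X Y P → ¬ NatG P

/-- [CS-Idx] the size of the sphere -/
def BoxIdx : Prop :=
  ∀ (ι : Type) [Fintype ι] [DecidableEq ι] (K : Type) [Field K] [Fintype K] (k : Kind) (q m : ℕ) (B : (ι → K) → (ι → K) → K)
    (Sg : (ι → K) → Prop) (G X : Subgroup (GL ι K)), Sph q m k B Sg G X → 7 ≤ Fintype.card ι →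
    X.relIndex G * k.den q = k.num q m

/-- [CS-Ti] polar space, tight -/
def BoxTi : Prop :=
  ∀ (ι : Type) [Fintype ι] [DecidableEq ι] (K : Type) [Field K] [Fintype K] (k : Kind) (q m : ℕ) (B : (ι → K) → (ι → K) → K)
    (Sg : (ι → K) → Prop) (G X Y P : Subgroup (GL ι K)), Sph q m k B Sg G X → Cs k G X Y P →
    Ti.Pol B Sg G ∧ Ti.Tight B Sg m Y

/-- [CS-Hy] the derived facts -/
def BoxHy : Prop :=
  ∀ (ι : Type) [Fintype ι] [DecidableEq ι] (K : Type) [Field K] [Fintype K] (k : Kind) (q m : ℕ) (B : (ι → K) → (ι → K) → K)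
    (Sg : (ι → K) → Prop) (G X Y P : Subgroup (GL ι K)), Sph q m k B Sg G X → Cs k G X Y P → Hy k q m B Sg G X Y P

/-- [CS-D] defining characteristic (helper69) -/
def BoxD : Prop := AllHy fun _ K _ _ k q m _ _ _ P => ∀ p : ℕ, p.Prime → CharP K p → IsLieTypeChar p (H915.LD.Soc P) →
  RowBo k q m (H915.LD.Soc P) ∨ RowBe k q m (H915.LD.Soc P) ∨ RowC k q m (H915.LD.Soc P) ∨ RowF k q m (H915.LD.Soc P)

/-- [CS-X] the other socles (helper85) -/
def BoxX : Prop := AllHy fun _ K _ _ k q m _ _ _ P => ∀ p : ℕ, p.Prime → CharP K p → ¬ IsLieTypeChar p (H915.LD.Soc P) →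
  RowCo k q m (H915.LD.Soc P)

/-- the stabiliser centralises a canonical involution -/
def Inv {n : ℕ} {K : Type} [Field K] [Fintype K] (X P : Subgroup (GL (Fin n) K)) : Prop :=
  ∃ z : P, (z : GL (Fin n) K) ∈ X ∧ z * z = 1 ∧ (z : GL (Fin n) K) ∉ scalars (Fin n) K ∧
    (∃ c : P, c * z = z * c ∧ (c : GL (Fin n) K) ∉ X) ∧
    ∀ φ : MulAut (H915.LD.Soc P), (img X P).map φ.toMonoidHom = img X P → φ (QuotientGroup.mk z) = QuotientGroup.mk z

/-- the stabiliser fixes a subspace of dimension 8 perpendicular to the point, and (if `P` is transitive) is not primitive -/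
def Red {n : ℕ} {K : Type} [Field K] [Fintype K] (B : (Fin n → K) → (Fin n → K) → K) (X Y P : Subgroup (GL (Fin n) K)) : Prop :=
  (∀ v : Fin n → K, v ≠ 0 → X = subspaceStabilizer (Submodule.span K {v}) → ∃ U : Submodule K (Fin n → K),
    Module.finrank K U = 8 ∧ X ⊓ Y ≤ subspaceStabilizer U ∧ v ∉ U ∧ ∀ u ∈ U, B u v = 0) ∧
  (Y ≤ P ⊔ scalars (Fin n) K → ¬ Prm (img X P))

/-- [CS-Bo] -/
def BoxBo : Prop := AllHy fun _ _ _ _ k q m B X Y P => RowBo k q m (H915.LD.Soc P) → Red B X Y P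
/-- [CS-Be] -/
def BoxBe : Prop := AllHy fun _ _ _ _ k q m B X Y P => RowBe k q m (H915.LD.Soc P) → Red B X Y P
/-- [CS-C] -/
def BoxC : Prop := AllHy fun _ _ _ _ k q m _ X _ P => RowC k q m (H915.LD.Soc P) → Inv X P
/-- [CS-F] -/
def BoxF : Prop := AllHy fun _ _ _ _ k q m _ X _ P => RowF k q m (H915.LD.Soc P) → Inv X P

/-! ### the results, for `Fac` -/

section fac

variable {ι : Type} [Fintype ι] [DecidableEq ι] {K : Type} [Field K] [Fintype K] {Γ : Type} [Group Γ]

/-- `S = G / scalars` -/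
structure Cov (G : Subgroup (GL ι K)) (π : G →* Γ) (S : Subgroup Γ) : Prop where
  range : π.range = S
  ker : ∀ g : G, π g = 1 ↔ (g : GL ι K) ∈ scalars ι K

/-- the preimage in `G` -/
def pre {G : Subgroup (GL ι K)} (π : G →* Γ) (Y : Subgroup Γ) : Subgroup (GL ι K) := (Y.comap π).map G.subtype

end fac

/-- **`T` of class `S`, `Ω` the sphere**: only `Co₁ < Ω₂₄⁺(2)` -/
def CS1 : Prop :=
  ∀ (ι : Type) [Fintype ι] [DecidableEq ι] (K : Type) [Field K] [Fintype K] (Γ : Type) [Group Γ] [Finite Γ]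
    (M S H T B : Subgroup Γ) (k : Kind) (q m : ℕ) (f : (ι → K) → (ι → K) → K) (Sg : (ι → K) → Prop)
    (G X P : Subgroup (GL ι K)) (π : G →* Γ) (Y : Subgroup Γ), Fac M S H T B → Sph q m k f Sg G X → Cov G π S →
    13 ≤ Fintype.card ι → pre π B = G ⊓ X → T ≤ Y → Y ≤ H → IsResidualCore (pre π Y) P → (k = .s → ¬ FixQ P) →
    RowCo k q m T

/-- **`B` of class `S`, `H` the stabiliser of a point of the sphere**: only `Co₁ < Ω₂₄⁺(2)` -/
def CS2 : Prop :=
  ∀ (ι : Type) [Fintype ι] [DecidableEq ι] (K : Type) [Field K] [Fintype K] (Γ : Type) [Group Γ] [Finite Γ]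
    (M S H T B : Subgroup Γ) (k : Kind) (q m : ℕ) (f : (ι → K) → (ι → K) → K) (Sg : (ι → K) → Prop)
    (G X P : Subgroup (GL ι K)) (π : G →* Γ), Fac M S H T B → Sph q m k f Sg G X → Cov G π S →
    13 ≤ Fintype.card ι → pre π H = G ⊓ X → IsResidualCore (pre π B) P → (k = .s → ¬ FixQ P) →
    RowCo k q m (H915.LD.Soc P)

/-- the true row: `T = Sp₂₂(2)`, `S = Ω₂₄⁺(2)`, point stabiliser `Co₁` -/
def CoRow {Ω : Type} [Fintype Ω] [DecidableEq Ω] (X H T M : Subgroup (Equiv.Perm Ω)) : Prop :=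
  ∃ S, Up X H T M S ∧ ∀ a : Ω, ∃ (ι : Type) (_ : Fintype ι) (_ : DecidableEq ι) (K : Type) (_ : Field K) (_ : Fintype K)
    (f : (ι → K) → (ι → K) → K) (Sg : (ι → K) → Prop) (G X' P : Subgroup (GL ι K)) (π : G →* Equiv.Perm Ω),
    Sph 2 12 .p1 f Sg G X' ∧ Cov G π S ∧ pre π H = G ⊓ X' ∧
      IsResidualCore (pre π (M ⊓ MulAction.stabilizer (Equiv.Perm Ω) a)) P ∧ Spor.IsoCo1 (H915.LD.Soc P)

/-- [CS-Co] the count -/
def BoxCo (c : ℕ) : Prop :=
  ∀ (Ω : Type) [Fintype Ω] [DecidableEq Ω] (X H T : Subgroup (Equiv.Perm Ω)), {M | CoRow X H T M}.ncard ≤ c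

end Cfsg.Agent.SM.CS

private theorem dce_8ab5862b31f5 : _root_.True := by
  try have : _root_.True := by simp only [_root_.Cfsg.Agent.SM.CS.Kind.den.eq_def]
  try have : _root_.True := by simp only [_root_.Cfsg.Agent.SM.CS.Kind.num.eq_def]
  exact _root_.True.intro
end

-- part: SM/Tx/Dat
section
set_option linter.all false
open scoped Cfsg.Agent.FastGrp

/-!
# SM (S3570), box CS-X: the data of a class `S` factor (helper85)

* `idx_split`, `idx_rel` : the index of a subgroup along a normal subgroup;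
* `Ix S N` : `N` is the index of a subgroup of `S` times a divisor of `|Out S|`;
* `Dt m P` : `P` is a core of dimension `2 m` or `2 m + 1` and `|K| ^ (m - 1) th |K| m` divides `|Aut (H915.LD.Soc P)|`;
* `ix_hy`, `dt_hy` : the data of `Hy`.
-/

set_option autoImplicit false
set_option linter.unusedSectionVars false

namespace Cfsg.Agent.SM.Tx

open Cfsg Cfsg.Geo Matrix Projectivization
open Cfsg.Agent.H915.LD Cfsg.Agent.H100.Ppd Cfsg.Agent.SM.CS Cfsg.Agent.SM.Ti
open scoped LinearAlgebra.Projectivization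

theorem idx_split {G : Type*} [Group G] [Finite G] (A U : Subgroup G) [A.Normal] :
    ∃ j, j ∣ A.index ∧ U.index = j * U.relIndex A := by
  refine ⟨(U ⊔ A).index, Subgroup.index_dvd_of_le le_sup_right, ?_⟩
  have h1 : A.relIndex U * U.index = (A ⊓ U).index := by
    rw [← Subgroup.inf_relIndex_right, Subgroup.relIndex_mul_index inf_le_right]
  have h2 : U.relIndex A * A.index = (A ⊓ U).index := by
    rw [← Subgroup.inf_relIndex_left, Subgroup.relIndex_mul_index inf_le_left]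
  have h3 : A.relIndex U * (U ⊔ A).index = A.index := by
    rw [← Subgroup.relIndex_sup_right U A, Subgroup.relIndex_mul_index le_sup_right]
  have h4 : 0 < A.relIndex U := Nat.pos_of_ne_zero Subgroup.index_ne_zero_of_finite
  refine Nat.eq_of_mul_eq_mul_left h4 ?_
  rw [h1, ← h2, ← h3]
  ring

theorem idx_rel {G : Type*} [Group G] [Finite G] {A R : Subgroup G} (U : Subgroup G) (hA : A ≤ R)
    (hn : (A.subgroupOf R).Normal) : ∃ j, j ∣ A.relIndex R ∧ U.relIndex R = j * U.relIndex A := by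
  obtain ⟨j, h1, h2⟩ := idx_split (A.subgroupOf R) (U.subgroupOf R)
  exact ⟨j, h1, by rw [← Subgroup.relIndex_subgroupOf hA]; exact h2⟩

/-- `N` is the index of a subgroup times a divisor of `|Out S|` -/
def Ix (S : Type*) [Group S] (N : ℕ) : Prop := ∃ (U : Subgroup S) (j : ℕ), j ∣ Nat.card (Out S) ∧ N = j * U.index

theorem Ix.dvd {S : Type} [Group S] [Finite S] [IsSimpleGroup S] (hc : ¬ IsMulCommutative S) {N : ℕ} (h : Ix S N) :
    N ∣ Nat.card (MulAut S) := by
  obtain ⟨U, j, h1, rfl⟩ := h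
  rw [← H934.OutB.card_out_mul S hc]
  exact Nat.mul_dvd_mul h1 U.index_dvd_card

variable {n : ℕ} {K : Type} [Field K] [Fintype K]

theorem ix_of {Y P : Subgroup (GL (Fin n) K)} (hC : IsResidualCore Y P) {X : Subgroup (GL (Fin n) K)}
    (hX : Y ⊓ scalars (Fin n) K ≤ X) : Ix (H915.LD.Soc P) (X.relIndex Y) := by
  have hc := core_of_residual hC
  have hYN : Y ≤ Subgroup.normalizer (P : Set (GL (Fin n) K)) := fun y hy => mem_normalizer (hC.normal y hy)
  let f : Y →* MulAut (H915.LD.Soc P) := (conjSoc hc.absIrred).comp (Subgroup.inclusion hYN)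
  have h1 : f.ker ≤ X.subgroupOf Y := fun y hy =>
    hX ⟨y.2, scalar_of_conjSoc hc (g := Subgroup.inclusion hYN y) hy⟩
  have h2 : Inn (H915.LD.Soc P) ≤ f.range := by
    rintro _ ⟨x, rfl⟩
    induction x using QuotientGroup.induction_on with
    | H x =>
      refine ⟨⟨x, hC.le x.2⟩, ?_⟩
      ext z
      induction z using QuotientGroup.induction_on with
      | H z => rfl
  obtain ⟨j, h3, h4⟩ := idx_rel ((X.subgroupOf Y).map f) h2 inferInstance
  refine ⟨((X.subgroupOf Y).map f).comap MulAut.conj, j, h3.trans (Subgroup.relIndex_dvd_index_of_le h2), ?_⟩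
  rw [Subgroup.index_comap]
  refine Eq.trans ?_ h4
  rw [← Subgroup.index_comap, Subgroup.comap_map_eq_self h1]
  rfl

/-- the numbers of a sphere -/
theorem sph_cases {k : Kind} {q m : ℕ} {B : (Fin n → K) → (Fin n → K) → K} {Sg : (Fin n → K) → Prop}
    {G X : Subgroup (GL (Fin n) K)} (h : Sph q m k B Sg G X) :
    (k = .u ∧ Fintype.card K = q ^ 2 ∧ n = 2 * m) ∨ (k = .p1 ∧ Fintype.card K = q ∧ n = 2 * m) ∨
    (k = .p2 ∧ Fintype.card K = q ∧ n = 2 * m ∧ (0 < m → ∃ v, v ≠ 0 ∧ Sg v)) ∨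
    (k = .o ∧ Fintype.card K = q ∧ Odd q ∧ n = 2 * m + 1) ∨ (k = .s ∧ Fintype.card K = q ∧ Even q ∧ n = 2 * m) := by
  cases h with
  | u f hf hK hd => exact Or.inl ⟨rfl, hK, by simpa using hd⟩
  | p1 Q hQ hp hK hd => exact Or.inr (Or.inl ⟨rfl, hK, by simpa using hd⟩)
  | p2 Q hQ hp hK hd =>
    refine Or.inr (Or.inr (Or.inl ⟨rfl, hK, by simpa using hd, fun hm => ?_⟩))
    obtain ⟨U, -, h1, h2⟩ := hp
    rw [finrank_top, Module.finrank_fintype_fun_eq_card, hd] at h2
    obtain ⟨v, hv, h0⟩ := (Submodule.ne_bot_iff U).1 fun e => by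
      rw [e, finrank_bot] at h2
      omega
    exact ⟨v, h0, h1 v hv⟩
  | o Q hQ hK hq hd => exact Or.inr (Or.inr (Or.inr (Or.inl ⟨rfl, hK, hq, by simpa using hd⟩)))
  | s Q hQ hp hK hq hd => exact Or.inr (Or.inr (Or.inr (Or.inr ⟨rfl, hK, hq, by simpa using hd⟩)))

/-- the data of a core -/
structure Dt (m : ℕ) (P : Subgroup (GL (Fin n) K)) : Prop where
  core : Core P
  big : 13 ≤ n
  dim : n = 2 * m ∨ (n = 2 * m + 1 ∧ Odd (Fintype.card K))
  dvd : Fintype.card K ^ (m - 1) * th (Fintype.card K) m ∣ Nat.card (MulAut (H915.LD.Soc P))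

variable {k : Kind} {q m : ℕ} {B : (Fin n → K) → (Fin n → K) → K} {Sg : (Fin n → K) → Prop}
  {G X Y P : Subgroup (GL (Fin n) K)}

theorem ix_hy (h : Hy k q m B Sg G X Y P) : Ix (H915.LD.Soc P) (X.relIndex Y) :=
  ix_of h.core ((inf_le_inf_right _ h.le).trans h.sc)

theorem dvd_hy (h : Hy k q m B Sg G X Y P) : X.relIndex Y ∣ Nat.card (MulAut (H915.LD.Soc P)) :=
  have := h.core.simple
  (ix_hy h).dvd h.core.nonabelian

theorem th_dvd_aut (h : Hy k q m B Sg G X Y P) (hm : 0 < m) {v : Fin n → K} (hv0 : v ≠ 0) (hv : Sg v) :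
    th (Fintype.card K) m ∣ Nat.card (MulAut (H915.LD.Soc P)) := by
  have := h.core.simple
  let x : ℙ K (Fin n → K) := Projectivization.mk K v hv0
  have hx : Sg x.rep := by
    obtain ⟨c, -, e⟩ := exists_rep_mk hv0
    rw [e]
    exact h.pol.sg_smul c _ hv
  have h1 : th (Nat.card K) m ∣ (MulAction.orbit Y x).ncard := by
    refine h.tight.dvd hm ?_ ?_
    · rintro _ ⟨y, rfl⟩
      obtain ⟨c, -, e⟩ := exists_rep_smul (y : GL (Fin n) K) x
      show Sg ((y : GL (Fin n) K) • x).rep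
      rw [e]
      exact h.pol.sg_smul c _ (h.pol.sg _ (h.le y.2) _ hx)
    · rintro y hy _ ⟨z, rfl⟩
      exact ⟨(⟨y, hy⟩ * z :), mul_smul _ _ _⟩
  rw [← MulAction.index_stabilizer, Nat.card_eq_fintype_card] at h1
  refine h1.trans (Ix.dvd h.core.nonabelian (ix_of h.core (X := MulAction.stabilizer (GL (Fin n) K) x) ?_))
  rintro y ⟨-, hy⟩
  obtain ⟨c, hc⟩ := (mem_scalars_iff _).1 hy
  refine smul_eq_of (g := y) (c := ((c⁻¹ : Kˣ) : K)) ?_
  rw [ap, hc, smul_mulVec, one_mulVec, smul_smul, Units.mul_inv, one_smul]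

theorem dt_hy (h : Hy k q m B Sg G X Y P) : Dt m P := by
  have h1 := h.big
  rw [Fintype.card_fin] at h1
  have h2 := dvd_hy h
  have h3 := h.idx
  have hQ : 2 ≤ Fintype.card K := Fintype.one_lt_card
  have h4 := th_mul' (Q := Fintype.card K) (by omega) m
  generalize X.relIndex Y = N at h2 h3
  rcases sph_cases h.sph with ⟨rfl, hK, hd⟩ | ⟨rfl, hK, hd⟩ | ⟨rfl, hK, hd, hv⟩ | ⟨rfl, hK, hq, hd⟩ | ⟨rfl, hK, hq, hd⟩
  · refine ⟨core_of_residual h.core, h1, Or.inl hd, Dvd.dvd.trans ?_ h2⟩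
    obtain ⟨a, rfl⟩ : ∃ a, m = a + 1 := ⟨m - 1, by omega⟩
    simp only [Kind.den, Kind.num] at h3
    rw [hK] at h4 ⊢
    rw [pow_mul q 2 (a + 1), ← h4, Nat.sq_sub_sq q 1, show 2 * (a + 1) - 1 = 2 * a + 1 by omega] at h3
    refine ⟨q * (q - 1), Nat.eq_of_mul_eq_mul_right (show 0 < q + 1 by omega) ?_⟩
    rw [h3, Nat.add_sub_cancel]
    ring
  · refine ⟨core_of_residual h.core, h1, Or.inl hd, Dvd.dvd.trans ?_ h2⟩
    simp only [Kind.den, Kind.num] at h3
    rw [hK] at h4 ⊢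
    obtain ⟨c, hc⟩ := Nat.gcd_dvd_right 2 (q - 1)
    refine ⟨c, Nat.eq_of_mul_eq_mul_right (Nat.gcd_pos_of_pos_left (q - 1) two_pos) ?_⟩
    rw [h3, ← h4]
    conv_lhs => rw [hc]
    ring
  · refine ⟨core_of_residual h.core, h1, Or.inl hd, ?_⟩
    obtain ⟨v, hv0, hv1⟩ := hv (by omega)
    obtain ⟨a, rfl⟩ : ∃ a, m = a + 1 := ⟨m - 1, by omega⟩
    refine ((th_coprime _ a).symm.pow_left _).mul_dvd_of_dvd_of_dvd (Dvd.dvd.trans ?_ h2)
      (th_dvd_aut h (by omega) hv0 hv1)
    simp only [Kind.den, Kind.num] at h3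
    rw [hK, Nat.add_sub_cancel]
    have h5 : q ^ (a + 1) ∣ N * 2 := by
      refine (((Nat.coprime_self_add_right (m := q) (n := 1)).2 (Nat.coprime_one_right q)).pow_left
        (a + 1)).dvd_of_dvd_mul_right ?_
      rw [mul_assoc, h3, mul_assoc]
      exact Dvd.dvd.mul_right (pow_dvd_pow q (by omega)) _
    rcases Nat.even_or_odd q with he | ho
    · refine Nat.dvd_of_mul_dvd_mul_right two_pos (Dvd.dvd.trans ?_ h5)
      rw [pow_succ]
      exact Nat.mul_dvd_mul_left _ he.two_dvd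
    · exact ((Nat.coprime_two_right.2 ho).pow_left a).dvd_of_dvd_mul_right ((pow_dvd_pow q (by omega)).trans h5)
  · refine ⟨core_of_residual h.core, h1, Or.inr ⟨hd, hK ▸ hq⟩, Dvd.dvd.trans ?_ h2⟩
    obtain ⟨a, rfl⟩ : ∃ a, m = a + 1 := ⟨m - 1, by omega⟩
    simp only [Kind.den, Kind.num] at h3
    rw [hK] at h4 ⊢
    obtain ⟨c, hc⟩ := hq
    refine ⟨q * c, Nat.eq_of_mul_eq_mul_right two_pos ?_⟩
    rw [h3, ← h4, Nat.add_sub_cancel, show q - 1 = 2 * c by omega]
    ring
  · refine ⟨core_of_residual h.core, h1, Or.inl hd, Dvd.dvd.trans ?_ h2⟩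
    obtain ⟨a, rfl⟩ : ∃ a, m = a + 1 := ⟨m - 1, by omega⟩
    simp only [Kind.den, Kind.num] at h3
    rw [hK] at h4 ⊢
    obtain ⟨c, hc⟩ := hq
    refine ⟨c * (q - 1), Nat.eq_of_mul_eq_mul_right two_pos ?_⟩
    rw [h3, ← h4, Nat.add_sub_cancel, pow_succ]
    conv_lhs => enter [1, 2]; rw [hc]
    ring

end Cfsg.Agent.SM.Tx

private theorem dce_cfb6d9c6ffd6 : _root_.True := by
  try have : _root_.True := by simp only [_root_.Cfsg.Agent.SM.CS.Kind.num.eq_3]
  try have : _root_.True := by simp only [_root_.Cfsg.Agent.SM.CS.Kind.num.eq_2]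
  try have : _root_.True := by simp only [_root_.Cfsg.Agent.SM.CS.Kind.den.eq_1]
  try have : _root_.True := by simp only [_root_.Cfsg.Agent.SM.CS.Kind.num.eq_4]
  try have : _root_.True := by simp only [_root_.Cfsg.Agent.SM.CS.Kind.den.eq_4]
  try have : _root_.True := by simp only [_root_.Cfsg.Agent.SM.CS.Kind.num.eq_1]
  try have : _root_.True := by simp only [_root_.Cfsg.Agent.SM.CS.Kind.den.eq_2]
  try have : _root_.True := by simp only [_root_.Cfsg.Agent.SM.CS.Kind.den.eq_3]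
  try have : _root_.True := by simp only [_root_.Cfsg.Agent.SM.CS.Kind.den.eq_5]
  try have : _root_.True := by simp only [_root_.Cfsg.Agent.SM.CS.Kind.num.eq_5]
  exact _root_.True.intro
end
end
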