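import Cfsg.Agent.SM.Base_m3
import Mathlib.GroupTheory.GroupAction.Jordan
import Cfsg.Agent.S0720
import Cfsg.Agent.Lib.FastPerm
import Cfsg.Agent.SM.Ti.Box
import Cfsg.Agent.H925.OrthBasic
import Cfsg.Agent.SM.Asm_m3
import Cfsg.Agent.H922.OddPerp
import Cfsg.Agent.H445.AH.OTrans
import Cfsg.Agent.H510.OA.Chev
import Cfsg.Agent.H636.SympWreath
import Cfsg.Agent.ClassicalGeometry.SympAutExists
import Cfsg.Agent.ClassicalGeometry.SympAutOddA
import Cfsg.Agent.ClassicalGeometry.PSL2Basic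
import Cfsg.Agent.LieClassical.SympCount
import Cfsg.Agent.H341.ThreeList_m3
import Cfsg.Agent.H561.PPRowL
import Cfsg.Agent.PQ.G4.Fs
import Cfsg.Agent.H62.SpCross
import Cfsg.Agent.H957.SpIndex
import Cfsg.Agent.ClassicalGeometry.TwoFamilies
import Cfsg.Agent.SM.O8.M1B_m3
import Cfsg.Agent.H727.GW.Isom
import Cfsg.Agent.AutOrth.Main
import Cfsg.Agent.H989.Fx.Ty_m3
import Cfsg.Agent.H160.QSpin
import Cfsg.Agent.H137.OrthWeyl
import Cfsg.Agent.H75.WittE
import Cfsg.Agent.H922.OddBase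
import Cfsg.Agent.H887.DS.SixFive
import Cfsg.Agent.H927.G2Main
import Cfsg.Agent.ChevalleyStructure.GraphG2
import Cfsg.Agent.H161.G2Emb
import Cfsg.Agent.H561.PPRowM
import Cfsg.Agent.H395.EPM.Perm_m3
import Cfsg.Agent.Schreier.MEleven
import Cfsg.Agent.Schreier.MTwelve
import Cfsg.Agent.SporadicA.M11Facts
import Cfsg.Agent.SporadicA.M12Perm
import Cfsg.Agent.SporadicA.M24OfIndex
import Cfsg.Agent.KFacts.M24Two.Out
import Cfsg.Agent.S2061
import Cfsg.Agent.S0365
import Cfsg.Agent.FastGrp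
import Cfsg.Agent.Prune
set_option linter.all false

section
prune_inst 0x7f00000000000000000000000000000000000000000000000000000000000000000000000000000000000000000000000000000000000000000000000000000000000000000000000000000000000000003fffffffffffffffffffffffffffaeffbdffffffff

section
prune_inst 0xfce8f8abb83ddfdfff7e7fa6d9cffc39911fffefdff9437fe861ff0bdf03000dc5abad0df010fe0ef6601410b87843fbffeeffe26bd87ffffd1ff41ffbee0fb5e7b50851968c340fbc0fff03f0778e7f000000000000000000000000000000000000000000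

-- part: SM/Glue
section
prune_inst 0x10000000000000
set_option linter.all false
open scoped Cfsg.Agent.FastGrp

/-!
# SM (S3570): the statement from the five boxes (helper59)
-/

set_option autoImplicit false
set_option linter.unusedSectionVars false
set_option linter.unusedVariables false

namespace Cfsg.Agent.SM

open Equiv Subgroup MulAction

section perm

variable {Ω : Type} [Fintype Ω] [DecidableEq Ω]

/-- the bound in the setting `Sec` -/
theorem sec_of_boxes (np : BoxNP) (af : BoxAff) (pw : BoxPow) (ot : BoxOth) (as : BoxAS)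
    {X H : Subgroup (Perm Ω)} (s : Sec X H) : (Ov X H).ncard ≤ 11 := by
  by_cases hp : IsPreprimitive H Ω
  swap
  · exact np Ω X H s hp
  by_cases ha : ∃ V, Aff H V
  · obtain ⟨V, hV⟩ := ha
    exact af Ω X H V s hp hV
  by_cases ht : ∃ T, Soc H T
  swap
  · exact pw Ω X H s hp (not_exists.1 ha) (not_exists.1 ht)
  obtain ⟨T, hT⟩ := ht
  rcases ot Ω X H T s hp hT with h1 | h1
  swap
  · exact h1
  have h2 := as Ω X H T s hp hT
  have h3 : {M | M ∈ Ov X H ∧ Soc M T}.ncard ≤ 1 := by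
    rw [Set.ncard_le_one (Set.toFinite _)]
    intro a ha b hb
    exact s.eq_of_nor ha.1 hb.1 ha.2.toNor hb.2.toNor hT.ne
  have hsub : Ov X H ⊆ ({M | M ∈ Ov X H ∧ ∀ S, ¬ Soc M S} ∪ {M | M ∈ Ov X H ∧ ∃ S, Soc M S ∧ S ≠ T}) ∪
      {M | M ∈ Ov X H ∧ Soc M T} := by
    intro M hM
    by_cases h : ∃ S, Soc M S
    · obtain ⟨S, hS⟩ := h
      by_cases h' : S = T
      · exact Or.inr ⟨hM, h' ▸ hS⟩
      · exact Or.inl (Or.inr ⟨hM, S, hS, h'⟩)
    · exact Or.inl (Or.inl ⟨hM, not_exists.1 h⟩)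
  have h4 := Set.ncard_le_ncard hsub (Set.toFinite _)
  have h5 := Set.ncard_union_le ({M | M ∈ Ov X H ∧ ∀ S, ¬ Soc M S} ∪ {M | M ∈ Ov X H ∧ ∃ S, Soc M S ∧ S ≠ T})
    {M | M ∈ Ov X H ∧ Soc M T}
  have h6 := Set.ncard_union_le {M | M ∈ Ov X H ∧ ∀ S, ¬ Soc M S} {M | M ∈ Ov X H ∧ ∃ S, Soc M S ∧ S ≠ T}
  omega

/-- the case that `A_n` is one of the maximal overgroups: at most two of them -/
theorem alt_case (h5 : 5 ≤ Fintype.card Ω) {X H : Subgroup (Perm Ω)} (cov : ∀ M ∈ Ov X H, H ⋖ M)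
    (hA : alternatingGroup Ω ∈ Ov X H) : (Ov X H).ncard ≤ 2 := by
  have h5' : 5 ≤ Nat.card Ω := by rwa [Nat.card_eq_fintype_card]
  have hHA := cov _ hA
  have h0 : H ≠ ⊥ := by
    rintro rfl
    have := alternatingGroup.nontrivial_of_three_le_card (α := Ω) (by omega)
    obtain ⟨x, hx⟩ := exists_ne (1 : alternatingGroup Ω)
    rcases hHA.eq_or_eq (bot_le : ⊥ ≤ zpowers (x : Perm Ω)) (zpowers_le.2 x.2) with h | h
    · exact hx (Subtype.ext (zpowers_eq_bot.1 h))
    · apply hx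
      apply Subtype.ext
      refine eq_one_of_comm_alt h5 fun a ha => ?_
      rw [← h] at ha
      obtain ⟨k, rfl⟩ := ha
      exact (Commute.zpow_self (x : Perm Ω) k).eq
  have hN : ¬ alternatingGroup Ω ≤ normalizer (H : Set (Perm Ω)) := fun h =>
    hHA.lt.not_ge (alt_le_of_conj h5 h0 fun g hg x hx => (mem_normalizer_iff.1 (h hg) x).1 hx)
  have hsub : Ov X H ⊆ {alternatingGroup Ω, X ⊓ normalizer (H : Set (Perm Ω))} := by
    intro M hM
    by_cases hne : M = alternatingGroup Ω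
    · exact Or.inl hne
    right
    have hinf : M ⊓ alternatingGroup Ω = H := by
      rcases (cov M hM).eq_or_eq (le_inf hM.2 hA.2) inf_le_left with h | h
      · exact h
      · exact absurd (Sec.eq_of_le hM hA (inf_eq_left.1 h)) hne
    have hnor : Nor M H := by
      refine ⟨hM.2, fun g hg x hx => ?_⟩
      rw [← hinf] at hx ⊢
      exact ⟨(Nor.refl M).conj g hg x hx.1, (alternatingGroup.normal (α := Ω)).conj_mem x hx.2 g⟩
    rcases hM.1.eq_or_eq (le_inf hM.1.le hnor.le_normalizer) inf_le_left with h | h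
    · exact h.symm
    · exact absurd (hA.1.le.trans (inf_eq_left.1 h)) hN
  exact (Set.ncard_le_ncard hsub (Set.toFinite _)).trans ((Set.ncard_insert_le _ _).trans (by simp))

theorem perm_of_boxes (np : BoxNP) (af : BoxAff) (pw : BoxPow) (ot : BoxOth) (as : BoxAS)
    (h5 : 5 ≤ Fintype.card Ω) {X H : Subgroup (Perm Ω)} (alt : alternatingGroup Ω ≤ X) (lt : H < X) (nmax : ¬ H ⋖ X)
    (cov : ∀ M ∈ Ov X H, H ⋖ M) : (Ov X H).ncard ≤ 11 := by
  by_cases hA : alternatingGroup Ω ∈ Ov X H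
  · exact (alt_case h5 cov hA).trans (by norm_num)
  · exact sec_of_boxes np af pw ot as ⟨h5, alt, lt, nmax, cov, hA⟩

end perm

theorem covBy_map_iff {G G' : Type*} [Group G] [Group G'] {φ : G →* G'} (hφ : Function.Injective φ)
    (A B : Subgroup G) : A.map φ ⋖ B.map φ ↔ A ⋖ B := by
  constructor
  · intro h
    refine ⟨(map_lt_map_iff_of_injective hφ).1 h.lt, fun K h1 h2 => ?_⟩
    exact h.2 ((map_lt_map_iff_of_injective hφ).2 h1) ((map_lt_map_iff_of_injective hφ).2 h2)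
  · intro h
    refine ⟨(map_lt_map_iff_of_injective hφ).2 h.lt, fun K h1 h2 => ?_⟩
    have hK : (K.comap φ).map φ = K := map_comap_eq_self (h2.le.trans (map_le_range φ B))
    rw [← hK] at h1 h2
    exact h.2 ((map_lt_map_iff_of_injective hφ).1 h1) ((map_lt_map_iff_of_injective hφ).1 h2)

theorem of_hom (np : BoxNP) (af : BoxAff) (pw : BoxPow) (ot : BoxOth) (as : BoxAS) (n : ℕ) (hn : 5 ≤ n)
    {G : Type*} [Group G] (φ : G →* Perm (Fin n)) (hφ : Function.Injective φ)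
    (alt : alternatingGroup (Fin n) ≤ φ.range) (H : Subgroup G) (hH1 : ¬ IsCoatom H) (hH2 : H ≠ ⊤)
    (hH3 : ∀ M : Subgroup G, IsCoatom M → H ≤ M → IsCoatom (H.subgroupOf M)) :
    {M : Subgroup G | IsCoatom M ∧ H ≤ M}.ncard ≤ 11 := by
  have hr : (⊤ : Subgroup G).map φ = φ.range := (MonoidHom.range_eq_map φ).symm
  have key : (Ov φ.range (H.map φ)).ncard ≤ 11 := by
    refine perm_of_boxes np af pw ot as (by simpa using hn) alt ?_ ?_ ?_
    · rw [← hr]
      exact (map_lt_map_iff_of_injective hφ).2 (lt_top_iff_ne_top.2 hH2)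
    · rw [← hr, covBy_map_iff hφ, covBy_top_iff]
      exact hH1
    · intro M hM
      have hK : (M.comap φ).map φ = M := map_comap_eq_self hM.1.le
      have h1 : IsCoatom (M.comap φ) := by
        rw [← covBy_top_iff, ← covBy_map_iff hφ, hK, hr]
        exact hM.1
      have h2 : H ≤ M.comap φ := map_le_iff_le_comap.1 hM.2
      have h3 := hH3 _ h1 h2
      rw [← covBy_top_iff, ← covBy_map_iff (M.comap φ).subtype_injective, subgroupOf_map_subtype,
        inf_eq_left.2 h2, ← MonoidHom.range_eq_map, range_subtype, ← covBy_map_iff hφ, hK] at h3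
      exact h3
  refine le_trans ?_ key
  refine Set.ncard_le_ncard_of_injOn (fun M => M.map φ) ?_ ?_ (Set.toFinite _)
  · intro M hM
    refine ⟨?_, map_mono hM.2⟩
    rw [← hr, covBy_map_iff hφ, covBy_top_iff]
    exact hM.1
  · intro a _ b _ h
    exact map_injective hφ h

/-- **S3570 from the boxes** -/
theorem s3570_of (np : BoxNP) (af : BoxAff) (pw : BoxPow) (ot : BoxOth) (as : BoxAS) (n : ℕ) (hn : 5 ≤ n)
    {G : Type*} [Group G]
    (hG : Nonempty (G ≃* Equiv.Perm (Fin n)) ∨ Nonempty (G ≃* ↥(alternatingGroup (Fin n))))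
    (H : Subgroup G) (hH1 : ¬ IsCoatom H) (hH2 : H ≠ ⊤)
    (hH3 : ∀ M : Subgroup G, IsCoatom M → H ≤ M → IsCoatom (H.subgroupOf M)) :
    {M : Subgroup G | IsCoatom M ∧ H ≤ M}.ncard ≤ 11 := by
  rcases hG with ⟨⟨e⟩⟩ | ⟨⟨e⟩⟩
  · refine of_hom np af pw ot as n hn e.toMonoidHom e.injective ?_ H hH1 hH2 hH3
    intro x _
    exact ⟨e.symm x, by simp⟩
  · refine of_hom np af pw ot as n hn ((alternatingGroup (Fin n)).subtype.comp e.toMonoidHom)
      ((alternatingGroup (Fin n)).subtype_injective.comp e.injective) ?_ H hH1 hH2 hH3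
    intro x hx
    exact ⟨e.symm ⟨x, hx⟩, by simp⟩

end Cfsg.Agent.SM
end

-- part: SM/NP/Tool_mg
section
prune_inst 0x217034447800020000180592410020244c0001000020880159a00e40030ff3220501210046a01d00180aa20000010040011000d0424000000e0004000005042180aa52041334010426000f803087180c00000000000000000000000000051004200000000
set_option linter.all false
open scoped Cfsg.Agent.FastGrp

-- part: SM/NP/Defs
section
/-!
# SM (S3570), `H` not primitive: definitions, first tools and the sub-boxes (helper68)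

The paper proofs of the boxes are in `notes/SM/np.md`.
-/

set_option autoImplicit false
set_option linter.unusedSectionVars false
set_option linter.unusedVariables false

namespace Cfsg.Agent.SM.NP

open Equiv Equiv.Perm Subgroup MulAction

variable {Ω : Type} [Fintype Ω] [DecidableEq Ω]

/-- transitive -/
def Tr (H : Subgroup (Perm Ω)) : Prop := ∀ a b : Ω, ∃ g ∈ H, g a = b

/-- doubly transitive -/
def Tr2 (H : Subgroup (Perm Ω)) : Prop := ∀ a b c d : Ω, a ≠ b → c ≠ d → ∃ g ∈ H, g a = c ∧ g b = d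

/-- the stabiliser in `X` of an equivalence relation -/
def St (X : Subgroup (Perm Ω)) (E : Setoid Ω) : Subgroup (Perm Ω) where
  carrier := {g | g ∈ X ∧ ∀ a b, E (g a) (g b) ↔ E a b}
  one_mem' := ⟨X.one_mem, fun a b => Iff.rfl⟩
  mul_mem' := fun {g h} hg hh => ⟨X.mul_mem hg.1 hh.1, fun a b => (hg.2 _ _).trans (hh.2 a b)⟩
  inv_mem' := fun {g} hg => ⟨X.inv_mem hg.1, fun a b => by
    have := hg.2 (g⁻¹ a) (g⁻¹ b)
    simpa using this.symm⟩

/-- the stabiliser in `X` of a set -/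
def Sw (X : Subgroup (Perm Ω)) (A : Set Ω) : Subgroup (Perm Ω) where
  carrier := {g | g ∈ X ∧ ∀ a, g a ∈ A ↔ a ∈ A}
  one_mem' := ⟨X.one_mem, fun a => Iff.rfl⟩
  mul_mem' := fun {g h} hg hh => ⟨X.mul_mem hg.1 hh.1, fun a => (hg.2 _).trans (hh.2 a)⟩
  inv_mem' := fun {g} hg => ⟨X.inv_mem hg.1, fun a => by
    have := hg.2 (g⁻¹ a)
    simpa using this.symm⟩

theorem mem_St {X : Subgroup (Perm Ω)} {E : Setoid Ω} {g : Perm Ω} :
    g ∈ St X E ↔ g ∈ X ∧ ∀ a b, E (g a) (g b) ↔ E a b := Iff.rfl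

/-- `E` is a non-trivial `H`-invariant equivalence relation -/
structure Sys (H : Subgroup (Perm Ω)) (E : Setoid Ω) : Prop where
  inv : ∀ g ∈ H, ∀ a b, E a b → E (g a) (g b)
  nb : ∃ a b, a ≠ b ∧ E a b
  nt : ∃ a b, ¬ E a b

/-- the primitive maximal overgroups -/
def Pr (X H : Subgroup (Perm Ω)) : Set (Subgroup (Perm Ω)) := {M | M ∈ Ov X H ∧ IsPreprimitive M Ω}

/-- the other maximal overgroups -/
def Np (X H : Subgroup (Perm Ω)) : Set (Subgroup (Perm Ω)) := {M | M ∈ Ov X H ∧ ¬ IsPreprimitive M Ω}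

/-- `H` contains a 3-cycle or a transposition -/
def Sm (H : Subgroup (Perm Ω)) : Prop := ∃ g ∈ H, g.IsThreeCycle ∨ g.IsSwap

/-- `τ` is a fixed point free involution (a perfect matching) -/
structure Mat (τ : Perm Ω) : Prop where
  ne : ∀ a, τ a ≠ a
  inv : ∀ a, τ (τ a) = a

/-- `H` contains the products of two edges of the matching -/
def Dbl (H : Subgroup (Perm Ω)) (τ : Perm Ω) : Prop :=
  ∀ a b, b ≠ a → b ≠ τ a → swap a (τ a) * swap b (τ b) ∈ H

/-- for any three edges of the matching `H` has an element of order three that moves only the points of these edges and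
maps the first edge to the second one -/
def Lifts (H : Subgroup (Perm Ω)) (τ : Perm Ω) : Prop :=
  ∀ a b c, b ≠ a → b ≠ τ a → c ≠ a → c ≠ τ a → c ≠ b → c ≠ τ b →
    ∃ r ∈ H, r ^ 3 = 1 ∧ (r a = b ∨ r a = τ b) ∧ (r (τ a) = b ∨ r (τ a) = τ b) ∧
      ∀ x, x ≠ a → x ≠ τ a → x ≠ b → x ≠ τ b → x ≠ c → x ≠ τ c → r x = x

/-- `H` contains the double transpositions on `B` -/
def Kl (H : Subgroup (Perm Ω)) (B : Set Ω) : Prop :=
  ∀ a ∈ B, ∀ b ∈ B, ∀ c ∈ B, ∀ d ∈ B, a ≠ b → a ≠ c → a ≠ d → b ≠ c → b ≠ d → c ≠ d → swap a b * swap c d ∈ H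

/-- `H` preserves the partition `{B, Bᶜ}` -/
def Hf (H : Subgroup (Perm Ω)) (B : Set Ω) : Prop := ∀ g ∈ H, (∀ a, g a ∈ B ↔ a ∈ B) ∨ ∀ a, g a ∈ B ↔ a ∉ B

/-- every permutation of `B` is induced by an element of `H` -/
def Full (H : Subgroup (Perm Ω)) (B : Set Ω) : Prop :=
  ∀ σ : Perm Ω, (∀ a, a ∉ B → σ a = a) → ∃ d ∈ H, ∀ a ∈ B, d a = σ a

/-- conjugate in the symmetric group -/
def Cj (S T : Subgroup (Perm Ω)) : Prop := ∃ g : Perm Ω, ∀ x, x ∈ S ↔ g * x * g⁻¹ ∈ T

/-- the groups with the property `P` lie in at most `c` conjugacy classes of the symmetric group -/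
def Few (P : Subgroup (Perm Ω) → Prop) (c : ℕ) : Prop :=
  ∃ R : Finset (Subgroup (Perm Ω)), R.card ≤ c ∧ ∀ S, P S → ∃ T ∈ R, Cj S T

/-! ### the boxes: doubly primitive groups -/

/-- `H` fixes a point -/
def BoxE1 : Prop := ∀ (Ω : Type) [Fintype Ω] [DecidableEq Ω] (X H : Subgroup (Perm Ω)) (α : Ω), Sec X H →
  6 ≤ Fintype.card Ω → (∀ g ∈ H, g α = α) → {M | M ∈ Ov X H ∧ IsMultiplyPreprimitive M Ω 2}.ncard ≤ 9

/-- `H` fixes a pair -/
def BoxE2 : Prop := ∀ (Ω : Type) [Fintype Ω] [DecidableEq Ω] (X H : Subgroup (Perm Ω)) (x y : Ω), Sec X H →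
  7 ≤ Fintype.card Ω → x ≠ y → H ≤ Sw X {x, y} → {M | M ∈ Ov X H ∧ IsMultiplyPretransitive M Ω 3}.ncard ≤ 9

/-! ### the boxes: small degrees and small supports -/

def BoxN5 : Prop := ∀ (Ω : Type) [Fintype Ω] [DecidableEq Ω] (X H : Subgroup (Perm Ω)), Sec X H →
  Fintype.card Ω = 5 → ¬ Tr H → (Pr X H).ncard ≤ 6

def BoxN6 : Prop := ∀ (Ω : Type) [Fintype Ω] [DecidableEq Ω] (X H : Subgroup (Perm Ω)), Sec X H →
  Fintype.card Ω = 6 → (∀ g ∈ H, orderOf g ≠ 5) → (Pr X H).ncard ≤ 6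

def BoxN7 : Prop := ∀ (Ω : Type) [Fintype Ω] [DecidableEq Ω] (X H : Subgroup (Perm Ω)) (B : Set Ω), Sec X H →
  Fintype.card Ω = 7 → B.ncard = 4 → H ≤ Sw X B → Kl H B → (Pr X H).ncard ≤ 9

def BoxN8a : Prop := ∀ (Ω : Type) [Fintype Ω] [DecidableEq Ω] (X H : Subgroup (Perm Ω)) (τ : Perm Ω), Sec X H →
  Fintype.card Ω = 8 → Mat τ → (∀ g ∈ H, g * τ = τ * g) → Lifts H τ → Sm H ∨ Dbl H τ

def BoxN8b : Prop := ∀ (Ω : Type) [Fintype Ω] [DecidableEq Ω] (X H : Subgroup (Perm Ω)) (B : Set Ω), Sec X H →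
  Fintype.card Ω = 8 → B.ncard = 4 → Hf H B → Kl H B → Kl H Bᶜ → (Pr X H).ncard ≤ 9

/-- the even part of the base group of `S₂ ≀ S_l` lies in `H` -/
def BoxP2 : Prop := ∀ (Ω : Type) [Fintype Ω] [DecidableEq Ω] (X H : Subgroup (Perm Ω)) (τ : Perm Ω), Sec X H →
  8 ≤ Fintype.card Ω → Mat τ → (∀ g ∈ H, g * τ = τ * g) → Dbl H τ → (Pr X H).ncard ≤ 9

/-- elements of order three with two cycles -/
def BoxP4 : Prop := ∀ (Ω : Type) [Fintype Ω] [DecidableEq Ω] (M : Subgroup (Perm Ω)) (τ : Perm Ω),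
  10 ≤ Fintype.card Ω → Mat τ → Lifts M τ → IsPreprimitive M Ω → alternatingGroup Ω ≤ M

/-- an element of order three that moves at most six points, degree at least 11 -/
def BoxS6 : Prop := ∀ (Ω : Type) [Fintype Ω] [DecidableEq Ω] (M : Subgroup (Perm Ω)) (r : Perm Ω),
  11 ≤ Fintype.card Ω → r ∈ M → r ^ 3 = 1 → r ≠ 1 → r.support.card ≤ 6 → IsPreprimitive M Ω → alternatingGroup Ω ≤ M

/-- a Jordan set of less than half of the points -/
def BoxJ3 : Prop := ∀ (Ω : Type) [Fintype Ω] [DecidableEq Ω] (M : Subgroup (Perm Ω)) (B : Set Ω),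
  2 ≤ B.ncard → 2 * B.ncard < Fintype.card Ω → (∀ a ∈ B, ∀ b ∈ B, ∃ g ∈ M, g a = b ∧ ∀ x, x ∉ B → g x = x) →
  IsPreprimitive M Ω → alternatingGroup Ω ≤ M

/-- a Jordan set of half of the points: `M_B` is primitive on `B`, `B` and `Bᶜ` are interchanged, and the even
restrictions to `B` lie in `M` -/
def BoxJ2 : Prop := ∀ (Ω : Type) [Fintype Ω] [DecidableEq Ω] (M : Subgroup (Perm Ω)) (B : Set Ω),
  3 ≤ B.ncard → (∃ h ∈ M, ∀ a, h a ∈ B ↔ a ∉ B) →
  (∀ a ∈ B, ∀ b ∈ B, ∃ g ∈ M, g a = b ∧ ∀ x, x ∉ B → g x = x) →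
  (∀ E : Setoid Ω, (∀ g ∈ M, (∀ x, g x ∈ B ↔ x ∈ B) → ∀ a ∈ B, ∀ b ∈ B, E a b → E (g a) (g b)) →
    (∀ a ∈ B, ∀ b ∈ B, E a b) ∨ ∀ a ∈ B, ∀ b ∈ B, E a b → a = b) →
  (∀ g ∈ M, ∀ σ : Perm Ω, sign σ = 1 → (∀ x ∈ B, σ x = g x) → (∀ x, x ∉ B → σ x = x) → σ ∈ M) →
  IsPreprimitive M Ω → alternatingGroup Ω ≤ M

/-- two blocks, the stabiliser of the blocks is a diagonal symmetric group -/
def BoxDiag : Prop := ∀ (Ω : Type) [Fintype Ω] [DecidableEq Ω] (H : Subgroup (Perm Ω)) (B : Set Ω),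
  5 ≤ B.ncard → B.ncard ≠ 6 → Bᶜ.ncard = B.ncard → Full H B → Full H Bᶜ →
  (∀ d ∈ H, (∀ a ∈ B, d a = a) → d = 1) → (∀ d ∈ H, (∀ a, a ∉ B → d a = a) → d = 1) → ∃ τ, Mat τ ∧ Lifts H τ

/-- two blocks of size six, the exotic diagonal -/
def BoxX12 : Prop := ∀ (Ω : Type) [Fintype Ω] [DecidableEq Ω] (X H : Subgroup (Perm Ω)) (B : Set Ω), Sec X H →
  Fintype.card Ω = 12 → B.ncard = 6 → Tr H → Hf H B → Full H B →
  (∀ d ∈ H, ∀ c : Perm Ω, c.IsThreeCycle → (∀ a, a ∉ B → c a = a) → (∀ a ∈ B, d a = c a) → ∀ a, a ∉ B → d a ≠ a) →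
  (Pr X H).ncard ≤ 9

/-! ### the boxes: the two halves -/

/-- `H` is a Young subgroup with at most three parts -/
def BoxYoung : Prop := ∀ (Ω : Type) [Fintype Ω] [DecidableEq Ω] (X H : Subgroup (Perm Ω)) (f : Ω → Fin 3), Sec X H →
  (∀ g, g ∈ H ↔ g ∈ X ∧ ∀ x, f (g x) = f x) → (Ov X H).ncard ≤ 11

/-- `H` has the two orbits `A`, `Aᶜ` and is maximal in the stabiliser of `A` -/
structure Two (X H : Subgroup (Perm Ω)) (A : Set Ω) : Prop where
  ov : Sw X A ∈ Ov X H
  ne : A.Nonempty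
  lt : A.ncard < Aᶜ.ncard
  trA : ∀ a ∈ A, ∀ b ∈ A, ∃ g ∈ H, g a = b
  trB : ∀ a, a ∉ A → ∀ b, b ∉ A → ∃ g ∈ H, g a = b

def BoxTwoNp : Prop := ∀ (Ω : Type) [Fintype Ω] [DecidableEq Ω] (X H : Subgroup (Perm Ω)) (A : Set Ω), Sec X H →
  Two X H A → (Np X H).ncard ≤ 2

def BoxTwo1 : Prop := ∀ (Ω : Type) [Fintype Ω] [DecidableEq Ω] (X H : Subgroup (Perm Ω)) (A : Set Ω), Sec X H →
  Two X H A → A.ncard = 1 → (Pr X H).ncard ≤ 9

def BoxTwo2 : Prop := ∀ (Ω : Type) [Fintype Ω] [DecidableEq Ω] (X H : Subgroup (Perm Ω)) (A : Set Ω), Sec X H →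
  Two X H A → A.ncard = 2 → (Pr X H).ncard ≤ 9

def BoxTwo3 : Prop := ∀ (Ω : Type) [Fintype Ω] [DecidableEq Ω] (X H : Subgroup (Perm Ω)) (A : Set Ω), Sec X H →
  Two X H A → 3 ≤ A.ncard → (Pr X H).ncard ≤ 9

/-- `H` intransitive -/
def BoxIn : Prop := ∀ (Ω : Type) [Fintype Ω] [DecidableEq Ω] (X H : Subgroup (Perm Ω)), Sec X H →
  ¬ Tr H → (Ov X H).ncard ≤ 11

/-- `H` transitive and imprimitive -/
def BoxIm : Prop := ∀ (Ω : Type) [Fintype Ω] [DecidableEq Ω] (X H : Subgroup (Perm Ω)), Sec X H →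
  Tr H → ¬ IsPreprimitive H Ω → (Ov X H).ncard ≤ 11

theorem boxNP_of (h1 : BoxIn) (h2 : BoxIm) : BoxNP := fun Ω _ _ X H s hp => by
  by_cases h : Tr H
  · exact h2 Ω X H s h hp
  · exact h1 Ω X H s h

/-! ### first tools -/

variable {X H M : Subgroup (Perm Ω)}

theorem St_le (X : Subgroup (Perm Ω)) (E : Setoid Ω) : St X E ≤ X := fun _ h => h.1

theorem Sw_le (X : Subgroup (Perm Ω)) (A : Set Ω) : Sw X A ≤ X := fun _ h => h.1

theorem Sys.iff {E : Setoid Ω} (h : Sys H E) {g : Perm Ω} (hg : g ∈ H) (a b : Ω) : E (g a) (g b) ↔ E a b :=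
  ⟨fun h1 => by simpa using h.inv g⁻¹ (H.inv_mem hg) _ _ h1, h.inv g hg a b⟩

theorem Sys.le_St {E : Setoid Ω} (h : Sys H E) (hX : H ≤ X) : H ≤ St X E := fun g hg => ⟨hX hg, h.iff hg⟩

theorem Sys.mono {E : Setoid Ω} (h : Sys M E) (hle : H ≤ M) : Sys H E :=
  ⟨fun g hg => h.inv g (hle hg), h.nb, h.nt⟩

theorem Sys.St {E : Setoid Ω} (h : Sys H E) (X : Subgroup (Perm Ω)) : Sys (St X E) E :=
  ⟨fun g hg a b hab => (hg.2 a b).2 hab, h.nb, h.nt⟩

theorem tr_iff : Tr H ↔ IsPretransitive H Ω :=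
  ⟨fun h => ⟨fun a b => by
    obtain ⟨g, hg, e⟩ := h a b
    exact ⟨⟨g, hg⟩, e⟩⟩, fun h a b => by
    obtain ⟨g, e⟩ := h.exists_smul_eq a b
    exact ⟨g, g.2, e⟩⟩

theorem tr2_iff : Tr2 H ↔ IsMultiplyPretransitive H Ω 2 := by
  rw [is_two_pretransitive_iff]
  refine ⟨fun h a b c d hab hcd => ?_, fun h a b c d hab hcd => ?_⟩
  · obtain ⟨g, hg, e⟩ := h a b c d hab hcd
    exact ⟨⟨g, hg⟩, e⟩
  · obtain ⟨g, e⟩ := h hab hcd
    exact ⟨g, g.2, e⟩

theorem Tr.mono (h : Tr H) (hle : H ≤ M) : Tr M := fun a b => by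
  obtain ⟨g, hg, e⟩ := h a b
  exact ⟨g, hle hg, e⟩

theorem swap_mul_mem_alt {a b c d : Ω} (h1 : a ≠ b) (h2 : c ≠ d) : swap a b * swap c d ∈ alternatingGroup Ω := by
  rw [mem_alternatingGroup, map_mul, sign_swap h1, sign_swap h2]
  rfl

/-- the alternating group is doubly transitive -/
theorem tr2_alt (h4 : 4 ≤ Fintype.card Ω) : Tr2 (alternatingGroup Ω) := by
  rw [tr2_iff]
  have := alternatingGroup.isMultiplyPretransitive Ω
  exact isMultiplyPretransitive_of_le (n := Nat.card Ω - 2) (by rw [Nat.card_eq_fintype_card]; omega) (by omega)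

/-- a group with a non-trivial invariant equivalence relation does not contain the alternating group -/
theorem Sys.not_alt_le {E : Setoid Ω} (h : Sys H E) (h4 : 4 ≤ Fintype.card Ω) : ¬ alternatingGroup Ω ≤ H := by
  intro hle
  obtain ⟨a, b, hab, e⟩ := h.nb
  obtain ⟨c, d, hcd⟩ := h.nt
  obtain ⟨g, hg, rfl, rfl⟩ := tr2_alt h4 a b c d hab fun h => hcd (h ▸ E.refl' c)
  exact hcd (h.inv g (hle hg) a b e)

theorem Sys.St_lt (s : Sec X H) {E : Setoid Ω} {K : Subgroup (Perm Ω)} (h : Sys K E) : NP.St X E < X :=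
  lt_of_le_of_ne (St_le X E) fun e =>
    (h.St X).not_alt_le (by have := s.five; omega) (e.symm ▸ s.alt)

/-- a member of `Ov` with a non-trivial invariant equivalence relation is its stabiliser -/
theorem Sys.eq_St (s : Sec X H) (hM : M ∈ Ov X H) {E : Setoid Ω} (h : Sys M E) : M = NP.St X E := by
  rcases hM.1.eq_or_eq (h.le_St hM.1.le) (St_le X E) with e | e
  · exact e.symm
  · exact absurd e (h.St_lt s).ne

theorem Sys.not_prim {E : Setoid Ω} (h : Sys H E) : ¬ IsPreprimitive H Ω := by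
  intro hp
  obtain ⟨a, b, hab, e⟩ := h.nb
  obtain ⟨c, d, hcd⟩ := h.nt
  have hB : IsBlock H {x | E a x} := by
    rw [isBlock_iff_smul_eq_of_mem]
    intro g x hx hgx
    ext y
    rw [Set.mem_smul_set_iff_inv_smul_mem]
    have h1 : E (g.1 a) a := E.trans' (h.inv g.1 g.2 a x hx) (E.symm' hgx)
    have h2 := h.iff g.2 a (g.1⁻¹ y)
    simp only [Perm.coe_inv, apply_symm_apply] at h2
    exact ⟨fun h3 => E.trans' (E.symm' h1) (h2.2 h3), fun h3 => h2.1 (E.trans' h1 h3)⟩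
  rcases hB.subsingleton_or_eq_univ with h1 | h1
  · exact hab (h1 (E.refl' a) e)
  · have h2 : ∀ x, E a x := fun x => (h1.symm ▸ Set.mem_univ x : x ∈ {x | E a x})
    exact hcd (E.trans' (E.symm' (h2 c)) (h2 d))

/-- a group that is not primitive has a non-trivial invariant equivalence relation -/
theorem exists_sys (h3 : 3 ≤ Fintype.card Ω) (hp : ¬ IsPreprimitive H Ω) : ∃ E, Sys H E := by
  by_cases ht : Tr H
  · have := tr_iff.1 ht
    by_contra hcon
    apply hp
    refine ⟨fun {B} hB => ?_⟩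
    by_contra hnt
    rw [IsTrivialBlock, not_or, Set.not_subsingleton_iff] at hnt
    obtain ⟨⟨a, ha, b, hb, hab⟩, hu⟩ := hnt
    have key : ∀ g : H, ∀ x ∈ B, g • x ∈ B → ∀ y ∈ B, g • y ∈ B := fun g x hx hgx y hy => by
      have := isBlock_iff_smul_eq_of_mem.1 hB hx hgx
      exact this ▸ Set.smul_mem_smul_set hy
    apply hcon
    refine ⟨⟨fun x y => ∀ g : H, g • x ∈ B ↔ g • y ∈ B, fun _ _ => Iff.rfl, fun h g => (h g).symm,
      fun h h' g => (h g).trans (h' g)⟩, fun g hg x y hxy k => ?_, ⟨a, b, hab, fun g => ?_⟩, ?_⟩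
    · exact hxy (k * ⟨g, hg⟩)
    · exact ⟨fun h => key g a ha h b hb, fun h => key g b hb h a ha⟩
    · obtain ⟨c, hc⟩ := (Set.ne_univ_iff_exists_notMem B).1 hu
      exact ⟨a, c, fun h => hc (by simpa using (h 1).1 (by simpa using ha))⟩
  · simp only [Tr, not_forall] at ht
    obtain ⟨a, b, hab⟩ := ht
    have key : ∀ g ∈ H, ∀ x, (∃ k ∈ H, k a = g x) ↔ ∃ k ∈ H, k a = x := fun g hg x =>
      ⟨fun ⟨k, hk, e⟩ => ⟨g⁻¹ * k, H.mul_mem (H.inv_mem hg) hk, by simp [e]⟩,
        fun ⟨k, hk, e⟩ => ⟨g * k, H.mul_mem hg hk, by simp [e]⟩⟩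
    have ha : ∃ k ∈ H, k a = a := ⟨1, H.one_mem, rfl⟩
    refine ⟨⟨fun x y => (∃ k ∈ H, k a = x) ↔ ∃ k ∈ H, k a = y, fun _ => Iff.rfl, Iff.symm, Iff.trans⟩,
      fun g hg x y hxy => (key g hg x).trans (Iff.trans hxy (key g hg y).symm), ?_, ⟨a, b, fun h => hab (h.1 ha)⟩⟩
    have hne : a ≠ b := fun e => hab (e ▸ ha)
    obtain ⟨c, hc1, hc2⟩ : ∃ c, c ≠ a ∧ c ≠ b := by
      by_contra hc
      have h1 : (Finset.univ : Finset Ω) ⊆ {a, b} := fun c _ => by
        by_contra h2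
        simp only [Finset.mem_insert, Finset.mem_singleton, not_or] at h2
        exact hc ⟨c, h2⟩
      have h2 := Finset.card_le_card h1
      rw [Finset.card_univ, Finset.card_pair hne] at h2
      omega
    by_cases h : ∃ k ∈ H, k a = c
    · exact ⟨c, a, hc1, iff_of_true h ha⟩
    · exact ⟨c, b, hc2, iff_of_false h hab⟩

/-- a member of `Np` is the stabiliser of a non-trivial equivalence relation -/
theorem exists_St (s : Sec X H) (hM : M ∈ Np X H) : ∃ E, Sys M E ∧ M = St X E := by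
  obtain ⟨E, hE⟩ := exists_sys (by have := s.five; omega) hM.2
  exact ⟨E, hE, hE.eq_St s hM.1⟩

/-- Jordan -/
theorem Sm.alt_le (h : Sm M) (hp : IsPreprimitive M Ω) : alternatingGroup Ω ≤ M := by
  obtain ⟨g, hg, h1 | h1⟩ := h
  · exact alternatingGroup_le_of_isPreprimitive_of_isThreeCycle_mem hp h1 hg
  · exact (subgroup_eq_top_of_isPreprimitive_of_isSwap_mem hp g h1 hg).symm ▸ le_top

theorem Sm.mono (h : Sm H) (hle : H ≤ M) : Sm M := by
  obtain ⟨g, hg, h1⟩ := h
  exact ⟨g, hle hg, h1⟩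

theorem not_sm (s : Sec X H) (hM : M ∈ Pr X H) : ¬ Sm M := fun h => s.not_alt_le hM.1 (h.alt_le hM.2)

theorem Sm.Pr_eq (s : Sec X H) (h : Sm H) : Pr X H = ∅ :=
  Set.eq_empty_of_forall_notMem fun M hM => not_sm s hM (h.mono hM.1.2)

theorem ncard_Ov (X H : Subgroup (Perm Ω)) : (Ov X H).ncard ≤ (Np X H).ncard + (Pr X H).ncard := by
  refine le_trans (Set.ncard_le_ncard (fun M hM => ?_) (Set.toFinite _)) (Set.ncard_union_le _ _)
  by_cases h : IsPreprimitive M Ω
  · exact Or.inr ⟨hM, h⟩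
  · exact Or.inl ⟨hM, h⟩

/-- **counting by elements**: every member of `𝓜` contains an element `F i` outside `H`, `i ∈ Z` -/
theorem ncard_le_of_elts (s : Sec X H) {𝓜 : Set (Subgroup (Perm Ω))} (h𝓜 : 𝓜 ⊆ Ov X H) {ι : Type*} (Z : Finset ι)
    (F : ι → Perm Ω) (h : ∀ M ∈ 𝓜, ∃ i ∈ Z, F i ∈ M ∧ F i ∉ H) : 𝓜.ncard ≤ Z.card := by
  classical
  rcases Set.eq_empty_or_nonempty 𝓜 with rfl | ⟨M₀, hM₀⟩
  · simp
  obtain ⟨i₀, -, -⟩ := h M₀ hM₀
  have : Nonempty ι := ⟨i₀⟩
  choose! f hf using h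
  rw [← Set.ncard_coe_finset]
  refine Set.ncard_le_ncard_of_injOn f (fun M hM => (hf M hM).1) (fun M hM M' hM' e => ?_) (Set.toFinite _)
  exact s.eq_of_mem (h𝓜 hM) (h𝓜 hM') (hf M hM).2.1 (e ▸ (hf M' hM').2.1) (hf M hM).2.2

/-- **counting by labels**: two members of `𝓜` with the same label have a common element outside `H` -/
theorem ncard_le_of_labels (s : Sec X H) {𝓜 : Set (Subgroup (Perm Ω))} (h𝓜 : 𝓜 ⊆ Ov X H) {ι : Type*} (Z : Finset ι)
    (L : Subgroup (Perm Ω) → ι → Prop) (h : ∀ M ∈ 𝓜, ∃ i ∈ Z, L M i)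
    (hL : ∀ M ∈ 𝓜, ∀ M' ∈ 𝓜, ∀ i ∈ Z, L M i → L M' i → M = M') : 𝓜.ncard ≤ Z.card := by
  classical
  rcases Set.eq_empty_or_nonempty 𝓜 with rfl | ⟨M₀, hM₀⟩
  · simp
  obtain ⟨i₀, -, -⟩ := h M₀ hM₀
  have : Nonempty ι := ⟨i₀⟩
  choose! f hf using h
  rw [← Set.ncard_coe_finset]
  refine Set.ncard_le_ncard_of_injOn f (fun M hM => (hf M hM).1) (fun M hM M' hM' e => ?_) (Set.toFinite _)
  exact hL M hM M' hM' (f M) (hf M hM).1 (hf M hM).2 (e ▸ (hf M' hM').2)

theorem Cj.refl (S : Subgroup (Perm Ω)) : Cj S S := ⟨1, fun x => by simp⟩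

theorem Cj.symm {S T : Subgroup (Perm Ω)} (h : Cj S T) : Cj T S := by
  obtain ⟨g, hg⟩ := h
  refine ⟨g⁻¹, fun x => ?_⟩
  rw [hg]
  simp [mul_assoc]

theorem Cj.trans {S T U : Subgroup (Perm Ω)} (h : Cj S T) (h' : Cj T U) : Cj S U := by
  obtain ⟨g, hg⟩ := h
  obtain ⟨k, hk⟩ := h'
  refine ⟨k * g, fun x => ?_⟩
  rw [hg, hk]
  simp only [mul_assoc, _root_.mul_inv_rev]

theorem Few.mono {P Q : Subgroup (Perm Ω) → Prop} {c d : ℕ} (h : Few Q c) (hPQ : ∀ S, P S → Q S) (hcd : c ≤ d) :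
    Few P d := by
  obtain ⟨R, h1, h2⟩ := h
  exact ⟨R, h1.trans hcd, fun S hS => h2 S (hPQ S hS)⟩

theorem Few.or {P Q : Subgroup (Perm Ω) → Prop} {c d : ℕ} (h : Few P c) (h' : Few Q d) :
    Few (fun S => P S ∨ Q S) (c + d) := by
  classical
  obtain ⟨R, h1, h2⟩ := h
  obtain ⟨R', h1', h2'⟩ := h'
  refine ⟨R ∪ R', (Finset.card_union_le _ _).trans (by omega), fun S hS => ?_⟩
  rcases hS with hS | hS
  · obtain ⟨T, hT, e⟩ := h2 S hS
    exact ⟨T, Finset.mem_union_left _ hT, e⟩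
  · obtain ⟨T, hT, e⟩ := h2' S hS
    exact ⟨T, Finset.mem_union_right _ hT, e⟩

theorem Few.zero {P : Subgroup (Perm Ω) → Prop} (h : ∀ S, ¬ P S) : Few P 0 :=
  ⟨∅, le_rfl, fun S hS => absurd hS (h S)⟩

theorem Few.one {P : Subgroup (Perm Ω) → Prop} (h : ∀ S T, P S → P T → Cj S T) : Few P 1 := by
  by_cases h0 : ∃ T, P T
  · obtain ⟨T, hT⟩ := h0
    exact ⟨{T}, by simp, fun S hS => ⟨T, by simp, h S T hS hT⟩⟩
  · exact (Few.zero fun S hS => h0 ⟨S, hS⟩).mono (fun _ h => h) (by omega)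

theorem Few.two {P : Subgroup (Perm Ω) → Prop} (h : ∀ S T U, P S → P T → P U → Cj S T ∨ Cj S U ∨ Cj T U) :
    Few P 2 := by
  classical
  by_cases h0 : ∃ T U, P T ∧ P U ∧ ¬ Cj T U
  · obtain ⟨T, U, hT, hU, hTU⟩ := h0
    refine ⟨{T, U}, Finset.card_le_two, fun S hS => ?_⟩
    rcases h S T U hS hT hU with e | e | e
    · exact ⟨T, by simp, e⟩
    · exact ⟨U, by simp, e⟩
    · exact absurd e hTU
  · refine (Few.one fun S T hS hT => ?_).mono (fun _ h => h) (by omega)
    by_contra hc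
    exact h0 ⟨S, T, hS, hT, hc⟩

end Cfsg.Agent.SM.NP
end

-- part: SM/NP/Tool
section
/-!
# SM (S3570), `H` not primitive: restrictions to a subset, normal subgroups of `Sym(B)` (helper68)
-/

set_option autoImplicit false
set_option linter.unusedSectionVars false
set_option linter.unusedVariables false

namespace Cfsg.Agent.SM.NP

open Equiv Equiv.Perm Subgroup MulAction

variable {Ω : Type} [Fintype Ω] [DecidableEq Ω]

/-- `σ` moves only points of `B` -/
def Sp (B : Set Ω) (σ : Perm Ω) : Prop := ∀ x, x ∉ B → σ x = x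

/-- `g` preserves `B` -/
def Pv (B : Set Ω) (g : Perm Ω) : Prop := ∀ x, g x ∈ B ↔ x ∈ B

variable {B : Set Ω} {g k σ : Perm Ω}

theorem Sp.one : Sp B 1 := fun _ _ => rfl

theorem Sp.mul (h1 : Sp B g) (h2 : Sp B k) : Sp B (g * k) := fun x hx => by
  rw [Perm.mul_apply, h2 x hx, h1 x hx]

theorem Sp.inv (h1 : Sp B g) : Sp B g⁻¹ := fun x hx => by
  rw [Perm.inv_eq_iff_eq, h1 x hx]

theorem Sp.pv (h : Sp B σ) : Pv B σ := fun x => by
  refine ⟨fun h1 => ?_, fun h1 => ?_⟩
  · by_contra h2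
    exact h2 (h x h2 ▸ h1)
  · by_contra h2
    exact h2 ((σ.injective (h _ h2)).symm ▸ h1)

theorem Sp.swap {a b : Ω} (ha : a ∈ B) (hb : b ∈ B) : Sp B (swap a b) := fun x hx =>
  swap_apply_of_ne_of_ne (fun e => hx (e ▸ ha)) (fun e => hx (e ▸ hb))

theorem Pv.one : Pv B 1 := fun _ => Iff.rfl

theorem Pv.mul (h1 : Pv B g) (h2 : Pv B k) : Pv B (g * k) := fun x => (h1 _).trans (h2 x)

theorem Pv.inv (h1 : Pv B g) : Pv B g⁻¹ := fun x => by
  have := h1 (g⁻¹ x)
  simpa using this.symm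

theorem Pv.compl (h1 : Pv B g) : Pv Bᶜ g := fun x => not_congr (h1 x)

theorem Sp.pv_compl (h : Sp Bᶜ σ) : Pv B σ := fun x => by
  have := h.pv.compl x
  simpa using this

theorem Sp.conj (h : Sp B σ) (hg : Pv B g) : Sp B (g * σ * g⁻¹) := fun x hx => by
  rw [Perm.mul_apply, Perm.mul_apply, h _ fun h1 => hx ((hg.inv x).1 h1)]
  simp

/-- a permutation of a finite set that maps `B` into `B` preserves `B` -/
theorem Pv.of_maps (h : ∀ x ∈ B, g x ∈ B) : Pv B g := fun x => by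
  refine ⟨fun h1 => ?_, h x⟩
  have h2 : ∀ n : ℕ, ∀ y ∈ B, (g ^ n) y ∈ B := fun n => by
    induction n with
    | zero => exact fun y hy => hy
    | succ n ih => exact fun y hy => by rw [pow_succ, Perm.mul_apply]; exact ih _ (h y hy)
  have h3 := h2 (orderOf g - 1) _ h1
  rwa [← Perm.mul_apply, ← pow_succ, Nat.sub_add_cancel (orderOf_pos g), pow_orderOf_eq_one] at h3

open Classical in
/-- the restriction of `g` to `B`, extended by the identity -/
noncomputable def res (B : Set Ω) (g : Perm Ω) : Perm Ω :=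
  if h : Pv B g then ofSubtype (g.subtypePerm h) else 1

theorem res_mem (h : Pv B g) {x : Ω} (hx : x ∈ B) : res B g x = g x := by
  classical
  rw [res, dif_pos h]
  exact ofSubtype_subtypePerm_of_mem _ hx

theorem res_sp (B : Set Ω) (g : Perm Ω) : Sp B (res B g) := fun x hx => by
  classical
  unfold res
  split_ifs with h
  · exact ofSubtype_apply_of_not_mem _ hx
  · rfl

theorem Sp.ext (h1 : Sp B g) (h2 : Sp B k) (h : ∀ x ∈ B, g x = k x) : g = k := by
  ext x
  by_cases hx : x ∈ B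
  · exact h x hx
  · rw [h1 x hx, h2 x hx]

theorem res_eq (h : Sp B σ) (hg : ∀ x ∈ B, g x = σ x) : res B g = σ := by
  have h1 : Pv B g := Pv.of_maps fun x hx => hg x hx ▸ (h.pv x).2 hx
  exact (res_sp B g).ext h fun x hx => (res_mem h1 hx).trans (hg x hx)

theorem Sp.res (h : Sp B σ) : res B σ = σ := res_eq h fun _ _ => rfl

theorem res_eq_one (hg : ∀ x ∈ B, g x = x) : res B g = 1 := res_eq Sp.one hg

theorem res_mul (h1 : Pv B g) (h2 : Pv B k) : res B (g * k) = res B g * res B k :=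
  res_eq ((res_sp B g).mul (res_sp B k)) fun x hx => by
    rw [Perm.mul_apply, Perm.mul_apply, res_mem h2 hx, res_mem h1 ((h2 x).2 hx)]

theorem res_inv (h1 : Pv B g) : res B g⁻¹ = (res B g)⁻¹ := by
  rw [eq_inv_iff_mul_eq_one, ← res_mul h1.inv h1, inv_mul_cancel]
  exact Sp.one.res

/-- conjugation carries the restriction to `B` to the restriction to `B'` -/
theorem res_conj {B' : Set Ω} (hk : ∀ x, k x ∈ B' ↔ x ∈ B) (hg : Pv B g) :
    res B' (k * g * k⁻¹) = k * res B g * k⁻¹ := by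
  have h1 : ∀ x, k⁻¹ x ∈ B ↔ x ∈ B' := fun x => by rw [← hk]; simp
  refine res_eq (fun x hx => ?_) fun x hx => ?_
  · rw [Perm.mul_apply, Perm.mul_apply, res_sp B g _ fun h => hx ((h1 x).1 h)]
    simp
  · simp only [Perm.mul_apply]
    rw [res_mem hg ((h1 x).2 hx)]

/-- a normal subgroup of a symmetric group with a 3-cycle contains the alternating group -/
theorem alt_le_of_three {β : Type} [Fintype β] [DecidableEq β] (P : Subgroup (Perm β)) [hP : P.Normal] {c : Perm β}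
    (hc : c.IsThreeCycle) (h : c ∈ P) : alternatingGroup β ≤ P := by
  rw [← closure_three_cycles_eq_alternating, closure_le]
  intro d hd
  obtain ⟨u, hu⟩ := isConj_iff.1 (isConj_iff_cycleType_eq.2 (hc.trans (Eq.symm hd)))
  exact hu ▸ hP.conj_mem c h u

/-- a normal subgroup of a symmetric group with an odd element is everything -/
theorem eq_top_of_odd {β : Type} [Fintype β] [DecidableEq β] (P : Subgroup (Perm β)) [hP : P.Normal] {u : Perm β}
    (hu : u ∈ P) (ho : sign u = -1) : P = ⊤ := by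
  have fin : ∀ c ∈ P, c.IsThreeCycle → P = ⊤ := fun c h hc => by
    rw [eq_top_iff]
    intro g _
    rcases Int.units_eq_one_or (sign g) with h1 | h1
    · exact alt_le_of_three P hc h (mem_alternatingGroup.2 h1)
    · have h2 : g * u⁻¹ ∈ P := alt_le_of_three P hc h (mem_alternatingGroup.2 (by simp [h1, ho]))
      simpa using P.mul_mem h2 hu
  have com : ∀ a b, swap (u a) (u b) * swap a b ∈ P := fun a b => by
    have h1 := P.mul_mem hu (hP.conj_mem _ (P.inv_mem hu) (swap a b))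
    rwa [swap_inv, ← mul_assoc, ← mul_assoc, ← swap_apply_apply] at h1
  by_cases h2 : ∀ a, u (u a) = a
  swap
  · obtain ⟨a, ha⟩ := not_forall.1 h2
    have h3 : u a ≠ a := fun e => ha (by rw [e, e])
    refine fin _ (com a (u a)) ?_
    rw [swap_comm a]
    exact isThreeCycle_swap_mul_swap_same (fun e => h3 (u.injective e).symm) h3 ha
  obtain ⟨a, ha⟩ : ∃ a, u a ≠ a := by
    by_contra h
    have : u = 1 := Equiv.ext fun a => by_contra fun h1 => h ⟨a, h1⟩
    rw [this, map_one] at ho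
    exact absurd ho (by decide)
  by_cases h3 : ∀ c, c ≠ a → c ≠ u a → u c = c
  · have h4 : u = swap a (u a) := Equiv.ext fun x => by
      by_cases h5 : x = a
      · rw [h5, swap_apply_left]
      by_cases h6 : x = u a
      · rw [h6, swap_apply_right, h2]
      rw [swap_apply_of_ne_of_ne h5 h6, h3 x h5 h6]
    rw [eq_top_iff, ← closure_isSwap, closure_le]
    rintro _ ⟨x, y, hxy, rfl⟩
    obtain ⟨v, hv⟩ := isConj_iff.1 (isConj_swap ha.symm hxy)
    exact hv ▸ hP.conj_mem _ (h4 ▸ hu) v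
  push Not at h3
  obtain ⟨c, hca, hcb, hc⟩ := h3
  have hda : u c ≠ a := fun e => hcb (by rw [← e, h2])
  have hdb : u c ≠ u a := fun e => hca (u.injective e)
  obtain ⟨e, he1, he2, he3, he4⟩ : ∃ e, e ≠ a ∧ e ≠ u a ∧ e ≠ c ∧ e ≠ u c := by
    by_contra h
    push Not at h
    have h4 : u = swap a (u a) * swap c (u c) := Equiv.ext fun x => by
      rw [Perm.mul_apply]
      by_cases h5 : x = a
      · rw [h5, swap_apply_of_ne_of_ne hca.symm hda.symm, swap_apply_left]
      by_cases h6 : x = u a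
      · rw [h6, swap_apply_of_ne_of_ne hcb.symm hdb.symm, swap_apply_right, h2]
      by_cases h7 : x = c
      · rw [h7, swap_apply_left, swap_apply_of_ne_of_ne hda hdb]
      rw [h x h5 h6 h7, swap_apply_right, swap_apply_of_ne_of_ne hca hcb, h2]
    rw [h4, map_mul, sign_swap ha.symm, sign_swap hc.symm] at ho
    exact absurd ho (by decide)
  have h5 := com a c
  have h6 := hP.conj_mem _ h5 (swap (u c) e)
  have h7 : swap (u c) e * (swap (u a) (u c) * swap a c) * (swap (u c) e)⁻¹ = swap (u a) e * swap a c := by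
    have h8 : swap (u c) e * (swap (u a) (u c) * swap a c) * (swap (u c) e)⁻¹ =
        (swap (u c) e * swap (u a) (u c) * (swap (u c) e)⁻¹) * (swap (u c) e * swap a c * (swap (u c) e)⁻¹) := by group
    rw [h8, ← swap_apply_apply, ← swap_apply_apply, swap_apply_left, swap_apply_of_ne_of_ne hdb.symm he2.symm,
      swap_apply_of_ne_of_ne hda.symm he1.symm, swap_apply_of_ne_of_ne hc.symm he3.symm]
  rw [h7] at h6
  have h9 := P.mul_mem h5 (P.inv_mem h6)
  have h10 : swap (u a) (u c) * swap a c * (swap (u a) e * swap a c)⁻¹ = swap (u a) (u c) * swap (u a) e := by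
    rw [mul_inv_rev, swap_inv, swap_inv, mul_assoc, ← mul_assoc (swap a c), swap_mul_self, one_mul]
  rw [h10] at h9
  exact fin _ h9 (isThreeCycle_swap_mul_swap_same hdb.symm he2.symm he4.symm)

theorem Sp.exists_ofSubtype [DecidablePred (· ∈ B)] (h : Sp B σ) : ∃ u : Perm B, ofSubtype u = σ :=
  ⟨σ.subtypePerm h.pv, ofSubtype_subtypePerm _ fun x hx => by_contra fun h1 => hx (h x h1)⟩

theorem sp_ofSubtype [DecidablePred (· ∈ B)] (u : Perm B) : Sp B (ofSubtype u) := fun x hx =>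
  ofSubtype_apply_of_not_mem _ hx

/-- a group whose part on `B` is normal in `Sym(B)` and has an odd element contains `Sym(B)` -/
theorem mem_of_odd (P : Subgroup (Perm Ω)) (hn : ∀ s, Sp B s → ∀ p ∈ P, Sp B p → s * p * s⁻¹ ∈ P) {u : Perm Ω}
    (hu : u ∈ P) (hB : Sp B u) (ho : sign u = -1) (hσ : Sp B σ) : σ ∈ P := by
  classical
  let P' : Subgroup (Perm B) := P.comap ofSubtype
  have hP' : P'.Normal := ⟨fun p hp s => by
    rw [mem_comap, map_mul, map_mul, map_inv]
    exact hn _ (sp_ofSubtype s) _ hp (sp_ofSubtype p)⟩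
  obtain ⟨u', rfl⟩ := hB.exists_ofSubtype
  obtain ⟨s', rfl⟩ := hσ.exists_ofSubtype
  have h := eq_top_of_odd P' (u := u') hu (by rwa [sign_ofSubtype] at ho)
  exact (h.symm ▸ mem_top s' : s' ∈ P')

/-- a group with all the 3-cycles on `B` contains `Alt(B)` -/
theorem mem_of_three (P : Subgroup (Perm Ω)) (h : ∀ c, Sp B c → c.IsThreeCycle → c ∈ P) (hσ : Sp B σ)
    (he : sign σ = 1) : σ ∈ P := by
  classical
  obtain ⟨s', rfl⟩ := hσ.exists_ofSubtype
  have h1 : alternatingGroup B ≤ P.comap ofSubtype := by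
    rw [← closure_three_cycles_eq_alternating, closure_le]
    intro c hc
    exact h _ (sp_ofSubtype c) ((cycleType_ofSubtype).trans hc)
  exact h1 (mem_alternatingGroup.2 (by rwa [sign_ofSubtype] at he))

theorem exists_three_mem (h : 3 ≤ B.ncard) : ∃ a ∈ B, ∃ b ∈ B, ∃ c ∈ B, a ≠ b ∧ a ≠ c ∧ b ≠ c := by
  obtain ⟨a, b, c, ha, hb, hc, h1⟩ := (Set.two_lt_ncard_iff (Set.toFinite B)).1 (by omega)
  exact ⟨a, ha, b, hb, c, hc, h1⟩

/-- a group whose part on `B` is non-trivial and normalised by `Alt(B)` has a 3-cycle -/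
theorem sm_of_norm {H : Subgroup (Perm Ω)} (h5 : 5 ≤ B.ncard)
    (hn : ∀ s, Sp B s → sign s = 1 → ∀ p ∈ H, Sp B p → s * p * s⁻¹ ∈ H) {u : Perm Ω} (hu : u ∈ H) (hB : Sp B u)
    (h1 : u ≠ 1) : Sm H := by
  classical
  let P' : Subgroup (Perm B) := H.comap ofSubtype
  obtain ⟨u', rfl⟩ := hB.exists_ofSubtype
  have hc : 5 ≤ Fintype.card B := by rwa [← Nat.card_eq_fintype_card, Nat.card_coe_set_eq]
  have h2 : P' ≠ ⊥ := fun e => h1 (by
    have : u' ∈ P' := hu
    rw [e, mem_bot] at this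
    rw [this, map_one])
  have h3 := alt_le_of_conj hc h2 fun s hs p hp => by
    rw [mem_comap, map_mul, map_mul, map_inv]
    exact hn _ (sp_ofSubtype s) (by rw [sign_ofSubtype]; exact mem_alternatingGroup.1 hs) _ hp (sp_ofSubtype p)
  obtain ⟨a, ha, b, hb, c, hc, hab, hac, hbc⟩ := exists_three_mem (B := B) (by omega)
  have h4 : (swap (⟨a, ha⟩ : B) ⟨b, hb⟩ * swap (⟨a, ha⟩ : B) ⟨c, hc⟩).IsThreeCycle :=
    isThreeCycle_swap_mul_swap_same (by simpa using hab) (by simpa using hac) (by simpa using hbc)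
  exact ⟨_, h3 h4.mem_alternatingGroup, Or.inl ((cycleType_ofSubtype).trans h4)⟩

/-- one direction is enough -/
theorem mem_St_of_inv {X : Subgroup (Perm Ω)} {E : Setoid Ω} (hg : g ∈ X) (h : ∀ a b, E a b → E (g a) (g b)) :
    g ∈ St X E := by
  refine ⟨hg, fun a b => ⟨fun h1 => ?_, h a b⟩⟩
  have h2 : ∀ n : ℕ, ∀ x y, E x y → E ((g ^ n) x) ((g ^ n) y) := fun n => by
    induction n with
    | zero => exact fun x y hy => hy
    | succ n ih => exact fun x y hy => by rw [pow_succ, Perm.mul_apply, Perm.mul_apply]; exact ih _ _ (h x y hy)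
  have h3 := h2 (orderOf g - 1) _ _ h1
  rwa [← Perm.mul_apply, ← Perm.mul_apply, ← pow_succ, Nat.sub_add_cancel (orderOf_pos g), pow_orderOf_eq_one] at h3

/-- a permutation that fixes every class preserves the relation -/
theorem mem_St_of_fix {X : Subgroup (Perm Ω)} {E : Setoid Ω} (hg : g ∈ X) (h : ∀ a, E a (g a)) : g ∈ St X E :=
  mem_St_of_inv hg fun a b hab => E.trans' (E.symm' (h a)) (E.trans' hab (h b))

/-- no chain -/
theorem eq_of_chain {X H K K' : Subgroup (Perm Ω)} (s : Sec X H) (h1 : H ≤ K) (h2 : K ≤ K') (h3 : K' < X) :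
    K = H ∨ K = K' := by
  rcases h1.eq_or_lt with h | h
  · exact Or.inl h.symm
  · exact Or.inr (Sec.eq_of_le (s.mem_ov h (h2.trans_lt h3)) (s.mem_ov (h.trans_le h2) h3) h2)

theorem mem_X_of_even {X H : Subgroup (Perm Ω)} (s : Sec X H) (h : sign g = 1) : g ∈ X :=
  s.alt (mem_alternatingGroup.2 h)

theorem exists_notMem_of_card {T : Finset Ω} (h : T.card < Fintype.card Ω) : ∃ x, x ∉ T := by
  by_contra hc
  have h1 : (Finset.univ : Finset Ω) ⊆ T := fun x _ => by_contra fun h2 => hc ⟨x, h2⟩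
  have h2 := Finset.card_le_card h1
  rw [Finset.card_univ] at h2
  omega

end Cfsg.Agent.SM.NP
end

-- part: SM/NP/Small
section
/-!
# SM (S3570), `H` not primitive: the boxes of degree 5, 6, 7, 8 (helper79)
-/

set_option autoImplicit false
set_option linter.unusedSectionVars false
set_option maxHeartbeats 400000

namespace Cfsg.Agent.SM.NP

open Equiv Equiv.Perm Subgroup MulAction

namespace Small

variable {Ω : Type} [Fintype Ω] [DecidableEq Ω] {X H M : Subgroup (Perm Ω)}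

theorem exists_five (h : 5 ∣ Nat.card M) : ∃ g ∈ M, orderOf g = 5 := by
  have : Fact (Nat.Prime 5) := ⟨by norm_num⟩
  obtain ⟨g, hg⟩ := exists_prime_orderOf_dvd_card' 5 h
  exact ⟨g, g.2, by rw [← hg, orderOf_coe]⟩

/-- a power of a 5-cycle maps `b` to `c` -/
theorem exists_pow {g : Perm Ω} (hn : Fintype.card Ω < 10) (hg : orderOf g = 5) {b c : Ω} (hb : g b ≠ b) (hc : g c ≠ c)
    (hbc : b ≠ c) : ∃ i : ℕ, orderOf (g ^ i) = 5 ∧ (g ^ i) b = c := by
  have h1 : g.IsCycle := isCycle_of_prime_order' (by rw [hg]; norm_num) (by omega)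
  obtain ⟨i, hi⟩ := h1.exists_pow_eq hb hc
  have : Fact (Nat.Prime 5) := ⟨by norm_num⟩
  refine ⟨i, orderOf_eq_prime (by rw [← pow_mul, mul_comm, pow_mul, ← hg, pow_orderOf_eq_one, one_pow]) fun e => ?_, hi⟩
  rw [e] at hi
  exact hbc hi

theorem card_support {g : Perm Ω} (hn : Fintype.card Ω < 10) (hg : orderOf g = 5) : g.support.card = 5 :=
  (isCycle_of_prime_order' (by rw [hg]; norm_num) (by omega)).orderOf.symm.trans hg

theorem five_apply {g : Perm Ω} (hg : orderOf g = 5) (x : Ω) : g (g (g (g (g x)))) = x := by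
  have : (g ^ 5) x = x := by rw [← hg, pow_orderOf_eq_one]; rfl
  simpa only [pow_succ, _root_.pow_zero, _root_.one_mul, _root_.Equiv.Perm.coe_mul, _root_.Function.comp_apply] using this

theorem cnt5 : ∀ a b : Fin 5, a ≠ b →
    (Finset.univ.filter fun g : Perm (Fin 5) => g a = b ∧ ∀ x, g (g (g (g (g x)))) = x).card ≤ 6 := by (set_option synthInstance.maxSize 9000 in open scoped Cfsg.Agent.Lib.FastPerm in decide +kernel)

theorem cnt6 :
    (Finset.univ.filter fun g : Perm (Fin 6) => g 0 = 0 ∧ g 1 = 2 ∧ ∀ x, g (g (g (g (g x)))) = x).card ≤ 6 := by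
  (set_option synthInstance.maxSize 9000 in open scoped Cfsg.Agent.Lib.FastPerm in decide +kernel)

/-! ### Klein four groups -/

theorem pick {B : Set Ω} (h : B.ncard = 4) (p q r : Ω) : ∃ d ∈ B, d ≠ p ∧ d ≠ q ∧ d ≠ r := by
  have h1 : (({p, q, r} : Finset Ω) : Set Ω).ncard < B.ncard := by
    rw [Set.ncard_coe_finset, h]
    exact Nat.lt_succ_of_le Finset.card_le_three
  obtain ⟨d, hd, k⟩ := Set.exists_mem_notMem_of_ncard_lt_ncard h1
  exact ⟨d, hd, by simpa [not_or] using k⟩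

theorem kl_conj {G : Set Ω} (h : Kl M G) {m : Perm Ω} (hm : m ∈ M) : Kl M (m '' G) := by
  rintro _ ⟨a, ha, rfl⟩ _ ⟨b, hb, rfl⟩ _ ⟨c, hc, rfl⟩ _ ⟨d, hd, rfl⟩ h1 h2 h3 h4 h5 h6
  have := M.mul_mem (M.mul_mem hm (h a ha b hb c hc d hd (fun e => h1 (e ▸ rfl)) (fun e => h2 (e ▸ rfl))
    (fun e => h3 (e ▸ rfl)) (fun e => h4 (e ▸ rfl)) (fun e => h5 (e ▸ rfl)) (fun e => h6 (e ▸ rfl)))) (M.inv_mem hm)
  rwa [swap_apply_apply, swap_apply_apply, show m * swap a b * m⁻¹ * (m * swap c d * m⁻¹) = m * (swap a b * swap c d) * m⁻¹ by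
    group]

theorem kl_mono {G : Set Ω} (h : Kl H G) (hle : H ≤ M) : Kl M G :=
  fun a ha b hb c hc d hd h1 h2 h3 h4 h5 h6 => hle (h a ha b hb c hc d hd h1 h2 h3 h4 h5 h6)

/-- three common points -/
theorem sm_three {B G : Set Ω} (h4 : B.ncard = 4) (hB : Kl M B) (hG : Kl M G) {p q r s : Ω} (pB : p ∈ B) (qB : q ∈ B)
    (rB : r ∈ B) (sB : s ∉ B) (pG : p ∈ G) (qG : q ∈ G) (rG : r ∈ G) (sG : s ∈ G) (pq : p ≠ q) (pr : p ≠ r) (qr : q ≠ r) :
    Sm M := by
  obtain ⟨d, dB, d1, d2, d3⟩ := pick h4 p q r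
  have ns : ∀ x ∈ B, x ≠ s := fun x hx e => sB (e ▸ hx)
  have k := M.mul_mem (M.inv_mem (hB p pB q qB r rB d dB pq pr d1.symm qr d2.symm d3.symm))
    (hG p pG q qG r rG s sG pq pr (ns p pB) qr (ns q qB) (ns r rB))
  rw [mul_inv_rev, swap_inv, swap_inv, mul_assoc, swap_mul_self_mul] at k
  exact ⟨_, k, Or.inl (isThreeCycle_swap_mul_swap_same d3.symm (ns r rB) (ns d dB))⟩

/-- one common point -/
theorem sm_one {B G : Set Ω} (h4 : B.ncard = 4) (hB : Kl M B) (hG : Kl M G) {p q r s : Ω} (pB : p ∈ B) (qB : q ∉ B)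
    (rB : r ∉ B) (sB : s ∉ B) (pG : p ∈ G) (qG : q ∈ G) (rG : r ∈ G) (sG : s ∈ G) (qr : q ≠ r) (qs : q ≠ s) (rs : r ≠ s) :
    Sm M := by
  have n : ∀ x ∈ B, ∀ y ∉ B, x ≠ y := fun x hx y hy e => hy (e ▸ hx)
  have k := hG p pG q qG r rG s sG (n p pB q qB) (n p pB r rB) (n p pB s sB) qr qs rs
  obtain ⟨a, aB, a1, -⟩ := pick h4 p p p
  obtain ⟨b, bB, b1, b2, -⟩ := pick h4 p a a
  obtain ⟨c, cB, c1, c2, c3⟩ := pick h4 p a b
  have f : ∀ x ∈ B, x ≠ p → x ∈ (swap p q * swap r s : Perm Ω) '' B := fun x hx e => ⟨x, hx, by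
    rw [Perm.mul_apply, swap_apply_of_ne_of_ne (n x hx r rB) (n x hx s sB), swap_apply_of_ne_of_ne e (n x hx q qB)]⟩
  refine sm_three h4 hB (kl_conj hB k) aB bB cB qB (f a aB a1) (f b bB b1) (f c cB c1) ⟨p, pB, ?_⟩ b2.symm c2.symm c3.symm
  rw [Perm.mul_apply, swap_apply_of_ne_of_ne (n p pB r rB) (n p pB s sB), swap_apply_left]

/-- two common points -/
theorem mix {B G : Set Ω} (h4 : B.ncard = 4) (g4 : G.ncard = 4) (hB : Kl M B) (hG : Kl M G) (hs : ¬ Sm M) {p s : Ω}
    (pB : p ∈ B) (sB : s ∉ B) (pG : p ∈ G) (sG : s ∈ G) :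
    ∃ q r, q ∈ B ∧ r ∉ B ∧ q ∈ G ∧ r ∈ G ∧ p ≠ q ∧ r ≠ s := by
  obtain ⟨q, qG, q1, q2, -⟩ := pick g4 p s s
  obtain ⟨r, rG, r1, r2, r3⟩ := pick g4 p s q
  by_cases qB : q ∈ B <;> by_cases rB : r ∈ B
  · exact absurd (sm_three h4 hB hG pB qB rB sB pG qG rG sG q1.symm r1.symm r3.symm) hs
  · exact ⟨q, r, qB, rB, qG, rG, q1.symm, r2⟩
  · exact ⟨r, q, rB, qB, rG, qG, r1.symm, q2⟩
  · exact absurd (sm_one h4 hB hG pB qB rB sB pG qG rG sG r3.symm q2 r2) hs

/-- move the pair in `B` to a pair through `u` -/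
theorem move {B G : Set Ω} (h4 : B.ncard = 4) (hB : Kl M B) (hG : Kl M G) {p q r s u : Ω} (pB : p ∈ B) (qB : q ∈ B)
    (rB : r ∉ B) (sB : s ∉ B) (pG : p ∈ G) (qG : q ∈ G) (rG : r ∈ G) (sG : s ∈ G) (pq : p ≠ q) (uB : u ∈ B) :
    ∃ (G' : Set Ω) (v : Ω), Kl M G' ∧ u ∈ G' ∧ v ∈ G' ∧ r ∈ G' ∧ s ∈ G' ∧ v ∈ B ∧ v ≠ u := by
  by_cases h1 : u = p
  · exact ⟨G, q, hG, h1 ▸ pG, qG, rG, sG, qB, h1 ▸ pq.symm⟩
  by_cases h2 : u = q
  · exact ⟨G, p, hG, h2 ▸ qG, pG, rG, sG, pB, h2 ▸ pq⟩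
  obtain ⟨d, dB, d1, d2, d3⟩ := pick h4 p q u
  have n : ∀ x ∈ B, ∀ y ∉ B, y ≠ x := fun x hx y hy e => hy (e ▸ hx)
  have f : ∀ y ∉ B, y ∈ G → y ∈ (swap p u * swap q d : Perm Ω) '' G := fun y hy e => ⟨y, e, by
    rw [Perm.mul_apply, swap_apply_of_ne_of_ne (n q qB y hy) (n d dB y hy),
      swap_apply_of_ne_of_ne (n p pB y hy) (n u uB y hy)]⟩
  refine ⟨_, d, kl_conj hG (hB p pB u uB q qB d dB (Ne.symm h1) pq d1.symm h2 d3.symm d2.symm), ⟨p, pG, ?_⟩, ⟨q, qG, ?_⟩,
    f r rB rG, f s sB sG, dB, d3⟩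
  · rw [Perm.mul_apply, swap_apply_of_ne_of_ne pq d1.symm, swap_apply_left]
  · rw [Perm.mul_apply, swap_apply_left, swap_apply_of_ne_of_ne d1 d3]

theorem card_erase {B : Set Ω} (h4 : B.ncard = 4) {u : Ω} (hu : u ∈ B) : ((Set.toFinite B).toFinset.erase u).card = 3 := by
  rw [Finset.card_erase_of_mem ((Set.Finite.mem_toFinset _).2 hu), ← Set.ncard_eq_toFinset_card, h4]

theorem pr_sub (X H : Subgroup (Perm Ω)) : Pr X H ⊆ Ov X H := fun _ h => h.1

theorem pr_tr (h : M ∈ Pr X H) : Tr M := tr_iff.2 h.2.toIsPretransitive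

end Small

open Cfsg.Agent.SM.NP.Small

theorem boxN5 : BoxN5 := fun Ω _ _ X H s h5 ht => by
  simp only [Tr, not_forall] at ht
  obtain ⟨a, b, hab⟩ := ht
  have hne : a ≠ b := fun e => hab ⟨1, H.one_mem, e⟩
  let e := Fintype.equivFinOfCardEq h5
  refine le_trans (ncard_le_of_elts s (pr_sub X H) _ e.symm.permCongr fun M hM => ?_) (cnt5 (e a) (e b) (e.injective.ne hne))
  have := hM.2.toIsPretransitive
  obtain ⟨g, hg, o⟩ : ∃ g ∈ M, orderOf g = 5 := exists_five (by
    rw [← h5, ← Nat.card_eq_fintype_card, ← index_stabilizer_of_transitive M a]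
    exact index_dvd_card _)
  have hs : g.support = Finset.univ := Finset.eq_univ_of_card _ ((card_support (by omega) o).trans h5.symm)
  have mv : ∀ x, g x ≠ x := fun x => mem_support.1 (hs ▸ Finset.mem_univ x)
  obtain ⟨i, oi, hi⟩ := exists_pow (by omega) o (mv a) (mv b) hne
  have k : e.symm.permCongr (e.permCongr (g ^ i)) = g ^ i := e.permCongr.symm_apply_apply _
  refine ⟨e.permCongr (g ^ i), ?_, k.symm ▸ M.pow_mem hg i, k.symm ▸ fun h => hab ⟨_, h, hi⟩⟩
  simp only [hi, five_apply oi, _root_.Finset.mem_filter, _root_.Finset.mem_univ, _root_.Equiv.permCongr_apply, _root_.Equiv.symm_apply_apply, _root_.Equiv.apply_symm_apply, _root_.implies_true, _root_.and_self]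

theorem boxN6 : BoxN6 := fun Ω _ _ X H s h6 h5 => by
  let e := Fintype.equivFinOfCardEq h6
  refine le_trans (ncard_le_of_elts s (pr_sub X H) _ e.symm.permCongr fun M hM => ?_) cnt6
  have h2 : IsMultiplyPretransitive M Ω 2 := by
    rcases S0720.result Nat.prime_three h6 M hM.2 (e.symm 0) with k | ⟨-, a, h0, h1, -⟩
    · exact k
    · exfalso
      nlinarith
  obtain ⟨g, hg, o⟩ : ∃ g ∈ M, orderOf g = 5 := exists_five (by
    have h3 := IsMultiplyPretransitive.index_of_fixingSubgroup_mul (G := M) (α := Ω) h2 (s := {e.symm 0, e.symm 1})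
      (Set.ncard_pair (e.symm.injective.ne (by decide)))
    rw [Nat.card_eq_fintype_card, h6] at h3
    refine dvd_trans ?_ (index_dvd_card (fixingSubgroup M ({e.symm 0, e.symm 1} : Set Ω)))
    norm_num only [Nat.factorial] at h3
    omega)
  have c5 := card_support (by omega) o
  obtain ⟨x, hx⟩ : ∃ x, x ∉ g.support := by
    by_contra k
    rw [Finset.eq_univ_of_forall (fun x => by_contra fun h => k ⟨x, h⟩ : ∀ x, x ∈ g.support), Finset.card_univ] at c5
    omega
  obtain ⟨m, hm, rfl⟩ := pr_tr hM (e.symm 0) x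
  obtain ⟨g', hg', o', f'⟩ : ∃ g' ∈ M, orderOf g' = 5 ∧ g' (e.symm 0) = e.symm 0 := by
    refine ⟨m⁻¹ * g * m, M.mul_mem (M.mul_mem (M.inv_mem hm) hg) hm, ?_, ?_⟩
    · rw [← o]
      exact (SemiconjBy.orderOf_eq m (by simp [SemiconjBy, mul_assoc]))
    · simp only [notMem_support.1 hx, _root_.Fin.isValue, _root_.Equiv.Perm.coe_mul, _root_.Equiv.Perm.coe_inv, _root_.Function.comp_apply, _root_.Equiv.symm_apply_apply]
  have hs : g'.support = Finset.univ.erase (e.symm 0) := by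
    refine Finset.eq_of_subset_of_card_le (fun y hy => Finset.mem_erase.2 ⟨?_, Finset.mem_univ _⟩) ?_
    · rintro rfl
      exact mem_support.1 hy f'
    · rw [card_support (by omega) o', Finset.card_erase_of_mem (Finset.mem_univ _), Finset.card_univ, h6]
  have mv : ∀ j : Fin 6, j ≠ 0 → g' (e.symm j) ≠ e.symm j := fun j hj =>
    mem_support.1 (hs ▸ Finset.mem_erase.2 ⟨e.symm.injective.ne hj, Finset.mem_univ _⟩)
  obtain ⟨i, oi, hi⟩ := exists_pow (by omega) o' (mv 1 (by decide)) (mv 2 (by decide)) (e.symm.injective.ne (by decide))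
  have k : e.symm.permCongr (e.permCongr (g' ^ i)) = g' ^ i := e.permCongr.symm_apply_apply _
  refine ⟨e.permCongr (g' ^ i), ?_, k.symm ▸ M.pow_mem hg' i, k.symm ▸ fun h => h5 _ h oi⟩
  simp only [hi, five_apply oi, pow_apply_eq_self_of_apply_eq_self f', _root_.Fin.isValue, _root_.Finset.mem_filter, _root_.Finset.mem_univ, _root_.Equiv.permCongr_apply, _root_.Equiv.apply_symm_apply, _root_.Equiv.symm_apply_apply, _root_.implies_true, _root_.and_self]

theorem boxN7 : BoxN7 := fun Ω _ _ X H B s h7 h4 hS hK => by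
  have c3 : Bᶜ.ncard = 3 := by
    have := Set.ncard_add_ncard_compl B
    rw [Nat.card_eq_fintype_card] at this
    omega
  obtain ⟨x, y, z, xy, xz, yz, hc⟩ := Set.ncard_eq_three.1 c3
  obtain ⟨u, uB⟩ : B.Nonempty := Set.nonempty_of_ncard_ne_zero (by omega)
  refine le_trans (ncard_le_of_elts s (pr_sub X H) (({(x, y), (x, z), (y, z)} : Finset (Ω × Ω)) ×ˢ
    ((Set.toFinite B).toFinset.erase u)) (fun i => swap i.1.1 u * swap i.1.2 i.2) fun M hM => ?_) ?_
  · obtain ⟨m, hm, e⟩ := pr_tr hM u x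
    have hB := kl_mono hK hM.1.2
    have g4 : (m '' B).ncard = 4 := by rw [Set.ncard_image_of_injective _ m.injective, h4]
    obtain ⟨p, pG, p1, p2, p3⟩ := pick g4 x y z
    have pB : p ∈ B := by
      by_contra k
      have : p ∈ ({x, y, z} : Set Ω) := hc ▸ k
      simp [p1, p2, p3] at this
    have xB : x ∉ B := show x ∈ Bᶜ by simp [hc]
    obtain ⟨q, r, qB, rB, qG, rG, pq, rx⟩ := mix h4 g4 hB (kl_conj hB hm) (not_sm s hM) pB xB pG ⟨u, uB, e⟩
    obtain ⟨G, v, hG, uG, vG, rG, xG, vB, vu⟩ := move h4 hB (kl_conj hB hm) pB qB rB xB pG qG rG ⟨u, uB, e⟩ pq uB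
    have n : ∀ a ∈ B, ∀ b ∉ B, b ≠ a := fun a ha b hb e => hb (e ▸ ha)
    refine ⟨((x, r), v), Finset.mem_product.2 ⟨?_, Finset.mem_erase.2 ⟨vu, (Set.Finite.mem_toFinset _).2 vB⟩⟩,
      hG x xG u uG r rG v vG (n u uB x xB) rx.symm (n v vB x xB) (n u uB r rB).symm vu.symm (n v vB r rB), fun k => xB ?_⟩
    · have : r ∈ ({x, y, z} : Set Ω) := hc ▸ rB
      rcases this with k | k | k
      · exact absurd k rx
      · simp [k]
      · simp [show r = z from k]
    · have := ((hS k).2 u).2 uB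
      rwa [Perm.mul_apply, swap_apply_of_ne_of_ne (n u uB r rB).symm vu.symm, swap_apply_right] at this
  · rw [Finset.card_product, card_erase h4 uB]
    have : ({(x, y), (x, z), (y, z)} : Finset (Ω × Ω)).card ≤ 3 := Finset.card_le_three
    omega

theorem boxN8b : BoxN8b := fun Ω _ _ X H B s h8 h4 hS hK hK' => by
  have c4 : Bᶜ.ncard = 4 := by
    have := Set.ncard_add_ncard_compl B
    rw [Nat.card_eq_fintype_card] at this
    omega
  obtain ⟨a, aB⟩ : B.Nonempty := Set.nonempty_of_ncard_ne_zero (by omega)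
  obtain ⟨b, bB⟩ : Bᶜ.Nonempty := Set.nonempty_of_ncard_ne_zero (by omega)
  refine le_trans (ncard_le_of_elts s (pr_sub X H) (((Set.toFinite B).toFinset.erase a) ×ˢ
    ((Set.toFinite Bᶜ).toFinset.erase b)) (fun i => swap a b * swap i.1 i.2) fun M hM => ?_) ?_
  · obtain ⟨m, hm, e⟩ : ∃ m ∈ M, ¬ ((∀ x, m x ∈ B ↔ x ∈ B) ∨ ∀ x, m x ∈ B ↔ x ∉ B) := by
      by_contra k
      obtain ⟨a', aB', a1, -⟩ := pick h4 a a a
      refine Sys.not_prim (E := ⟨fun x y => x ∈ B ↔ y ∈ B, fun _ => Iff.rfl, Iff.symm, Iff.trans⟩)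
        ⟨fun g hg x y hxy => ?_, ⟨a', a, a1, iff_of_true aB' aB⟩, ⟨a, b, fun h => bB (h.1 aB)⟩⟩ hM.2
      rcases (by_contra fun h => k ⟨g, hg, h⟩ : (∀ x, g x ∈ B ↔ x ∈ B) ∨ ∀ x, g x ∈ B ↔ x ∉ B) with h | h
      · exact (h x).trans (Iff.trans hxy (h y).symm)
      · exact (h x).trans (Iff.trans (not_congr hxy) (h y).symm)
    have hB := kl_mono hK hM.1.2
    have hB' := kl_mono hK' hM.1.2
    have g4 : (m '' B).ncard = 4 := by rw [Set.ncard_image_of_injective _ m.injective, h4]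
    obtain ⟨p, pG, pB⟩ : ∃ p ∈ m '' B, p ∈ B := by
      by_contra k
      have h1 : m '' B = Bᶜ := Set.eq_of_subset_of_ncard_le (fun x hx h => k ⟨x, hx, h⟩) (by omega)
      refine e (Or.inr fun x => ?_)
      rw [← m.injective.mem_set_image (s := B) (a := x), h1, Set.mem_compl_iff, not_not]
    obtain ⟨t, tG, tB⟩ : ∃ t ∈ m '' B, t ∉ B := by
      by_contra k
      have h1 : m '' B = B := Set.eq_of_subset_of_ncard_le (fun x hx => by_contra fun h => k ⟨x, hx, h⟩) (by omega)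
      refine e (Or.inl fun x => ?_)
      rw [← m.injective.mem_set_image (s := B) (a := x), h1]
    obtain ⟨q, r, qB, rB, qG, rG, pq, rt⟩ := mix h4 g4 hB (kl_conj hB hm) (not_sm s hM) pB tB pG tG
    obtain ⟨G, v, hG, aG, vG, rG, tG, vB, va⟩ := move h4 hB (kl_conj hB hm) pB qB rB tB pG qG rG tG pq aB
    obtain ⟨G', w, hG', bG, wG, aG, vG, wB, wb⟩ := move c4 hB' hG rB tB (not_not.2 aB) (not_not.2 vB) rG tG aG vG rt bB
    have n : ∀ x ∈ B, ∀ y ∈ Bᶜ, x ≠ y := fun x hx y hy e => hy (e ▸ hx)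
    refine ⟨(v, w), Finset.mem_product.2 ⟨Finset.mem_erase.2 ⟨va, (Set.Finite.mem_toFinset _).2 vB⟩,
      Finset.mem_erase.2 ⟨wb, (Set.Finite.mem_toFinset _).2 wB⟩⟩,
      hG' a aG b bG v vG w wG (n a aB b bB) va.symm (n a aB w wB) (n v vB b bB).symm wb.symm (n v vB w wB), fun k => ?_⟩
    rcases hS _ k with h | h
    · have := (h a).2 aB
      rw [Perm.mul_apply, swap_apply_of_ne_of_ne va.symm (n a aB w wB), swap_apply_left] at this
      exact bB this
    · obtain ⟨d, dB, d1, d2, -⟩ := pick h4 a v v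
      refine (h d).1 ?_ dB
      rwa [Perm.mul_apply, swap_apply_of_ne_of_ne d2 (n d dB w wB), swap_apply_of_ne_of_ne d1 (n d dB b bB)]
  · rw [Finset.card_product, card_erase h4 aB, card_erase c4 bB]

end Cfsg.Agent.SM.NP
end

-- part: SM/NP/P2
section
/-!
# SM / BoxNP: the box `P2` (helper22)
-/

set_option autoImplicit false
set_option linter.unusedSectionVars false
set_option linter.unusedVariables false

namespace Cfsg.Agent.SM.NP

open Equiv Equiv.Perm Subgroup MulAction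

namespace P2

variable {Ω : Type} [Fintype Ω] [DecidableEq Ω] {M : Subgroup (Perm Ω)} {τ σ : Perm Ω}

theorem conj2 (g : Perm Ω) (p q r s : Ω) :
    g * (swap p q * swap r s) * g⁻¹ = swap (g p) (g q) * swap (g r) (g s) := by
  rw [swap_apply_apply, swap_apply_apply]; group

theorem conj_mem {g : Perm Ω} (hg : g ∈ M) {p q r s : Ω} (h : swap p q * swap r s ∈ M) :
    swap (g p) (g q) * swap (g r) (g s) ∈ M := conj2 g p q r s ▸ M.mul_mem (M.mul_mem hg h) (M.inv_mem hg)

theorem tri' {p q t r s : Ω} (h : swap p q * swap r s ∈ M) (h' : swap p t * swap r s ∈ M) (h1 : p ≠ q) (h2 : p ≠ t)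
    (h3 : q ≠ t) : Sm M := by
  refine ⟨_, M.mul_mem h (M.inv_mem h'), Or.inl ?_⟩
  rw [mul_inv_rev, swap_inv, swap_inv, mul_assoc, ← mul_assoc (swap r s), swap_mul_self, one_mul]
  exact isThreeCycle_swap_mul_swap_same h1 h2 h3

theorem tri {g : Perm Ω} (hg : g ∈ M) {p q r s : Ω} (h : swap p q * swap r s ∈ M) (hpq : p ≠ q) (h1 : g p ≠ p) (h2 : g q = q)
    (h3 : g r = r) (h4 : g s = s) : Sm M := by
  have h' := conj_mem hg h
  rw [h2, h3, h4, swap_comm] at h'
  rw [swap_comm] at h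
  exact tri' h h' hpq.symm (fun e => hpq (g.injective (e ▸ h2.symm ▸ rfl))) h1.symm

theorem exists_out (s : Finset Ω) (h : s.card < Fintype.card Ω) : ∃ x, x ∉ s := by
  by_contra hn
  push Not at hn
  rw [Finset.eq_univ_of_forall hn, Finset.card_univ] at h
  exact lt_irrefl _ h

theorem tau_eq (h : Mat τ) {x y : Ω} : τ x = y ↔ x = τ y :=
  ⟨fun e => by rw [← e, h.inv], fun e => by rw [e, h.inv]⟩

theorem sw_fix {a b c d x : Ω} (h1 : x ≠ a) (h2 : x ≠ b) (h3 : x ≠ c) (h4 : x ≠ d) : (swap a b * swap c d) x = x := by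
  rw [Perm.mul_apply, swap_apply_of_ne_of_ne h3 h4, swap_apply_of_ne_of_ne h1 h2]

theorem sw_left {a b c d : Ω} (h3 : a ≠ c) (h4 : a ≠ d) : (swap a b * swap c d) a = b := by
  rw [Perm.mul_apply, swap_apply_of_ne_of_ne h3 h4, swap_apply_left]

section
variable (hτ : Mat τ) (hσ : Mat σ) (dτ : Dbl M τ) (dσ : Dbl M σ) (hM : ¬ Sm M)
include hτ hσ dτ dσ hM

/-- a point outside the edges of `a`, `x`, `y`, `z` gives a 3-cycle -/
theorem far {a c e : Ω} (h : σ a ≠ τ a) (c1 : c ≠ a) (c2 : c ≠ τ a) (c3 : c ≠ σ a) (c4 : σ c ≠ τ a)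
    (he : e ∉ ({a, τ a, σ a, τ (σ a), c, τ c, σ c, τ (σ c)} : Finset Ω)) : False := by
  simp only [Finset.mem_insert, Finset.mem_singleton, not_or] at he
  obtain ⟨e1, e2, e3, e4, e5, e6, e7, e8⟩ := he
  have f : ∀ {x}, e ≠ τ x → x ≠ τ e := fun h e' => h (by rw [e', hτ.inv])
  refine hM (tri (dτ a e e1 e2) (dσ a c c1 c3) (hσ.ne a).symm ?_ ?_ ?_ ?_)
  · rw [sw_left (Ne.symm e1) (f e2)]; exact hτ.ne a
  · exact sw_fix (hσ.ne a) h (Ne.symm e3) (f e4)
  · exact sw_fix c1 c2 (Ne.symm e5) (f e6)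
  · exact sw_fix (fun e' => c3 ((tau_eq hσ).1 e')) c4 (Ne.symm e7) (f e8)

theorem lemA (h8 : 8 ≤ Fintype.card Ω) {a : Ω} (h : σ a ≠ τ a) : σ (τ (σ a)) = τ a := by
  by_contra hn
  obtain ⟨e, he⟩ := exists_out {a, τ a, σ a, τ (σ a), σ (τ (σ a)), τ (σ (τ (σ a)))} (Finset.card_le_six.trans_lt (by omega))
  refine far hτ hσ dτ dσ hM (c := τ (σ a)) (e := e) h (fun e' => h ((tau_eq hτ).1 e')) (fun e' => hσ.ne a (τ.injective e'))
    (hτ.ne _) hn ?_
  simp only [Finset.mem_insert, Finset.mem_singleton, not_or, hτ.inv] at he ⊢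
  (clear * - he; tauto)

theorem lemB {a : Ω} (h : σ a ≠ τ a) (c : Ω) : σ c ≠ τ c := fun e => by
  have c1 : c ≠ a := fun e' => h (e' ▸ e)
  have c2 : c ≠ τ a := fun e' => h (by rw [e', hτ.inv] at e; exact ((tau_eq hσ).1 e).symm)
  have c3 : c ≠ σ a := fun e' => h (by rw [e', hσ.inv] at e; exact ((tau_eq hτ).1 e.symm))
  have := dσ a c c1 c3
  rw [e] at this
  exact hM (tri' this (dτ a c c1 c2) (hσ.ne a).symm (hτ.ne a).symm h)

theorem lemC (h9 : 9 ≤ Fintype.card Ω) {a : Ω} (h : σ a ≠ τ a) : False := by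
  obtain ⟨c, hc⟩ := exists_out {a, τ a, σ a, σ (τ a)} (Finset.card_le_four.trans_lt (by omega))
  simp only [Finset.mem_insert, Finset.mem_singleton, not_or] at hc
  obtain ⟨e, he⟩ := exists_out {a, τ a, σ a, τ (σ a), c, τ c, σ c, τ (σ c)}
    (lt_of_le_of_lt ((Finset.card_insert_le _ _).trans (Nat.succ_le_succ ((Finset.card_insert_le _ _).trans
      (Nat.succ_le_succ Finset.card_le_six)))) (by omega))
  exact far hτ hσ dτ dσ hM h hc.1 hc.2.1 hc.2.2.1 (fun e' => hc.2.2.2 ((tau_eq hσ).1 e')) he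

theorem lemD (h8 : 8 ≤ Fintype.card Ω) {a p q r : Ω} (h : σ a ≠ τ a) (hp : σ a = p ∨ σ a = τ p)
    (ar : a ≠ r) (ar' : a ≠ τ r) (qa : q ≠ a) (qa' : q ≠ τ a) (qp : q ≠ p) (qp' : q ≠ τ p) (qr : q ≠ r) (qr' : q ≠ τ r)
    (rp : r ≠ p) (rp' : r ≠ τ p)
    (hu : ∀ x, x = a ∨ x = τ a ∨ x = p ∨ x = τ p ∨ x = q ∨ x = τ q ∨ x = r ∨ x = τ r) :
    swap a p * swap q r ∈ M ∨ swap a p * swap q (τ r) ∈ M := by
  have hA := lemA hτ hσ dτ dσ hM h8 h
  have q1 : q ≠ σ a := by rcases hp with e | e <;> rwa [e]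
  have q2 : q ≠ τ (σ a) := by rcases hp with e | e <;> rw [e] <;> [exact qp'; rwa [hτ.inv]]
  have hq : σ q = r ∨ σ q = τ r := by
    have k1 : σ q ≠ σ a := fun e => qa (σ.injective e)
    have k2 : σ q ≠ τ (σ a) := fun e => qa' (by rw [← hA, ← e, hσ.inv])
    rcases hu (σ q) with e | e | e | e | e | e | e | e
    · exact absurd ((tau_eq hσ).1 e) q1
    · exact absurd (σ.injective (e.trans hA.symm)) q2
    · rcases hp with e' | e'
      · exact absurd (e.trans e'.symm) k1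
      · exact absurd (by rw [e, e', hτ.inv]) k2
    · rcases hp with e' | e'
      · exact absurd (by rw [e, e']) k2
      · exact absurd (e.trans e'.symm) k1
    · exact absurd e (hσ.ne q)
    · exact absurd e (lemB hτ hσ dτ dσ hM h q)
    · exact Or.inl e
    · exact Or.inr e
  have y := dσ a q qa q1
  rcases hp with e | e
  · rw [e] at y
    exact hq.imp (fun e' => by rwa [e'] at y) fun e' => by rwa [e'] at y
  · have ap : a ≠ p := fun e' => h (by rw [e, e'])
    have ap' : a ≠ τ p := fun e' => hσ.ne a (e.trans e'.symm)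
    have r1 : τ r ≠ p := fun e' => rp' ((tau_eq hτ).1 e')
    have r2 : τ r ≠ τ p := fun e' => rp (τ.injective e')
    have y' := conj_mem (dτ p r rp rp') y
    rw [e, sw_fix ap ap' ar ar', sw_fix qp qp' qr qr', Perm.mul_apply, swap_apply_of_ne_of_ne rp'.symm r2.symm,
      swap_apply_right] at y'
    rcases hq with e' | e'
    · rw [e', Perm.mul_apply, swap_apply_left, swap_apply_of_ne_of_ne r1 r2] at y'
      exact Or.inr y'
    · rw [e', Perm.mul_apply, swap_apply_right, swap_apply_of_ne_of_ne rp rp'] at y'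
      exact Or.inl y'

end

/-- a primitive group contains the products of two edges of a second matching -/
theorem exists_sigma (hτ : Mat τ) (dτ : Dbl M τ) (h3 : 3 ≤ Fintype.card Ω) (hp : IsPreprimitive M Ω) :
    ∃ σ a, Mat σ ∧ Dbl M σ ∧ σ a ≠ τ a := by
  obtain ⟨m, hm, x, hx⟩ : ∃ m ∈ M, ∃ x, m (τ x) ≠ τ (m x) := by
    by_contra hn
    push Not at hn
    obtain ⟨a⟩ : Nonempty Ω := Fintype.card_pos_iff.1 (by omega)
    obtain ⟨c, hc⟩ := exists_out {a, τ a} (Finset.card_le_two.trans_lt (by omega))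
    simp only [Finset.mem_insert, Finset.mem_singleton, not_or] at hc
    refine Sys.not_prim (E := ⟨fun x y => y = x ∨ y = τ x, fun _ => Or.inl rfl,
      fun h => h.imp Eq.symm fun e => by rw [e, hτ.inv], fun h h' => ?_⟩)
      ⟨fun g hg x y h => h.imp (congrArg g) fun e => by rw [e, hn g hg], ⟨a, τ a, (hτ.ne a).symm, Or.inr rfl⟩,
        ⟨a, c, not_or.2 hc⟩⟩ hp
    rcases h with rfl | rfl
    · exact h'
    · rw [hτ.inv] at h'
      exact h'.symm
  refine ⟨m * τ * m⁻¹, m x, ⟨fun a e => hτ.ne (m⁻¹ a) ?_, fun a => by simp only [hτ.inv, _root_.Equiv.Perm.coe_mul, _root_.Equiv.Perm.coe_inv, _root_.Function.comp_apply, _root_.Equiv.symm_apply_apply, _root_.Equiv.apply_symm_apply]⟩, fun a b h1 h2 => ?_, by simpa only [_root_.Equiv.Perm.coe_mul, _root_.Equiv.Perm.coe_inv, _root_.Function.comp_apply, _root_.Equiv.symm_apply_apply, _root_.ne_eq] using hx⟩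
  · rw [Perm.eq_inv_iff_eq]; exact e
  · simpa only [_root_.Equiv.Perm.coe_mul, _root_.Equiv.Perm.coe_inv, _root_.Function.comp_apply, _root_.Equiv.apply_symm_apply] using conj_mem hm (dτ (m⁻¹ a) (m⁻¹ b) (fun e => h1 (m⁻¹.injective e)) fun e => h2 (by
      rw [Perm.inv_eq_iff_eq] at e; exact e))

theorem exists_four (hτ : Mat τ) (h8 : Fintype.card Ω = 8) : ∃ a p q r : Ω, (p ≠ a ∧ p ≠ τ a) ∧ (q ≠ a ∧ q ≠ τ a ∧ q ≠ p ∧ q ≠ τ p) ∧
    (r ≠ a ∧ r ≠ τ a ∧ r ≠ p ∧ r ≠ τ p ∧ r ≠ q ∧ r ≠ τ q) ∧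
    ∀ x, x = a ∨ x = τ a ∨ x = p ∨ x = τ p ∨ x = q ∨ x = τ q ∨ x = r ∨ x = τ r := by
  obtain ⟨a⟩ : Nonempty Ω := Fintype.card_pos_iff.1 (by omega)
  obtain ⟨p, hp⟩ := exists_out {a, τ a} (Finset.card_le_two.trans_lt (by omega))
  obtain ⟨q, hq⟩ := exists_out {a, τ a, p, τ p} (Finset.card_le_four.trans_lt (by omega))
  obtain ⟨r, hr⟩ := exists_out {a, τ a, p, τ p, q, τ q} (Finset.card_le_six.trans_lt (by omega))
  simp only [Finset.mem_insert, Finset.mem_singleton, not_or] at hp hq hr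
  refine ⟨a, p, q, r, hp, hq, hr, fun x => ?_⟩
  have f : ∀ {x y}, x ≠ τ y → τ x ≠ y := fun h e => h ((tau_eq hτ).1 e)
  have g : ∀ {x y}, x ≠ y → τ x ≠ τ y := fun h e => h (τ.injective e)
  have e : ({τ r, r, τ q, q, τ p, p, τ a, a} : Finset Ω) = Finset.univ := by
    apply Finset.eq_univ_of_card
    rw [h8, Finset.card_insert_of_notMem, Finset.card_insert_of_notMem, Finset.card_insert_of_notMem,
      Finset.card_insert_of_notMem, Finset.card_insert_of_notMem, Finset.card_insert_of_notMem,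
      Finset.card_pair (hτ.ne a)] <;> simp only [Finset.mem_insert, Finset.mem_singleton, not_or]
    exacts [⟨hp.2, hp.1⟩, ⟨hτ.ne p, g hp.1, f hp.2⟩, ⟨hq.2.2.2, hq.2.2.1, hq.2.1, hq.1⟩,
      ⟨hτ.ne q, g hq.2.2.1, f hq.2.2.2, g hq.1, f hq.2.1⟩,
      ⟨hr.2.2.2.2.2, hr.2.2.2.2.1, hr.2.2.2.1, hr.2.2.1, hr.2.1, hr.1⟩,
      ⟨hτ.ne r, g hr.2.2.2.2.1, f hr.2.2.2.2.2, g hr.2.2.1, f hr.2.2.2.1, g hr.1, f hr.2.1⟩]
  have := e ▸ Finset.mem_univ x
  simp only [Finset.mem_insert, Finset.mem_singleton] at this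
  (clear * - this; (solve | (intros; casesm* _ ∨ _, _ ∧ _) <;> (first | with_reducible contradiction | repeat (first | with_reducible assumption | exact Or.inl (by with_reducible assumption) | refine Or.inr ?_)) | tauto))

end P2

open P2 in
/-- **box P2** -/
theorem boxP2 : BoxP2 := fun Ω _ _ X H τ s h8 hτ hc dτ => by
  classical
  have dM : ∀ M ∈ Pr X H, Dbl M τ := fun M hM a b h1 h2 => hM.1.2 (dτ a b h1 h2)
  rcases h8.eq_or_lt with h8' | h9
  · obtain ⟨a, p, q, r, ⟨pa, pa'⟩, ⟨qa, qa', qp, qp'⟩, ⟨ra, ra', rp, rp', rq, rq'⟩, hu⟩ := exists_four hτ h8'.symm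
    have f : ∀ {x y}, x ≠ τ y → y ≠ τ x := fun h e => h (by rw [e, hτ.inv])
    have g : ∀ {x y}, x ≠ y → τ x ≠ τ y := fun h e => h (τ.injective e)
    have nh : ∀ {p q r}, p ≠ a → p ≠ τ a → q ≠ a → q ≠ τ a → r ≠ a → r ≠ τ a → swap a p * swap q r ∉ H :=
      fun {p q r} h1 h2 h3 h4 h5 h6 hy => by
        have := congrArg (fun k : Perm Ω => k a) (hc _ hy)
        simp only [Perm.mul_apply (f := swap a p * swap q r), Perm.mul_apply (f := τ)] at this
        rw [sw_fix (hτ.ne a) h2.symm h4.symm h6.symm, sw_left h3.symm h5.symm] at this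
        exact h1 (τ.injective this).symm
    refine (ncard_le_of_elts s (fun _ h => h.1) {swap a p * swap q r, swap a p * swap q (τ r), swap a q * swap p r,
      swap a q * swap p (τ r), swap a r * swap p q, swap a r * swap p (τ q)} id fun M hM => ?_).trans
      (Finset.card_le_six.trans (by omega))
    obtain ⟨σ, x, hσ, dσ, hx⟩ := exists_sigma hτ (dM M hM) (by omega) hM.2
    have hn := not_sm s hM
    have ha := lemB hτ hσ (dM M hM) dσ hn hx a
    have k : (σ a = p ∨ σ a = τ p) ∨ (σ a = q ∨ σ a = τ q) ∨ (σ a = r ∨ σ a = τ r) := by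
      have := hu (σ a)
      have := hσ.ne a
      (solve | (intros; casesm* _ ∨ _, _ ∧ _) <;> (first | with_reducible contradiction | simp only [*, true_or, or_true, and_self, true_and, and_true, not_false_eq_true]) | tauto)
    rcases k with k | k | k
    · rcases lemD hτ hσ (dM M hM) dσ hn h8 ha k ra.symm (f ra') qa qa' qp qp' rq.symm (f rq') rp rp' hu with y | y
      · exact ⟨_, by simp only [_root_.Finset.mem_insert, _root_.mul_right_inj, _root_.Finset.mem_singleton, _root_.true_or], y, nh pa pa' qa qa' ra ra'⟩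
      · exact ⟨_, by simp only [_root_.Finset.mem_insert, _root_.mul_right_inj, _root_.Finset.mem_singleton, _root_.true_or, _root_.or_true], y, nh pa pa' qa qa' (f ra').symm (g ra)⟩
    · rcases lemD hτ hσ (dM M hM) dσ hn h8 ha k ra.symm (f ra') pa pa' qp.symm (f qp') rp.symm (f rp') rq rq'
        (fun x => by have := hu x; (clear * - this; (solve | (intros; casesm* _ ∨ _, _ ∧ _) <;> (first | with_reducible contradiction | repeat (first | with_reducible assumption | exact Or.inl (by with_reducible assumption) | refine Or.inr ?_)) | tauto))) with y | y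
      · exact ⟨_, by simp only [_root_.Finset.mem_insert, _root_.mul_right_inj, _root_.Finset.mem_singleton, _root_.true_or, _root_.or_true], y, nh qa qa' pa pa' ra ra'⟩
      · exact ⟨_, by simp only [_root_.Finset.mem_insert, _root_.mul_right_inj, _root_.Finset.mem_singleton, _root_.true_or, _root_.or_true], y, nh qa qa' pa pa' (f ra').symm (g ra)⟩
    · rcases lemD hτ hσ (dM M hM) dσ hn h8 ha k qa.symm (f qa') pa pa' rp.symm (f rp') qp.symm (f qp') rq.symm (f rq')
        (fun x => by have := hu x; (clear * - this; (solve | (intros; casesm* _ ∨ _, _ ∧ _) <;> (first | with_reducible contradiction | repeat (first | with_reducible assumption | exact Or.inl (by with_reducible assumption) | refine Or.inr ?_)) | tauto))) with y | y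
      · exact ⟨_, by simp only [_root_.Finset.mem_insert, _root_.Finset.mem_singleton, _root_.mul_right_inj, _root_.true_or, _root_.or_true], y, nh ra ra' pa pa' qa qa'⟩
      · exact ⟨_, by simp only [_root_.Finset.mem_insert, _root_.mul_right_inj, _root_.Finset.mem_singleton, _root_.or_true], y, nh ra ra' pa pa' (f qa').symm (g qa)⟩
  · have : Pr X H = ∅ := Set.eq_empty_of_forall_notMem fun M hM => by
      obtain ⟨σ, x, hσ, dσ, hx⟩ := exists_sigma hτ (dM M hM) (by omega) hM.2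
      exact lemC hτ hσ (dM M hM) dσ (not_sm s hM) h9 hx
    simp [this]

end Cfsg.Agent.SM.NP
end

-- part: SM/NP/Defs2
section
/-!
# SM (S3570), `H` not primitive: one more box (helper68)
-/

set_option autoImplicit false

namespace Cfsg.Agent.SM.NP

open Equiv Subgroup MulAction

/-- two blocks of size four -/
def BoxN8c : Prop := ∀ (Ω : Type) [Fintype Ω] [DecidableEq Ω] (X H : Subgroup (Perm Ω)) (B : Set Ω), Sec X H →
  Fintype.card Ω = 8 → B.ncard = 4 → Hf H B → Sm H ∨ (Kl H B ∧ Kl H Bᶜ)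

end Cfsg.Agent.SM.NP
end

private theorem dce_38b4b78f1edd : _root_.True := by
  try have : _root_.True := by simp only [_root_.Cfsg.Agent.SM.NP.res.eq_1]
  try have : _root_.True := by simp only [_root_.Cfsg.Agent.SM.NP.Tr.eq_1]
  exact _root_.True.intro
end

-- part: SM/CSc/Lin
section
prune_inst 0x307071047c2202000018008241001c62ae000002004880000880024207890c2205402020b23001101890884440390000001000900040000004000400011c0481008012040300a00006000e000000000000000000000000000000000000000000200000000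
set_option linter.all false
open scoped Cfsg.Agent.FastGrp

/-!
# SM / CS (S3570), common scheme, part 1 (helper53): counts and eigenspaces

* `relIndex_mul_le`, `j_one`, `dvd_card_inf` : indices;
* `Es g c` : eigenspace; `split`, `halve`, `even_of_anti`; `Xs`, `Xs.dvd` : `2 ^ (a + 1)` divides `dim V₋(z)`;
* `cnt_crude`, `cnt_le` : the number of vectors of a given non-zero norm in a subspace.
-/

set_option autoImplicit false
set_option linter.unusedSectionVars false

namespace Cfsg.Agent.SM.CS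

open Matrix Subgroup Module
open Cfsg.Agent.SM.Ti (ap ap_mul ap_one ap_inv_ap ap_ap_inv ap_smul ap_add ap_ne)

/-! ### indices -/

section idx

variable {Γ : Type*} [Group Γ] [Finite Γ]

theorem relIndex_mul_le {α β : Type*} [Finite β] (A Y : Subgroup Γ) (f : Γ → β → α) {S : Set α} (hS : S.Finite)
    (hf : ∀ y ∈ Y, ∀ b, f y b ∈ S) (h : ∀ y ∈ Y, ∀ y' ∈ Y, ∀ b b', f y b = f y' b' → y⁻¹ * y' ∈ A)
    (h' : ∀ y ∈ Y, Function.Injective (f y)) : A.relIndex Y * Nat.card β ≤ S.ncard := by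
  have := hS.to_subtype
  rw [relIndex, index, ← Nat.card_prod, ← Nat.card_coe_set_eq]
  refine Nat.card_le_card_of_injective (fun x => (⟨f (x.1.out : Y) x.2, hf _ x.1.out.2 _⟩ : S)) ?_
  rintro ⟨c, b⟩ ⟨c', b'⟩ e
  have e1 : f (c.out : Y) b = f (c'.out : Y) b' := congrArg Subtype.val e
  have e2 : c = c' := by
    rw [← c.out_eq, ← c'.out_eq]
    exact QuotientGroup.eq.2 (mem_subgroupOf.2 (h _ c.out.2 _ c'.out.2 _ _ e1))
  subst e2
  rw [h' _ c.out.2 e1]

theorem relIndex_le {α : Type*} (A Y : Subgroup Γ) (f : Γ → α) {S : Set α} (hS : S.Finite)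
    (hf : ∀ y ∈ Y, f y ∈ S) (h : ∀ y ∈ Y, ∀ y' ∈ Y, f y = f y' → y⁻¹ * y' ∈ A) : A.relIndex Y ≤ S.ncard := by
  have := relIndex_mul_le (β := Unit) A Y (fun y _ => f y) hS (fun y hy _ => hf y hy)
    (fun y hy y' hy' _ _ e => h y hy y' hy' e) fun _ _ _ _ _ => rfl
  simpa using this

/-- **`j = 1`** -/
theorem j_one {X Y D : Subgroup Γ} (hD : D ≤ Y) (h : X.relIndex D * D.relIndex Y < 2 * X.relIndex Y) : X ⊓ Y ≤ D := by
  have h1 : (X ⊓ D).relIndex D * D.relIndex Y = (X ⊓ D).relIndex Y := relIndex_mul_relIndex _ _ _ inf_le_right hD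
  have h2 : (X ⊓ D).relIndex (X ⊓ Y) * (X ⊓ Y).relIndex Y = (X ⊓ D).relIndex Y :=
    relIndex_mul_relIndex _ _ _ (inf_le_inf_left _ hD) inf_le_right
  rw [inf_relIndex_right] at h1 h2
  rw [h1, ← h2] at h
  have h3 := Nat.lt_of_mul_lt_mul_right h
  have h4 : (X ⊓ D).relIndex (X ⊓ Y) ≠ 0 := index_ne_zero_of_finite
  exact (relIndex_eq_one.1 (by omega : (X ⊓ D).relIndex (X ⊓ Y) = 1)).trans inf_le_right

theorem dvd_card_inf {X Y P : Subgroup Γ} (hP : P ≤ Y) (hn : ∀ y ∈ Y, ∀ x ∈ P, y * x * y⁻¹ ∈ P) {r : ℕ} (hr : r.Prime)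
    (h1 : r ∣ Nat.card P) (h2 : ¬ r ∣ X.relIndex Y) : r ∣ Nat.card (X.subgroupOf P) := by
  have hN : (P.subgroupOf Y).Normal := ⟨fun x hx y => hn y y.2 x hx⟩
  obtain ⟨t, ht⟩ := relIndex_dvd_index_of_normal (P.subgroupOf Y) (X.subgroupOf Y)
  have e1 : (P.subgroupOf Y).relIndex (X.subgroupOf Y) = P.relIndex (X ⊓ Y) := by
    rw [← inf_subgroupOf_right X Y, relIndex_subgroupOf inf_le_right]
  rw [e1] at ht
  change P.relIndex Y = _ at ht
  have h3 : (X ⊓ P).relIndex P * P.relIndex Y = (X ⊓ P).relIndex Y := relIndex_mul_relIndex _ _ _ inf_le_right hP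
  have h4 : (X ⊓ P).relIndex (X ⊓ Y) * (X ⊓ Y).relIndex Y = (X ⊓ P).relIndex Y :=
    relIndex_mul_relIndex _ _ _ (inf_le_inf_left _ hP) inf_le_right
  have e2 : (X ⊓ P).relIndex (X ⊓ Y) = P.relIndex (X ⊓ Y) := by
    rw [← inf_relIndex_right (X ⊓ P), ← inf_relIndex_right P]
    congr 1
    ext x
    simp only [mem_inf]
    (clear * -; tauto)
  rw [inf_relIndex_right] at h3 h4
  rw [e2, ← h3, ht, mul_left_comm] at h4
  have h5 := Nat.eq_of_mul_eq_mul_left (Nat.pos_of_ne_zero (index_ne_zero_of_finite)) h4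
  have h6 := (X.subgroupOf P).card_mul_index
  rw [← h6] at h1
  refine (hr.dvd_mul.1 h1).resolve_right fun h7 => h2 ?_
  rw [h5]
  exact Dvd.dvd.mul_right h7 _

end idx

/-! ### eigenspaces -/

section eig

variable {ι : Type} [Fintype ι] [DecidableEq ι] {K : Type} [Field K]

/-- the eigenspace -/
def Es (g : GL ι K) (c : K) : Submodule K (ι → K) := Module.End.eigenspace (toLin' (g : Matrix ι ι K)) c

theorem mem_Es {g : GL ι K} {c : K} {v : ι → K} : v ∈ Es g c ↔ ap g v = c • v := by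
  rw [Es, Module.End.mem_eigenspace_iff, toLin'_apply]

theorem mem_Es_one {g : GL ι K} {v : ι → K} : v ∈ Es g 1 ↔ ap g v = v := by rw [mem_Es, one_smul]

theorem mem_Es_neg {g : GL ι K} {v : ι → K} : v ∈ Es g (-1) ↔ ap g v = -v := by rw [mem_Es, neg_one_smul]

theorem ap_neg (g : GL ι K) (v : ι → K) : ap g (-v) = -ap g v := mulVec_neg _ _

theorem ap_sub (g : GL ι K) (u v : ι → K) : ap g (u - v) = ap g u - ap g v := mulVec_sub _ _ _

theorem ap_inj (g : GL ι K) : Function.Injective (ap g) := fun x y e => by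
  rw [← ap_inv_ap g x, e, ap_inv_ap]

theorem eq_of_ap {g h : GL ι K} (e : ∀ v, ap g v = ap h v) : g = h :=
  Units.ext (Matrix.toLin'.injective (LinearMap.ext fun v => by rw [toLin'_apply, toLin'_apply]; exact e v))

/-- `g` maps `U` into `U'` -/
def To (g : GL ι K) (U U' : Submodule K (ι → K)) : Prop := ∀ u ∈ U, ap g u ∈ U'

theorem To.le {g : GL ι K} {U U' : Submodule K (ι → K)} (h : To g U U') : finrank K U ≤ finrank K U' :=
  LinearMap.finrank_le_finrank_of_injective (f := (toLin' (g : Matrix ι ι K)).restrict h) fun _ _ e =>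
    Subtype.ext (ap_inj g (congrArg Subtype.val e))

theorem To.inf {g : GL ι K} {U U' W W' : Submodule K (ι → K)} (h : To g U U') (h' : To g W W') :
    To g (U ⊓ W) (U' ⊓ W') := fun u hu => ⟨h u hu.1, h' u hu.2⟩

theorem to_Es {g s s' : GL ι K} (h : g * s = s' * g) (c : K) : To g (Es s c) (Es s' c) := fun u hu => by
  rw [mem_Es] at hu ⊢
  rw [← ap_mul, ← h, ap_mul, hu, ap_smul]

theorem finrank_Es_eq {g s s' : GL ι K} (h : g * s = s' * g) (c : K) : finrank K (Es s c) = finrank K (Es s' c) :=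
  le_antisymm (to_Es h c).le
    (to_Es (g := g⁻¹) (by rw [inv_mul_eq_iff_eq_mul, ← mul_assoc, h, mul_inv_cancel_right]) c).le

/-- the two eigenspaces of an involution -/
theorem split (h2 : (2 : K) ≠ 0) {s : GL ι K} {U : Submodule K (ι → K)} (hs : To s U U) (hss : s * s = 1) :
    finrank K U = finrank K ↥(U ⊓ Es s 1) + finrank K ↥(U ⊓ Es s (-1)) := by
  rw [← Submodule.finrank_sup_add_finrank_inf_eq]
  have h1 : (U ⊓ Es s 1) ⊔ (U ⊓ Es s (-1)) = U := by
    refine le_antisymm (sup_le inf_le_left inf_le_left) fun u hu => ?_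
    have e : u = (2 : K)⁻¹ • (u + ap s u) + (2 : K)⁻¹ • (u - ap s u) := by
      rw [← smul_add, add_add_sub_cancel, ← two_smul K u, inv_smul_smul₀ h2]
    rw [e]
    refine Submodule.add_mem_sup (Submodule.smul_mem _ _ ⟨U.add_mem hu (hs u hu), mem_Es_one.2 ?_⟩)
      (Submodule.smul_mem _ _ ⟨U.sub_mem hu (hs u hu), mem_Es_neg.2 ?_⟩)
    · rw [ap_add, ← ap_mul, hss, ap_one, add_comm]
    · rw [ap_sub, ← ap_mul, hss, ap_one, neg_sub]
  have h3 : (U ⊓ Es s 1) ⊓ (U ⊓ Es s (-1)) = ⊥ := by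
    refine eq_bot_iff.2 fun u hu => ?_
    have e : u = -u := (mem_Es_one.1 hu.1.2).symm.trans (mem_Es_neg.1 hu.2.2)
    have e' : (2 : K) • u = 0 := by rw [two_smul]; exact eq_neg_iff_add_eq_zero.1 e
    exact (smul_eq_zero.1 e').resolve_left h2
  rw [h1, h3, finrank_bot, add_zero]

theorem split_top (h2 : (2 : K) ≠ 0) {s : GL ι K} (hss : s * s = 1) :
    finrank K (Es s 1) + finrank K (Es s (-1)) = Fintype.card ι := by
  have h := split h2 (s := s) (U := ⊤) (fun _ _ => trivial) hss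
  rw [top_inf_eq, top_inf_eq, finrank_top, finrank_fintype_fun_eq_card] at h
  exact h.symm

/-- **halving** -/
theorem halve (h2 : (2 : K) ≠ 0) {z s t : GL ι K} {U : Submodule K (ι → K)} (hU : U ≤ Es z (-1)) (hs : To s U U)
    (ht : To t U U) (hss : s * s = 1) (hts : t * s = z * (s * t)) : finrank K U = 2 * finrank K ↥(U ⊓ Es s 1) := by
  have h0 : ∀ u ∈ U, ap s (ap t u) = -ap t (ap s u) := fun u hu => by
    have e := mem_Es_neg.1 (hU (hs _ (ht u hu)))
    rw [← ap_mul t, hts, ap_mul, ap_mul, e, neg_neg]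
  have h1 : To t (U ⊓ Es s 1) (U ⊓ Es s (-1)) := fun u hu =>
    ⟨ht u hu.1, mem_Es_neg.2 (by rw [h0 u hu.1, mem_Es_one.1 hu.2])⟩
  have h3 : To t (U ⊓ Es s (-1)) (U ⊓ Es s 1) := fun u hu =>
    ⟨ht u hu.1, mem_Es_one.2 (by rw [h0 u hu.1, mem_Es_neg.1 hu.2, ap_neg, neg_neg])⟩
  have := h1.le
  have := h3.le
  have := split h2 hs hss
  omega

theorem even_of_anti (h2 : (2 : K) ≠ 0) {z b c : GL ι K} {U : Submodule K (ι → K)} (hU : U ≤ Es z (-1)) (hb : To b U U)
    (hc : To c U U) (h : b * c = z * (c * b)) : Even (finrank K U) := by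
  let b' : U →ₗ[K] U := (toLin' (b : Matrix ι ι K)).restrict hb
  let c' : U →ₗ[K] U := (toLin' (c : Matrix ι ι K)).restrict hc
  have e : b' * c' = (-1 : K) • (c' * b') := by
    refine LinearMap.ext fun u => Subtype.ext ?_
    show ap b (ap c u) = (-1 : K) • ap c (ap b u)
    rw [← ap_mul, h, ap_mul, ap_mul]
    exact mem_Es.1 (hU (hc _ (hb u u.2)))
  have u1 : ∀ {g : GL ι K} (hg : To g U U), LinearMap.det ((toLin' (g : Matrix ι ι K)).restrict hg : U →ₗ[K] U) ≠ 0 :=
    fun {g} hg => (LinearMap.isUnit_det _ ((by exact (LinearMap.isUnit_iff_ker_eq_bot _).2 (LinearMap.ker_eq_bot.2 fun _ _ e =>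
      Subtype.ext (ap_inj g (congrArg Subtype.val e)))))).ne_zero
  have e1 := congrArg LinearMap.det e
  rw [LinearMap.det_smul, map_mul, map_mul, mul_comm (LinearMap.det c')] at e1
  have e2 : (-1 : K) ^ finrank K U = 1 := ((mul_left_eq_self₀.1 e1.symm).resolve_right (mul_ne_zero (u1 hb) (u1 hc)))
  refine (neg_one_pow_eq_one_iff_even fun e3 => h2 ?_).1 e2
  linear_combination -e3

end eig

/-- `z` is the commutator of `a + 1` hyperbolic pairs `(s i, t i)`, `(b, c)`; the `s i` are commuting involutions -/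
structure Xs {T : Type*} [Group T] (a : ℕ) (z : T) (s t : Fin a → T) (b c : T) : Prop where
  zs : ∀ i, s i * z = z * s i
  zt : ∀ i, t i * z = z * t i
  zb : b * z = z * b
  zc : c * z = z * c
  sq : ∀ i, s i * s i = 1
  ss : ∀ i j, s i * s j = s j * s i
  ts : ∀ i, t i * s i = z * (s i * t i)
  ts' : ∀ i j, i ≠ j → t i * s j = s j * t i
  bs : ∀ i, b * s i = s i * b
  cs : ∀ i, c * s i = s i * c
  bc : b * c = z * (c * b)

theorem Xs.map {T T' : Type*} [Group T] [Group T'] {a : ℕ} {z : T} {s t : Fin a → T} {b c : T} (h : Xs a z s t b c)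
    (f : T →* T') : Xs a (f z) (fun i => f (s i)) (fun i => f (t i)) (f b) (f c) where
  zs i := by simp only [← map_mul, h.zs]
  zt i := by simp only [← map_mul, h.zt]
  zb := by simp only [← map_mul, h.zb]
  zc := by simp only [← map_mul, h.zc]
  sq i := by simp only [← map_mul, h.sq, map_one]
  ss i j := by simp only [← map_mul, h.ss i j]
  ts i := by simp only [← map_mul, h.ts]
  ts' i j e := by simp only [← map_mul, h.ts' i j e]
  bs i := by simp only [← map_mul, h.bs]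
  cs i := by simp only [← map_mul, h.cs]
  bc := by simp only [← map_mul, h.bc]

section xs

variable {ι : Type} [Fintype ι] [DecidableEq ι] {K : Type} [Field K]

theorem Xs.dvd' (h2 : (2 : K) ≠ 0) {z b c : GL ι K} : ∀ (a : ℕ) (s t : Fin a → GL ι K), Xs a z s t b c →
    ∀ U : Submodule K (ι → K), U ≤ Es z (-1) → (∀ i, To (s i) U U) → (∀ i, To (t i) U U) → To b U U → To c U U →
    2 ^ (a + 1) ∣ finrank K U := by
  intro a
  induction a with
  | zero => exact fun s t h U hU _ _ hb hc => by simpa using (even_of_anti h2 hU hb hc h.bc).two_dvd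
  | succ a ih =>
    intro s t h U hU hs ht hb hc
    rw [halve h2 hU (hs 0) (ht 0) (h.sq 0) (h.ts 0), pow_succ']
    refine Nat.mul_dvd_mul_left _ (ih (fun i => s i.succ) (fun i => t i.succ)
      ⟨fun _ => h.zs _, fun _ => h.zt _, h.zb, h.zc, fun _ => h.sq _, fun _ _ => h.ss _ _, fun _ => h.ts _,
        fun i j e => h.ts' _ _ fun e' => e (Fin.succ_injective _ e'), fun _ => h.bs _, fun _ => h.cs _, h.bc⟩ _
      (inf_le_left.trans hU) (fun i => (hs _).inf (to_Es (h.ss _ _) _))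
      (fun i => (ht _).inf (to_Es (h.ts' _ _ (Fin.succ_ne_zero i)) _)) (hb.inf (to_Es (h.bs _) _))
      (hc.inf (to_Es (h.cs _) _)))

/-- **`2 ^ (a + 1)` divides the dimension of the `-1`-eigenspace** -/
theorem Xs.dvd (h2 : (2 : K) ≠ 0) {z b c : GL ι K} {a : ℕ} {s t : Fin a → GL ι K} (h : Xs a z s t b c) :
    2 ^ (a + 1) ∣ finrank K (Es z (-1)) :=
  Xs.dvd' h2 a s t h _ le_rfl (fun i => to_Es (h.zs i) _) (fun i => to_Es (h.zt i) _) (to_Es h.zb _) (to_Es h.zc _)

end xs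

/-! ### vectors of a given norm -/

section cnt

open QuadraticMap

variable {K V : Type*} [Field K] [Finite K] [AddCommGroup V] [Module K V] [Finite V] (Q : QuadraticForm K V)

theorem exists_sg (K : Type*) [Field K] [Finite K] : ∃ sg : K → Bool, ∀ x y, y = -x → sg x = sg y → x = y := by
  obtain ⟨n, ⟨e⟩⟩ := Finite.exists_equiv_fin K
  refine ⟨fun x => decide (e x ≤ e (-x)), fun x y h1 h => ?_⟩
  subst h1
  simp only [neg_neg, decide_eq_decide] at h
  rcases le_total (e x) (e (-x)) with h3 | h3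
  · exact e.injective (le_antisymm h3 (h.1 h3))
  · exact e.injective (le_antisymm (h.2 h3) h3)

theorem map_add_smul (v e : V) (t : K) : Q (v + t • e) = Q v + t * polar Q v e + t * t * Q e := by
  rw [QuadraticMap.map_add Q, QuadraticMap.map_smul, polar_smul_right, smul_eq_mul, smul_eq_mul]
  ring

theorem cnt_crude (h2 : (2 : K) ≠ 0) (U : Submodule K V) {a : K} (ha : a ≠ 0) :
    {v | v ∈ U ∧ Q v = a}.ncard * Nat.card K ≤ 2 * Nat.card U := by
  rcases {v | v ∈ U ∧ Q v = a}.eq_empty_or_nonempty with h | ⟨e, he, hQ⟩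
  · rw [h]; simp only [_root_.Set.ncard_empty, _root_.MulZeroClass.zero_mul, _root_.zero_le]
  obtain ⟨sg, hsg⟩ := exists_sg K
  rw [← Nat.card_coe_set_eq, ← Nat.card_prod, mul_comm, show 2 = Nat.card Bool by simp, ← Nat.card_prod]
  refine Nat.card_le_card_of_injective
    (fun x => ((⟨x.1.1 + x.2 • e, U.add_mem x.1.2.1 (U.smul_mem _ he)⟩ : U), sg (polar Q x.1.1 e))) ?_
  rintro ⟨⟨v, hv, hv'⟩, x⟩ ⟨⟨w, hw, hw'⟩, y⟩ h
  have h1 : v + x • e = w + y • e := congrArg Subtype.val (congrArg Prod.fst h)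
  have h3 : sg (polar Q v e) = sg (polar Q w e) := congrArg Prod.snd h
  have h4 : w = v + (x - y) • e := by rw [sub_smul, ← add_sub_assoc, h1, add_sub_cancel_right]
  have h5 : x - y = 0 := by
    by_contra h0
    have h6 := map_add_smul Q v e (x - y)
    rw [← h4, hv', hw', hQ] at h6
    have h7 : polar Q v e + (x - y) * a = 0 := mul_left_cancel₀ h0 (by linear_combination -h6)
    have h8 : polar Q w e = polar Q v e + 2 * ((x - y) * a) := by
      rw [h4, polar_add_left, polar_smul_left, polar_self, hQ, smul_eq_mul, two_nsmul]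
      ring
    have h9 := hsg _ _ (by linear_combination h8 + 2 * h7) h3
    exact mul_ne_zero h2 (mul_ne_zero h0 ha) (by linear_combination -h8 - h9)
  rw [h5, zero_smul, add_zero] at h4
  subst h4
  rw [sub_eq_zero.1 h5]

/-- **at most `q ^ (d - 1) + q ^ (d - 2)` vectors of norm `a`** -/
theorem cnt_le (h2 : (2 : K) ≠ 0) (U : Submodule K V) {a : K} (ha : a ≠ 0) {e w : V} (he : e ∈ U) (hQ : Q e = 0)
    (hw : w ∈ U) (hwe : polar Q w e ≠ 0) :
    {v | v ∈ U ∧ Q v = a}.ncard * Nat.card K ^ 2 ≤ Nat.card K ^ finrank K U * (Nat.card K + 1) := by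
  have : Module.Finite K V := Module.Finite.of_finite
  let U' : Submodule K V := U ⊓ LinearMap.ker (Q.polarBilin.flip e)
  have hU' : ∀ v, v ∈ U' ↔ v ∈ U ∧ polar Q v e = 0 := fun v => Iff.rfl
  have h1 := cnt_crude Q h2 U' ha
  have hee : polar Q e e = 0 := by rw [polar_self, hQ, smul_zero]
  have h3 : {v | (v ∈ U ∧ Q v = a) ∧ polar Q v e ≠ 0}.ncard * Nat.card K ≤ ((U : Set V) \ U').ncard := by
    rw [← Nat.card_coe_set_eq, ← Nat.card_prod, ← Nat.card_coe_set_eq]
    refine Nat.card_le_card_of_injective (fun x => ⟨x.1.1 + x.2 • e, U.add_mem x.1.2.1.1 (U.smul_mem _ he), fun h => ?_⟩) ?_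
    · have h4 := ((hU' _).1 h).2
      rw [polar_add_left, polar_smul_left, hee, smul_zero, add_zero] at h4
      exact x.1.2.2 h4
    · rintro ⟨⟨v, ⟨hv, hv'⟩, hv0⟩, x⟩ ⟨⟨w, ⟨hw, hw'⟩, hw0⟩, y⟩ h
      have h1 : v + x • e = w + y • e := congrArg Subtype.val h
      have h4 : w = v + (x - y) • e := by rw [sub_smul, ← add_sub_assoc, h1, add_sub_cancel_right]
      have h6 := map_add_smul Q v e (x - y)
      rw [← h4, hv', hw', hQ] at h6
      have h5 : x - y = 0 := (mul_eq_zero.1 (by linear_combination -h6)).resolve_right hv0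
      rw [h5, zero_smul, add_zero] at h4
      subst h4
      rw [sub_eq_zero.1 h5]
  have h4 : ((U : Set V) \ U').ncard + Nat.card U' = Nat.card U := by
    rw [← SetLike.coe_sort_coe, ← SetLike.coe_sort_coe U, Nat.card_coe_set_eq, Nat.card_coe_set_eq]
    exact Set.ncard_sdiff_add_ncard_of_subset (fun v hv => hv.1)
  have h5 : {v | v ∈ U ∧ Q v = a}.ncard ≤
      {v | (v ∈ U ∧ Q v = a) ∧ polar Q v e ≠ 0}.ncard + {v | v ∈ U' ∧ Q v = a}.ncard := by
    refine le_trans (Set.ncard_le_ncard (fun v hv => ?_)) (Set.ncard_union_le _ _)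
    by_cases h0 : polar Q v e = 0
    · exact Or.inr ⟨⟨hv.1, h0⟩, hv.2⟩
    · exact Or.inl ⟨hv, h0⟩
  have h6 : finrank K U' < finrank K U :=
    Submodule.finrank_lt_finrank_of_lt (lt_of_le_of_ne inf_le_left fun h => hwe ((hU' w).1 (h ▸ hw)).2)
  have h7 : Nat.card U' * Nat.card K ≤ Nat.card U := by
    rw [Module.natCard_eq_pow_finrank (K := K) (V := U'), Module.natCard_eq_pow_finrank (K := K) (V := U), ← pow_succ]
    exact Nat.pow_le_pow_right Nat.card_pos h6
  rw [← Module.natCard_eq_pow_finrank]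
  have h8 := Nat.mul_le_mul_right (Nat.card K) h5
  have h9 : {v | v ∈ U ∧ Q v = a}.ncard * Nat.card K ≤ Nat.card U + Nat.card U' := by
    rw [add_mul] at h8
    omega
  have h10 := Nat.mul_le_mul_right (Nat.card K) h9
  rw [pow_two, ← mul_assoc, mul_add, mul_one]
  rw [add_mul] at h10
  omega

end cnt

end Cfsg.Agent.SM.CS

private theorem dce_c40324b0cfa8 : _root_.True := by
  try have : _root_.True := by simp only [_root_.Cfsg.Agent.SM.CS.Es.eq_1]
  exact _root_.True.intro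
end

-- part: SM/Oo/Tab
section
set_option linter.all false

/-!
# SM (S3570), family `fO` (`S = Ω_{2m+1}(q)`, `q` odd): the table (helper96, plan in `notes/SM/oodd.md`)
-/

set_option autoImplicit false

namespace Cfsg.Agent.SM.Oo

/-- `G₂(q) < Ω₇(q)` on the singular, plus and minus points; `G₂(3) < Ω₇(3)` on the cosets of `Sp₆(2)` and of `S₉` -/
def RO : Tab := fun t n k =>
  (k = 1 ∧ ∃ p a q : ℕ, p.Prime ∧ p ≠ 2 ∧ 0 < a ∧ q = p ^ a ∧ t = q ^ 6 * ((q ^ 6 - 1) * (q ^ 2 - 1)) ∧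
      (n * (q - 1) = q ^ 6 - 1 ∨ 2 * n = q ^ 3 * (q ^ 3 + 1) ∨ 2 * n = q ^ 3 * (q ^ 3 - 1))) ∨
    (k = 4 ∧ t = 4245696 ∧ (n = 3159 ∨ n = 12636 ∨ n = 25272))

end Cfsg.Agent.SM.Oo
end

-- part: SM/Om/Tab
section
set_option linter.all false

/-!
# SM (S3570), socle `PΩ⁻_{2m}(q)`: the table (helper87)

Only `A₁₂` and `M₁₂` (and possibly `M₁₁`) in `Ω⁻₁₀(2)` on the `495` singular points.
-/

set_option autoImplicit false

namespace Cfsg.Agent.SM.Om

/-- the rows of the family `fM` -/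
def tabM : Tab := fun t n k => n = 495 ∧ (t = 239500800 ∨ t = 95040) ∧ k = 2

end Cfsg.Agent.SM.Om
end

-- part: SM/Ex78/Tab
section
set_option linter.all false

/-!
# SM (S3570), `S = G₂(q)`: the family and the table (helper78)
-/

set_option autoImplicit false

namespace Cfsg.Agent.SM.Ex78

open Cfsg

/-- the family `G₂(q)`, `q ≥ 3` -/
def fG2 : Fam := fun S _ => Lie.IsoChevG2 S

/-- `J₂ < G₂(4)` on the cosets of `U₃(4).2` and `U₃(4) < G₂(4)` on the cosets of `J₂` -/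
def RG : Tab := fun t n k => k = 4 ∧ ((t = 604800 ∧ n = 2016) ∨ (t = 62400 ∧ n = 416))

end Cfsg.Agent.SM.Ex78
end

-- part: SM/Mat/Tab
section
set_option linter.all false

/-!
# SM (S3570): the table of the rows with a Mathieu group as socle `S` (helper55)
-/

set_option autoImplicit false

namespace Cfsg.Agent.SM.Mat

open Cfsg

/-- the five Mathieu groups -/
def fMat : Fam := fun S _ => Spor.IsoM11 S ∨ Spor.IsoM12 S ∨ Spor.IsoM22 S ∨ Spor.IsoM23 S ∨ Spor.IsoM24 S

/-- the rows `(|T|, n, k)`: `L2(11) < M11` on 11 points, `L2(11), M11 < M12` on 12 points, `L2(23) < M24` on 24 points,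
`M23 < M24` on 1288, 1771, 40320 points -/
def rMat : Tab := fun t n k =>
  (t = 660 ∧ n = 11 ∧ k = 2) ∨ (t = 660 ∧ n = 12 ∧ k = 2) ∨ (t = 7920 ∧ n = 12 ∧ k = 2) ∨ (t = 6072 ∧ n = 24 ∧ k = 2) ∨
    (t = 10200960 ∧ n = 1288 ∧ k = 1) ∨ (t = 10200960 ∧ n = 1771 ∧ k = 1) ∨ (t = 10200960 ∧ n = 40320 ∧ k = 1)

/-- the box of the Mathieu groups (`SM/Mat/Main.lean`) -/
def BoxMat : Prop := Bnd fMat rMat

end Cfsg.Agent.SM.Mat
end

-- part: SM/Alt/Defs
section
set_option linter.all false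

/-!
# SM (S3570), alternating socle: the boxes on 2-transitive actions (helper42, plan in `notes/SM/alt.md`)

* `Act T Δ c`: a faithful 2-transitive action of degree `c`.
* `One2`, `Two2`: at most one, at most two such actions up to isomorphism; `Row2`: one up to `Aut T`.
* `BoxTY`: two 2-primitive maximal subgroups of `A_c` or `S_c` of the same order are conjugate in `S_c`.
-/

set_option autoImplicit false
set_option linter.unusedVariables false

namespace Cfsg.Agent.SM.Alt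

open Cfsg Equiv Subgroup MulAction

/-- a faithful 2-transitive action of degree `c` -/
structure Act (T Δ : Type) [Group T] [MulAction T Δ] (c : ℕ) : Prop where
  fin : Finite Δ
  card : Nat.card Δ = c
  faith : ∀ t : T, (∀ x : Δ, t • x = x) → t = 1
  two : ∀ a b x y : Δ, a ≠ b → x ≠ y → ∃ t : T, t • a = x ∧ t • b = y

/-- two actions with a common point stabiliser -/
def Same (T Δ₁ Δ₂ : Type) [Group T] [MulAction T Δ₁] [MulAction T Δ₂] : Prop :=
  ∃ (a₁ : Δ₁) (a₂ : Δ₂), ∀ t : T, t • a₁ = a₁ ↔ t • a₂ = a₂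

/-- one 2-transitive action of degree `c` -/
def One2 (T : Type) [Group T] (c : ℕ) : Prop :=
  ∀ (Δ₁ Δ₂ : Type) [MulAction T Δ₁] [MulAction T Δ₂], Act T Δ₁ c → Act T Δ₂ c → Same T Δ₁ Δ₂

/-- at most two 2-transitive actions of degree `c` -/
def Two2 (T : Type) [Group T] (c : ℕ) : Prop :=
  ∀ (Δ₁ Δ₂ Δ₃ : Type) [MulAction T Δ₁] [MulAction T Δ₂] [MulAction T Δ₃], Act T Δ₁ c → Act T Δ₂ c → Act T Δ₃ c →
    Same T Δ₁ Δ₂ ∨ Same T Δ₁ Δ₃ ∨ Same T Δ₂ Δ₃

/-- one 2-transitive action of degree `c` up to automorphisms -/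
def Row2 (T : Type) [Group T] (c : ℕ) : Prop :=
  ∀ (Δ₁ Δ₂ : Type) [MulAction T Δ₁] [MulAction T Δ₂], Act T Δ₁ c → Act T Δ₂ c →
    ∃ (γ : MulAut T) (a₁ : Δ₁) (a₂ : Δ₂), ∀ t : T, t • a₁ = a₁ ↔ γ t • a₂ = a₂

/-- transitive on the 3-subsets -/
def Hom3 (T Δ : Type) [Group T] [MulAction T Δ] : Prop :=
  ∀ a b e x y z : Δ, a ≠ b → a ≠ e → b ≠ e → x ≠ y → x ≠ z → y ≠ z →
    ∃ t : T, t • a ∈ ({x, y, z} : Set Δ) ∧ t • b ∈ ({x, y, z} : Set Δ) ∧ t • e ∈ ({x, y, z} : Set Δ)

/-- lines: the solutions of `t ^ p = 1` that fix `a` and `b` fix a third point, and one of them is not trivial -/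
def Lin (T Δ : Type) [Group T] [MulAction T Δ] : Prop :=
  ∃ (p : ℕ) (a b x : Δ), a ≠ b ∧ x ≠ a ∧ x ≠ b ∧ (∀ t : T, t ^ p = 1 → t • a = a → t • b = b → t • x = x) ∧
    ∃ t : T, t ≠ 1 ∧ t ^ p = 1 ∧ t • a = a ∧ t • b = b

/-- rank one: at most `c` Sylow `p`-subgroups, of order `c - 1` -/
def Rk1 (T : Type) [Group T] (c : ℕ) : Prop :=
  ∃ (p : ℕ) (_ : Fact p.Prime), Nat.card (Sylow p T) ≤ c ∧ ∀ P : Sylow p T, Nat.card (P : Subgroup T) + 1 = c

/-- rank one with non-abelian Sylow `p`-subgroups -/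
def Rk1N (T : Type) [Group T] (c : ℕ) : Prop :=
  ∃ (p : ℕ) (_ : Fact p.Prime), Nat.card (Sylow p T) ≤ c ∧
    ∀ P : Sylow p T, Nat.card (P : Subgroup T) + 1 = c ∧ ∃ x ∈ P, ∃ y ∈ P, x * y ≠ y * x

theorem One2.two {T : Type} [Group T] {c : ℕ} (h : One2 T c) : Two2 T c := fun Δ₁ Δ₂ _ _ _ _ h1 h2 _ => Or.inl (h Δ₁ Δ₂ h1 h2)

theorem One2.row {T : Type} [Group T] {c : ℕ} (h : One2 T c) : Row2 T c := fun Δ₁ Δ₂ _ _ h1 h2 =>
  let ⟨a₁, a₂, h3⟩ := h Δ₁ Δ₂ h1 h2
  ⟨1, a₁, a₂, h3⟩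

theorem Rk1N.rk1 {T : Type} [Group T] {c : ℕ} (h : Rk1N T c) : Rk1 T c :=
  let ⟨p, hp, h1, h2⟩ := h
  ⟨p, hp, h1, fun P => (h2 P).1⟩

/-- `Sp_2m(2)` on the quadratic forms of one type -/
def BoxSp : Prop := ∀ (T : Type) [Group T] (F : Type) [Field F] [Fintype F] (m c : ℕ), Fintype.card F = 2 → 3 ≤ m →
  Nonempty (T ≃* PSp m F) → (c = 2 ^ (m - 1) * (2 ^ m + 1) ∨ c = 2 ^ (m - 1) * (2 ^ m - 1)) →
  One2 T c ∧ ∀ (Δ : Type) [MulAction T Δ], Act T Δ c → ¬ Hom3 T Δ

/-- `L_d(q)`, `d ≥ 3`, on points or hyperplanes -/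
def BoxLin : Prop := ∀ (T : Type) [Group T] (F : Type) [Field F] [Fintype F] (d c : ℕ), 3 ≤ d →
  Nonempty (T ≃* Matrix.ProjectiveSpecialLinearGroup (Fin d) F) → c * (Fintype.card F - 1) = Fintype.card F ^ d - 1 →
  ∀ (Δ : Type) [MulAction T Δ], Act T Δ c → Lin T Δ

/-- the groups of Lie rank one -/
def BoxR1 : Prop := ∀ (T : Type) [Group T] (F : Type) [Field F] [Fintype F],
  (Nonempty (T ≃* Matrix.ProjectiveSpecialLinearGroup (Fin 2) F) → Rk1 T (Fintype.card F + 1)) ∧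
  (∀ q : ℕ, 3 ≤ q → Fintype.card F = q ^ 2 → Nonempty (T ≃* PSU 3 F q) → Rk1N T (q ^ 3 + 1)) ∧
  (∀ m : ℕ, 1 ≤ m → Fintype.card F = 2 ^ (2 * m + 1) → Nonempty (T ≃* ↥(Lie.Sz F (2 ^ (m + 1)))) →
    Rk1N T (Fintype.card F ^ 2 + 1)) ∧
  (∀ m : ℕ, 1 ≤ m → Fintype.card F = 3 ^ (2 * m + 1) → Nonempty (T ≃* ↥(Lie.twistedG2 F (3 ^ m))) →
    Rk1N T (Fintype.card F ^ 3 + 1))

/-- the Mathieu groups -/
def BoxMat : Prop := ∀ (T : Type) [Group T],
  (Spor.IsoM11 T → One2 T 11 ∧ One2 T 12) ∧ (Spor.IsoM12 T → Row2 T 12 ∧ Two2 T 12) ∧ (Spor.IsoM22 T → One2 T 22) ∧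
  (Spor.IsoM23 T → One2 T 23) ∧ (Spor.IsoM24 T → One2 T 24)

/-- `L_2(11)` of degree 11 and `A_7` of degree 15 -/
def BoxSm : Prop := ∀ (T : Type) [Group T],
  (∀ (F : Type) [Field F] [Fintype F], Fintype.card F = 11 →
    Nonempty (T ≃* Matrix.ProjectiveSpecialLinearGroup (Fin 2) F) → Row2 T 11 ∧ Two2 T 11) ∧
  (Nonempty (T ≃* ↥(alternatingGroup (Fin 7))) → Row2 T 15 ∧ Two2 T 15)

/-- `HS` of degree 176 -/
def BoxHS : Prop := ∀ (T : Type) [Group T], Spor.IsoHS T → Row2 T 176 ∧ Two2 T 176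

/-- `Co_3` of degree 276 -/
def BoxCo : Prop := ∀ (T : Type) [Group T], Spor.IsoCo3 T → One2 T 276

/-- `B` is transitive and the stabiliser of a point is primitive on the other points -/
structure Pr2 {Δ : Type} (B : Subgroup (Perm Δ)) : Prop where
  tr : ∀ a b : Δ, ∃ g ∈ B, g a = b
  blk : ∀ (a : Δ) (F : Set Δ), a ∉ F → (∀ g ∈ B, g a = a → g '' F = F ∨ Disjoint (g '' F) F) → F.Subsingleton ∨ F = {a}ᶜ

/-- **types**: 2-primitive maximal subgroups of `A_c` or `S_c` of the same order are conjugate in `S_c` -/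
def BoxTY : Prop := ∀ (Δ : Type) [Fintype Δ] [DecidableEq Δ] (Y B₁ B₂ : Subgroup (Perm Δ)), 6 ≤ Fintype.card Δ →
  alternatingGroup Δ ≤ Y → B₁ ⋖ Y → B₂ ⋖ Y → ¬ alternatingGroup Δ ≤ B₁ → ¬ alternatingGroup Δ ≤ B₂ → Pr2 B₁ → Pr2 B₂ →
  Nat.card B₁ = Nat.card B₂ → ∃ g : Perm Δ, ∀ x, x ∈ B₁ ↔ g * x * g⁻¹ ∈ B₂

/-- the table of the alternating family -/
def RA : Tab := fun t n k =>
  (k = 2 ∧ ((∃ m, 5 ≤ m ∧ 2 * t = m.factorial) ∨
    ∃ c j, 2 ≤ j ∧ j ≤ 5 ∧ 2 * j ≤ c ∧ n = c.choose j ∧ c * (c - 1) ∣ t ∧ n ∣ t)) ∨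
  (k = 6 ∧ t = 360) ∨ (k = 4 ∧ ((t = 60 ∧ (n = 15 ∨ n = 20)) ∨ ((t = 2520 ∨ t = 20160) ∧ n = 105)))

end Cfsg.Agent.SM.Alt
end

-- part: SM/CSc/Scheme
section
prune_inst 0x307035040c22020000000582010000440c0000000000800048000a400300e0220500200004201000182880000001004001000090404000000400040000040401008012041100010000000e000000000000000000000000000000000000010004200000000
set_option linter.all false
open scoped Cfsg.Agent.FastGrp

/-!
# SM / CS (S3570), common scheme, part 2 (helper53): rows `C` (`k = 2`) and `F` (`k = 4`)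

* `Four q k z` : the facts on the abstract group `T` and the involution `z` (no representation);
* `inv_of_four` : `Hy .o q (3 k) …`, `Soc P ≃* T`, `Four q k z` give `Inv X P`.
-/

set_option autoImplicit false
set_option linter.unusedSectionVars false

namespace Cfsg.Agent.SM.CS

open Cfsg Cfsg.Geo Matrix Subgroup Module
open Cfsg.Agent.H915.LD (toSoc toSoc_surjective ker_toSoc)
open Cfsg.Agent.SM.Ti (ap ap_mul ap_one ap_inv_ap ap_ap_inv ap_smul ap_add ap_ne)

/-- The abstract facts: `{1, z, w, z w}` is a four-group, `σ` swaps `w`, `z w`, `τ` swaps `z`, `w`, and `w` is a square in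
`C(z)`; `z` is the centre of an extraspecial configuration of degree `4 k`; the `Aut`-class of `z` has at most
`q ^ (2 k) (q ^ (2 k) + q ^ k + 1)` elements; an element of order `r` centralises only one element of the class. -/
structure Four {T : Type*} [Group T] (q k : ℕ) (z : T) : Prop where
  sq : z * z = 1
  four : ∃ w σ τ u : T, w ≠ z ∧ σ * z = z * σ ∧ σ * w = z * (w * σ) ∧ τ * z = w * τ ∧ τ * w = z * τ ∧
    u * z = z * u ∧ u * u = w
  xs : ∃ (a : ℕ) (s t : Fin a → T) (b c : T), 2 ^ (a + 1) = 4 * k ∧ Xs a z s t b c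
  cls : {x | ∃ φ : MulAut T, φ z = x}.ncard * (q ^ k - 1) ≤ q ^ (2 * k) * (q ^ (3 * k) - 1)
  ppd : ∃ r, r.Prime ∧ r ≠ 2 ∧ r ∣ q ^ k + 1 ∧ r ∣ Nat.card T ∧
    ∀ (g : T) (φ : MulAut T), orderOf g = r → g * z = z * g → g * φ z = φ z * g → φ z = z

theorem Four.map {T T' : Type*} [Group T] [Group T'] {q k : ℕ} {z : T} (h : Four q k z) (e : T ≃* T') :
    Four q k (e z) where
  sq := by rw [← map_mul, h.sq, map_one]
  four := by
    obtain ⟨w, σ, τ, u, h0, h1, h2, h3, h4, h5, h6⟩ := h.four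
    exact ⟨e w, e σ, e τ, e u, fun h7 => h0 (e.injective h7), by simp only [← map_mul, h1],
      by simp only [← map_mul, h2], by simp only [← map_mul, h3], by simp only [← map_mul, h4],
      by simp only [← map_mul, h5], by simp only [← map_mul, h6]⟩
  xs := by
    obtain ⟨a, s, t, b, c, h1, h2⟩ := h.xs
    exact ⟨a, _, _, _, _, h1, h2.map e.toMonoidHom⟩
  cls := by
    have h1 : {x | ∃ φ : MulAut T', φ (e z) = x} = e '' {x | ∃ φ : MulAut T, φ z = x} := by
      ext x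
      constructor
      · rintro ⟨φ, rfl⟩
        exact ⟨_, ⟨(e.trans φ).trans e.symm, rfl⟩, e.apply_symm_apply _⟩
      · rintro ⟨_, ⟨φ, rfl⟩, rfl⟩
        exact ⟨(e.symm.trans φ).trans e, by simp⟩
    rw [h1, Set.ncard_image_of_injective _ e.injective]
    exact h.cls
  ppd := by
    obtain ⟨r, h1, h2, h3, h4, h5⟩ := h.ppd
    refine ⟨r, h1, h2, h3, Nat.card_congr e.toEquiv ▸ h4, fun g φ hg h6 h7 => ?_⟩
    have h8 := h5 (e.symm g) ((e.trans φ).trans e.symm) (by rw [e.symm.orderOf_eq, hg])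
      (e.injective (by simpa only [_root_.map_mul, _root_.MulEquiv.apply_symm_apply] using h6)) (e.injective (by simpa only [_root_.MulEquiv.trans_apply, _root_.map_mul, _root_.MulEquiv.apply_symm_apply] using h7))
    simpa using congrArg e h8

theorem not_dvd_num {q k r : ℕ} (hk : 0 < k) (hq : 0 < q) (hr : r.Prime) (h2 : r ≠ 2) (h : r ∣ q ^ k + 1) :
    ¬ r ∣ q ^ (3 * k) * (q ^ (3 * k) - 1) := by
  intro h1
  rcases hr.dvd_mul.1 h1 with h3 | h3
  · have h4 : r ∣ q ^ k := dvd_pow (hr.dvd_of_dvd_pow h3) hk.ne'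
    exact hr.one_lt.ne' (Nat.dvd_one.1 ((Nat.dvd_add_right h4).1 h))
  · have h4 : r ∣ q ^ (3 * k) + 1 := by
      refine h.trans ?_
      have := Odd.nat_add_dvd_pow_add_pow (q ^ k) 1 (n := 3) (by decide)
      rwa [one_pow, ← pow_mul, mul_comm] at this
    have h5 : 1 ≤ q ^ (3 * k) := Nat.one_le_pow _ _ hq
    have h6 := Nat.dvd_sub h4 h3
    rw [show q ^ (3 * k) + 1 - (q ^ (3 * k) - 1) = 2 by omega] at h6
    exact h2 ((Nat.prime_dvd_prime_iff_eq hr Nat.prime_two).1 h6)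

theorem num_lt {q k a c N sz : ℕ} (hk : 2 ≤ k) (hq : 3 ≤ q) (h1 : a * 2 ≤ N) (h2 : N * q ^ 2 ≤ q ^ (2 * k + 1) * (q + 1))
    (h3 : c * (q ^ k - 1) ≤ q ^ (2 * k) * (q ^ (3 * k) - 1)) (h4 : sz * 2 = q ^ (3 * k) * (q ^ (3 * k) - 1)) :
    a * c < 2 * sz := by
  by_contra h5
  have h6 : q ^ 2 ≤ q ^ k := Nat.pow_le_pow_right (by omega) hk
  have h7 : 1 < q ^ (3 * k) := Nat.one_lt_pow (by omega) (by omega)
  have e1 : q ^ (3 * k) = q ^ k * q ^ (2 * k) := by rw [← pow_add]; congr 1; omega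
  have e2 : q ^ (2 * k + 1) = q ^ k * q ^ k * q := by rw [pow_succ, two_mul, pow_add]
  have h8 : 0 < q ^ (2 * k) * (q ^ (3 * k) - 1) := Nat.mul_pos (by positivity) (by omega)
  obtain ⟨y, hy⟩ : ∃ y, q ^ k = y + 1 := ⟨q ^ k - 1, by
    have : 0 < q ^ k := by positivity
    omega⟩
  have h9 : q ^ k * y ≤ a := by
    refine Nat.le_of_mul_le_mul_right ?_ h8
    rw [hy, Nat.add_sub_cancel] at h3
    calc q ^ k * y * (q ^ (2 * k) * (q ^ (3 * k) - 1)) = sz * 2 * y := by
          rw [h4]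
          generalize q ^ (3 * k) - 1 = M
          rw [e1]
          ring
      _ ≤ a * c * y := Nat.mul_le_mul_right _ (by omega)
      _ = a * (c * y) := mul_assoc _ _ _
      _ ≤ _ := Nat.mul_le_mul_left _ h3
  have h10 : q ^ k * q * (2 * y * q) ≤ q ^ k * q * (q ^ k * (q + 1)) :=
    calc q ^ k * q * (2 * y * q) = q ^ k * y * 2 * q ^ 2 := by ring
      _ ≤ N * q ^ 2 := Nat.mul_le_mul_right _ (by omega)
      _ ≤ _ := h2
      _ = _ := by rw [e2]; ring
  have h11 := Nat.le_of_mul_le_mul_left h10 (by positivity)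
  rw [hy] at h11 h6
  nlinarith only [hq, h6, h11]

section main

variable {n : ℕ} {K : Type} [Field K] [Fintype K] {Q : (Fin n → K) → K} {X Y P : Subgroup (GL (Fin n) K)} {q k : ℕ}

/-- the sphere of kind `o` in terms of a vector -/
structure Pt (q m : ℕ) (Q : (Fin n → K) → K) (X : Subgroup (GL (Fin n) K)) (v : Fin n → K) : Prop where
  nd : IsNondegenerateQuadraticForm Q
  card : Fintype.card K = q
  odd : Odd q
  dim : n = 2 * m + 1
  ne : Q v ≠ 0
  mem : ∀ g ∈ omegaGL Q, g ∈ X ↔ ∃ c : K, ap g v = c • v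

theorem Sph.pt {m : ℕ} {B : (Fin n → K) → (Fin n → K) → K} {Sg : (Fin n → K) → Prop} {G : Subgroup (GL (Fin n) K)}
    (h : Sph q m .o B Sg G X) : ∃ Q v, G = omegaGL Q ∧ Pt q m Q X v := by
  cases h with
  | o Q hQ hK hq hd W h2 hn hW =>
    have h1 := H922.finrank_perp hQ.polar_bilinear hQ.nondegenerate W
    obtain ⟨v, hv0, hv⟩ := finrank_eq_one_iff'.1 (by omega : finrank K (H922.perp hQ.polar_bilinear W) = 1)
    have hv0' : (v : Fin n → K) ≠ 0 := fun e => hv0 (Subtype.ext e)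
    refine ⟨Q, v, rfl, hQ, hK, hq, by simpa only [_root_.Fintype.card_fin] using hd, fun e => ?_, fun g hg => ?_⟩
    · obtain ⟨⟨x, hx, hx0⟩, -⟩ := H922.perp_nondegenerate hQ hn v v.2 hv0'
      obtain ⟨c, hc⟩ := hv ⟨x, hx⟩
      have hc' : x = c • (v : Fin n → K) := (congrArg Subtype.val hc).symm
      rw [hc', hQ.polar_bilinear.smul_left, H922.two_mul_Q hQ.smul, e, mul_zero, mul_zero] at hx0
      exact hx0 rfl
    · have h3 := SetLike.ext_iff.1 (H922.subspaceStabilizer_perp_omega hQ W) g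
      rw [mem_inf, mem_inf, and_iff_left hg, and_iff_left hg] at h3
      rw [h3]
      constructor
      · intro h4
        obtain ⟨c, hc⟩ := hv ⟨_, (H922.mem_subspaceStabilizer.1 h4 v).1 v.2⟩
        exact ⟨c, (congrArg Subtype.val hc).symm⟩
      · rintro ⟨c, hc⟩
        refine H922.mem_subspaceStabilizer_of_forall fun x hx => ?_
        obtain ⟨d, hd⟩ := hv ⟨x, hx⟩
        have hd' : x = d • (v : Fin n → K) := (congrArg Subtype.val hd).symm
        show ap g x ∈ _
        rw [hd', ap_smul, hc]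
        exact Submodule.smul_mem _ _ (Submodule.smul_mem _ _ v.2)

namespace Pt

variable {m : ℕ} {v : Fin n → K} (h : Pt q m Q X v)
include h

theorem three : 3 ≤ q := by
  have h1 := h.odd
  have h2 := Fintype.one_lt_card (α := K)
  rw [h.card] at h2
  obtain ⟨x, hx⟩ := h1
  omega

theorem two : (2 : K) ≠ 0 := by
  refine Ring.two_ne_zero fun e => ?_
  have h1 := FiniteField.even_card_of_char_two e
  have h2 := Nat.odd_iff.1 h.odd
  rw [h.card] at h1
  omega

theorem iso {g : GL (Fin n) K} (hg : g ∈ omegaGL Q) (x : Fin n → K) : Q (ap g x) = Q x :=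
  H925.mem_iso_iff.1 (H922.omegaGL_le Q hg) x

theorem pm {g : GL (Fin n) K} (hg : g ∈ omegaGL Q) (hX : g ∈ X) : ap g v = v ∨ ap g v = -v := by
  obtain ⟨c, hc⟩ := (h.mem g hg).1 hX
  have h1 := h.iso hg v
  rw [hc, h.nd.smul, mul_left_eq_self₀, or_iff_left h.ne, sq_eq_one_iff] at h1
  rcases h1 with rfl | rfl
  · exact Or.inl (by rw [hc, one_smul])
  · exact Or.inr (by rw [hc, neg_one_smul])

theorem sing {z : GL (Fin n) K} (hz : z ∈ omegaGL Q) (hzz : z * z = 1) (h3 : 3 ≤ finrank K (Es z 1)) :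
    ∃ e ∈ Es z 1, ∃ w ∈ Es z 1, Q e = 0 ∧ QuadraticMap.polar Q w e ≠ 0 := by
  obtain ⟨e, he, he0, hQ⟩ := LieClassical.OrthFinite.exists_sing_mem (Q := H925.qf h.nd) _ h3
  obtain ⟨x, hx⟩ := (h.nd.nondegenerate e he0).1
  refine ⟨e, he, x + ap z x, mem_Es_one.2 (by rw [ap_add, ← ap_mul, hzz, ap_one, add_comm]), hQ, ?_⟩
  have h1 := H922.polar_of_mem (H922.omegaGL_le Q hz) x e
  rw [show (z : Matrix (Fin n) (Fin n) K) *ᵥ e = e from mem_Es_one.1 he] at h1
  rw [h.nd.polar_bilinear.add_left, h1, ← two_mul]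
  exact mul_ne_zero h.two hx

end Pt

/-- the dimensions -/
theorem Four.dim {v : Fin n → K} (h : Pt q (3 * k) Q X v) (hk : 2 ≤ k) {z : P} (hz : Four q k z) :
    finrank K (Es (z : GL (Fin n) K) (-1)) = 4 * k ∧ finrank K (Es (z : GL (Fin n) K) 1) = 2 * k + 1 := by
  obtain ⟨a, s, t, b, c, h1, h2⟩ := hz.xs
  obtain ⟨x, hx⟩ := (h2.map P.subtype).dvd h.two
  have h3 := split_top h.two (s := (z : GL (Fin n) K)) (congrArg Subtype.val hz.sq)
  rw [h1] at hx
  change finrank K (Es (z : GL (Fin n) K) (-1)) = _ at hx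
  rw [Fintype.card_fin] at h3
  have h4 := h.dim
  have h5 : x ≠ 0 := by
    rintro rfl
    obtain ⟨w, σ, τ, u, h0, -, -, h6, -⟩ := hz.four
    have h7 : Es (z : GL (Fin n) K) 1 = ⊤ := Submodule.eq_top_of_finrank_eq (by
      rw [finrank_fintype_fun_eq_card, Fintype.card_fin]; omega)
    have h8 : z = 1 := Subtype.ext (eq_of_ap fun y => (mem_Es_one.1 (h7 ▸ Submodule.mem_top)).trans (ap_one y).symm)
    rw [h8, mul_one, right_eq_mul] at h6
    exact h0 (h6.trans h8.symm)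
  have h6 : x < 2 := by
    by_contra h7
    have : 4 * k * 2 ≤ 4 * k * x := Nat.mul_le_mul_left _ (by omega)
    omega
  obtain rfl : x = 1 := by omega
  omega

/-- conjugation by an element of the normaliser -/
def cj (hY : ∀ y ∈ Y, ∀ x ∈ P, y * x * y⁻¹ ∈ P) {y : GL (Fin n) K} (hy : y ∈ Y) : MulAut P where
  toFun x := ⟨y * x * y⁻¹, hY y hy x x.2⟩
  invFun x := ⟨y⁻¹ * x * y⁻¹⁻¹, hY _ (inv_mem hy) x x.2⟩
  left_inv x := Subtype.ext (by simp only [mul_assoc, _root_.inv_mul_cancel_left, _root_.inv_inv, _root_.inv_mul_cancel, _root_.mul_one])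
  right_inv x := Subtype.ext (by simp only [mul_assoc, _root_.inv_inv, _root_.mul_inv_cancel_left, _root_.mul_inv_cancel, _root_.mul_one])
  map_mul' a b := Subtype.ext (by simp only [mul_assoc, _root_.Subgroup.coe_mul, _root_.MulMemClass.mk_mul_mk, _root_.inv_mul_cancel_left])

/-- **the stabiliser centralises `z`** -/
theorem Four.le_cen {v : Fin n → K} (h : Pt q (3 * k) Q X v) (hk : 2 ≤ k) (hP : P ≤ Y) (hYG : Y ≤ omegaGL Q)
    (hY : ∀ y ∈ Y, ∀ x ∈ P, y * x * y⁻¹ ∈ P) (hi : X.relIndex Y * 2 = q ^ (3 * k) * (q ^ (3 * k) - 1)) {z : P}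
    (hz : Four q k z) (hv : ap (z : GL (Fin n) K) v = v) {g : GL (Fin n) K} (hX : g ∈ X) (hg : g ∈ Y) :
    g * z = z * g := by
  classical
  let D : Subgroup (GL (Fin n) K) := centralizer {(z : GL (Fin n) K)} ⊓ Y
  have hD : ∀ d, d ∈ D ↔ d * z = z * d ∧ d ∈ Y := fun d => by
    rw [mem_inf, mem_centralizer_singleton_iff]
  have hd := (hz.dim h hk).2
  obtain ⟨e, he, w, hw, hQ, hwe⟩ := h.sing (hYG (hP z.2)) (congrArg Subtype.val hz.sq) (by omega)
  have h1 := cnt_le (H925.qf h.nd) h.two _ h.ne he hQ hw hwe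
  rw [hd, Nat.card_eq_fintype_card, h.card] at h1
  have hv0 : v ≠ -v := fun e => h.ne (by
    have e' : (2 : K) • v = 0 := by rw [two_smul]; exact eq_neg_iff_add_eq_zero.1 e
    rw [(smul_eq_zero.1 e').resolve_left h.two]
    exact map_zero (H925.qf h.nd))
  have h2 := relIndex_mul_le (β := Bool) X D (fun d b => if b then ap d v else -ap d v)
    (S := {x | x ∈ Es (z : GL (Fin n) K) 1 ∧ H925.qf h.nd x = Q v}) (Set.toFinite _) (fun d hd b => ?_)
    (fun d hd d' hd' b b' e => ?_) fun d hd b b' e => ?_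
  · have h3 := relIndex_le D Y (fun y => if hy : y ∈ Y then cj hY hy z else z)
      (S := {x | ∃ φ : MulAut P, φ z = x}) (Set.toFinite _) (fun y hy => ⟨cj hY hy, by rw [dif_pos hy]⟩)
      fun y hy y' hy' e => ?_
    · have h4 := num_lt hk h.three (by simpa only [_root_.Cfsg.Agent.H925.coe_qf, _root_.Nat.card_eq_fintype_card, _root_.Fintype.card_bool] using h2) h1 ((Nat.mul_le_mul_right _ h3).trans hz.cls) hi
      exact ((hD g).1 (j_one inf_le_right h4 ⟨hX, hg⟩)).1
    · rw [dif_pos hy, dif_pos hy'] at e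
      have e' : y * z * y⁻¹ = y' * z * y'⁻¹ := congrArg Subtype.val e
      refine (hD _).2 ⟨?_, mul_mem (inv_mem hy) hy'⟩
      calc y⁻¹ * y' * z = y⁻¹ * (y' * z * y'⁻¹) * y' := by group
        _ = z * (y⁻¹ * y') := by rw [← e']; group
  · have h4 : ap d v ∈ Es (z : GL (Fin n) K) 1 := to_Es ((hD d).1 hd).1 1 v (mem_Es_one.2 hv)
    have h5 := h.iso (hYG hd.2) v
    cases b
    · exact ⟨neg_mem h4, (QuadraticMap.map_neg _ _).trans h5⟩
    · exact ⟨h4, h5⟩
  · refine (h.mem _ (hYG (mul_mem (inv_mem hd.2) hd'.2))).2 ?_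
    rw [ap_mul]
    cases b <;> cases b' <;> simp only [if_true, Bool.false_eq_true, if_false, neg_inj] at e
    · exact ⟨1, by rw [← e, ap_inv_ap, one_smul]⟩
    · exact ⟨-1, by rw [← e, ap_neg, ap_inv_ap, neg_one_smul]⟩
    · exact ⟨-1, by rw [← neg_eq_iff_eq_neg.2 e, ap_neg, ap_inv_ap, neg_one_smul]⟩
    · exact ⟨1, by rw [← e, ap_inv_ap, one_smul]⟩
  · have h4 : ap d v ≠ -ap d v := fun e => hv0 (ap_inj d (by rw [ap_neg]; exact e))
    cases b <;> cases b' <;> simp only [if_true, Bool.false_eq_true, if_false] at e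
    · rfl
    · exact absurd e.symm h4
    · exact absurd e h4
    · rfl

/-- **`C_P(z)` is not contained in the stabiliser** -/
theorem Four.exists_not {v : Fin n → K} (h : Pt q (3 * k) Q X v) (hk : 2 ≤ k) (hPG : P ≤ omegaGL Q) {z : P}
    (hz : Four q k z) (hv : ap (z : GL (Fin n) K) v = v) (hc : ∀ g : P, (g : GL (Fin n) K) ∈ X → g * z = z * g) :
    ∃ c : P, c * z = z * c ∧ (c : GL (Fin n) K) ∉ X := by
  obtain ⟨w, σ, τ, u, h0, h1, h2, h3, h4, h5, h6⟩ := hz.four
  refine ⟨u, h5, fun hu => h0 ?_⟩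
  obtain ⟨d1, d2⟩ := hz.dim h hk
  have hwz : w * z = z * w := by rw [← h6, mul_assoc, h5, ← mul_assoc, h5, mul_assoc]
  have hww : w * w = 1 := by
    have e : w = τ * z * τ⁻¹ := by rw [h3, mul_inv_cancel_right]
    rw [e, conj_mul, hz.sq, mul_one, mul_inv_cancel]
  have e1 := halve h.two (z := (z : GL (Fin n) K)) (s := (w : GL (Fin n) K)) (t := (σ : GL (Fin n) K)) le_rfl
    (to_Es (congrArg Subtype.val hwz) _) (to_Es (congrArg Subtype.val h1) _) (congrArg Subtype.val hww)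
    (congrArg Subtype.val h2)
  have e2 := split h.two (s := (z : GL (Fin n) K)) (U := Es (w : GL (Fin n) K) 1)
    (to_Es (congrArg Subtype.val hwz.symm) _) (congrArg Subtype.val hz.sq)
  have e3 := finrank_Es_eq (g := (τ : GL (Fin n) K)) (s := (z : GL (Fin n) K)) (s' := (w : GL (Fin n) K))
    (congrArg Subtype.val h3) 1
  rw [inf_comm] at e1
  have e4 : finrank K ↥(Es (w : GL (Fin n) K) 1 ⊓ Es (z : GL (Fin n) K) 1) = 1 := by omega
  have hw : ap (w : GL (Fin n) K) v = v := by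
    rw [← h6, coe_mul, ap_mul]
    rcases h.pm (hPG u.2) hu with e | e
    · rw [e, e]
    · rw [e, ap_neg, e, neg_neg]
  have hm : v ∈ Es (w : GL (Fin n) K) 1 ⊓ Es (z : GL (Fin n) K) 1 := ⟨mem_Es_one.2 hw, mem_Es_one.2 hv⟩
  have hm' : ap (τ : GL (Fin n) K) v ∈ Es (w : GL (Fin n) K) 1 ⊓ Es (z : GL (Fin n) K) 1 :=
    ⟨to_Es (congrArg Subtype.val h3) 1 v hm.2, to_Es (congrArg Subtype.val h4) 1 v hm.1⟩
  have hv0 : (⟨v, hm⟩ : ↥(Es (w : GL (Fin n) K) 1 ⊓ Es (z : GL (Fin n) K) 1)) ≠ 0 := fun e => h.ne (by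
    rw [show v = 0 from congrArg Subtype.val e]
    exact map_zero (H925.qf h.nd))
  obtain ⟨c, hc'⟩ := (finrank_eq_one_iff_of_nonzero' _ hv0).1 e4 ⟨_, hm'⟩
  have h7 := hc τ ((h.mem _ (hPG τ.2)).2 ⟨c, (congrArg Subtype.val hc').symm⟩)
  exact mul_right_cancel (h3.symm.trans h7)

/-- **The common scheme for the rows `C` and `F`.** -/
theorem inv_of_four {B : (Fin n → K) → (Fin n → K) → K} {Sg : (Fin n → K) → Prop} {G : Subgroup (GL (Fin n) K)}
    (h : Hy .o q (3 * k) B Sg G X Y P) (hk : 2 ≤ k) {T : Type*} [Group T] (e : H915.LD.Soc P ≃* T) {z : T} (hz : Four q k z) :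
    Inv X P := by
  obtain ⟨Q, v, rfl, hv⟩ := h.sph.pt
  have hPG : P ≤ omegaGL Q := h.core.le.trans h.le
  have hsc : ∀ g : P, (g : GL (Fin n) K) ∈ scalars (Fin n) K → g = 1 := fun g hg => Subtype.ext
    (H922.scalars_inf_omegaGL Q hv.nd (by rw [Fintype.card_fin, hv.dim]; exact odd_two_mul_add_one _) (hPG g.2) hg)
  let ι : P ≃* H915.LD.Soc P := MulEquiv.ofBijective (toSoc P)
    ⟨(injective_iff_map_eq_one _).2 fun g hg => hsc g (by
      have h1 : g ∈ (toSoc P).ker := hg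
      rwa [ker_toSoc] at h1), toSoc_surjective P⟩
  have hι : ∀ g : P, ι g = QuotientGroup.mk g := fun _ => rfl
  obtain ⟨z, hz, hzv⟩ : ∃ z : P, Four q k z ∧ ap (z : GL (Fin n) K) v = v := by
    have h0 := hz.map (ι.trans e).symm
    set z0 := (ι.trans e).symm z
    obtain ⟨x, hx, w, hw, hQ, hwx⟩ := hv.sing (hPG z0.2) (congrArg Subtype.val h0.sq) (by have := (h0.dim hv hk).2; omega)
    have h1 := map_add_smul (H925.qf hv.nd) w x ((Q v - Q w) / QuadraticMap.polar Q w x)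
    have h2 : Q (w + ((Q v - Q w) / QuadraticMap.polar Q w x) • x) = Q v := by
      simp only [H925.coe_qf] at h1
      rw [h1, hQ, div_mul_cancel₀ _ hwx]
      ring
    have h3 := (Es (z0 : GL (Fin n) K) 1).add_mem hw
      (Submodule.smul_mem _ ((Q v - Q w) / QuadraticMap.polar Q w x) hx)
    generalize w + ((Q v - Q w) / QuadraticMap.polar Q w x) • x = v' at h2 h3
    have hne : ∀ x, Q x = Q v → x ≠ 0 := fun x hx e => hv.ne (by rw [← hx, e]; exact map_zero (H925.qf hv.nd))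
    obtain ⟨g, hg, hgv⟩ := H925.exists_trans hv.nd (by have := h.big; omega) (hne v rfl) (hne v' h2) h2.symm
    obtain ⟨y, hy, x, hx, rfl⟩ := h.fac g hg
    have hxG : x ∈ omegaGL Q := (mul_mem_cancel_left (h.le hy)).1 hg
    have h4 : ap y v ∈ Es (z0 : GL (Fin n) K) 1 := by
      change ap (y * x) v = v' at hgv
      rw [ap_mul] at hgv
      rcases hv.pm hxG hx with e | e
      · rw [e] at hgv
        exact hgv ▸ h3
      · rw [e, ap_neg] at hgv
        exact neg_mem_iff.1 (hgv ▸ h3)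
    refine ⟨cj h.core.normal (inv_mem hy) z0, h0.map _, ?_⟩
    show ap (y⁻¹ * (z0 : GL (Fin n) K) * y⁻¹⁻¹) v = v
    rw [inv_inv, ap_mul, ap_mul, mem_Es_one.1 h4, ap_inv_ap]
  have hi : X.relIndex Y * 2 = q ^ (3 * k) * (q ^ (3 * k) - 1) := h.idx
  have hc : ∀ g : P, (g : GL (Fin n) K) ∈ X → g * z = z * g := fun g hg =>
    Subtype.ext (hz.le_cen hv hk h.core.le h.le h.core.normal hi hzv hg (h.core.le g.2))
  refine ⟨z, (hv.mem _ (hPG z.2)).2 ⟨1, by rw [hzv, one_smul]⟩, hz.sq, fun h1 => ?_, hz.exists_not hv hk hPG hzv hc,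
    fun φ hφ => ?_⟩
  · obtain ⟨w, σ, τ, u, h0, -, -, h6, -⟩ := hz.four
    have h8 := hsc z h1
    rw [h8, mul_one, right_eq_mul] at h6
    exact h0 (h6.trans h8.symm)
  · obtain ⟨r, hr, h2, h3, h4, h5⟩ := hz.ppd
    have := Fact.mk hr
    obtain ⟨g, hg⟩ := exists_prime_orderOf_dvd_card' r (dvd_card_inf (X := X) h.core.le h.core.normal hr h4 fun h6 =>
      not_dvd_num (by omega) (by have := hv.three; omega) hr h2 h3 (hi ▸ Dvd.dvd.mul_right h6 _))
    have h6 : ι g.1 ∈ (img X P).map φ.toMonoidHom := by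
      rw [hφ]
      exact ⟨g.1, g.2, rfl⟩
    obtain ⟨_, ⟨g', hg', rfl⟩, h7⟩ := h6
    have h8 : (ι.trans φ).trans ι.symm g' = g.1 := ι.symm_apply_eq.2 h7
    have h9 := h5 g.1 ((ι.trans φ).trans ι.symm) (by rw [orderOf_coe, hg]) (hc _ g.2)
      (by rw [← h8, ← map_mul, ← map_mul, hc _ hg'])
    exact ι.symm_apply_eq.1 h9

end main

end Cfsg.Agent.SM.CS
end

-- part: SM/Ti/Hy_mg
section
set_option linter.all false
open scoped Cfsg.Agent.FastGrp

-- part: SM/Ti/Ins
section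
/-!
# S3570, the polar spaces of the five spheres: the boxes `BoxQ`, `BoxH`, `BoxP` (helper69, `notes/SM/ti.md`)
-/

set_option autoImplicit false

namespace Cfsg.Agent.SM.Ti

open Cfsg Cfsg.Geo Matrix
open Cfsg.Agent.SM.CS (Sph Cs Kind)

/-- polar space, fixed singular vectors, tight -/
def Ins (k : Kind) : Prop :=
  ∀ (ι : Type) [Fintype ι] [DecidableEq ι] (K : Type) [Field K] [Fintype K] (q m : ℕ) (B : (ι → K) → (ι → K) → K)
    (Sg : (ι → K) → Prop) (G X Y P : Subgroup (GL ι K)), Sph q m k B Sg G X → Cs k G X Y P →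
    Pol B Sg G ∧ Sing Sg G ∧ Tight B Sg m Y

/-- [Ti-Q] -/
def BoxQ : Prop := Ins .p1 ∧ Ins .p2 ∧ Ins .o
/-- [Ti-H] -/
def BoxH : Prop := Ins .u
/-- [Ti-P] -/
def BoxP : Prop := Ins .s

end Cfsg.Agent.SM.Ti
end

-- part: SM/Ti/Hy
section
/-!
# S3570, from the spheres to the tight cores (helper69, `notes/SM/ti.md`)

* `ins_all` : the boxes `BoxQ`, `BoxH`, `BoxP` give `Ins k` for all kinds;
* `boxTi_of` : `CS.BoxTi`;
* `tc_of` : `Sph`, `Cs` on `Fin n` give `Tc m P`.
-/

set_option autoImplicit false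
set_option linter.unusedSectionVars false

namespace Cfsg.Agent.SM.Ti

open Cfsg Cfsg.Geo Matrix
open Cfsg.Agent.SM.CS (Sph Cs Hy Kind)

theorem ins_all (hQ : BoxQ) (hH : BoxH) (hP : BoxP) (k : Kind) : Ins k := by
  cases k
  · exact hH
  · exact hQ.1
  · exact hQ.2.1
  · exact hQ.2.2
  · exact hP

theorem boxTi_of (hQ : BoxQ) (hH : BoxH) (hP : BoxP) : CS.BoxTi := fun ι _ _ K _ _ k q m B Sg G X Y P s c =>
  ⟨(ins_all hQ hH hP k ι K q m B Sg G X Y P s c).1, (ins_all hQ hH hP k ι K q m B Sg G X Y P s c).2.2⟩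

variable {ι : Type} [Fintype ι] [DecidableEq ι] {K : Type} [Field K] [Fintype K] {k : Kind} {q m : ℕ}
  {B : (ι → K) → (ι → K) → K} {Sg : (ι → K) → Prop} {G X Y P : Subgroup (GL ι K)}

/-- the dimension and the field of a sphere -/
theorem sph_dim (s : Sph q m k B Sg G X) :
    (k = .o ∧ Fintype.card ι = 2 * m + 1 ∧ Odd q ∧ Fintype.card K = q) ∨
      (k = .u ∧ Fintype.card ι = 2 * m ∧ Fintype.card K = q ^ 2) ∨
      ((k = .p1 ∨ k = .p2 ∨ (k = .s ∧ Even q)) ∧ Fintype.card ι = 2 * m ∧ Fintype.card K = q) := by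
  cases s with
  | u f hf hK hd => exact Or.inr (Or.inl ⟨rfl, hd, hK⟩)
  | p1 Q hQ hp hK hd => exact Or.inr (Or.inr ⟨Or.inl rfl, hd, hK⟩)
  | p2 Q hQ hp hK hd => exact Or.inr (Or.inr ⟨Or.inr (Or.inl rfl), hd, hK⟩)
  | o Q hQ hK hq hd => exact Or.inl ⟨rfl, hd, hq, hK⟩
  | s Q hQ hp hK hq hd => exact Or.inr (Or.inr ⟨Or.inr (Or.inr ⟨rfl, hq⟩), hd, hK⟩)

/-- **From a sphere to a tight core.** -/
theorem tc_of {n : ℕ} {B : (Fin n → K) → (Fin n → K) → K} {Sg : (Fin n → K) → Prop} {G X Y P : Subgroup (GL (Fin n) K)}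
    (hI : Ins k) (s : Sph q m k B Sg G X) (c : Cs k G X Y P) : Tc m P := by
  obtain ⟨h1, h2, h3⟩ := hI _ K q m B Sg G X Y P s c
  have h4 := c.big
  have h5 := sph_dim s
  rw [Fintype.card_fin] at h4 h5
  refine ⟨H915.LD.core_of_residual c.core, h4, by omega, by omega, fun e => ?_,
    B, Sg, G, Y, h1, h2, c.core.le.trans c.le, c.le, c.core.normal, h3⟩
  rcases h5 with ⟨-, -, h6, h7⟩ | h6 | h6
  · rwa [Nat.card_eq_fintype_card, h7]
  · omega
  · omega

theorem tc_of_hy {n : ℕ} {B : (Fin n → K) → (Fin n → K) → K} {Sg : (Fin n → K) → Prop} {G X Y P : Subgroup (GL (Fin n) K)}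
    (hI : Ins k) (h : Hy k q m B Sg G X Y P) : Tc m P := tc_of hI h.sph h.toCs

end Cfsg.Agent.SM.Ti
end

-- part: SM/Ti/Q
section
/-!
# S3570, the three orthogonal spheres: `boxQ` (helper23)

* `pol`, `sing` : the polar space of a quadratic form with the group `Ω`;
* `two_le`, `gen_of`, `exists_ts` : totally singular subspaces;
* `tight` : `tight_sub` from a factorisation.
-/

set_option autoImplicit false
set_option linter.unusedSectionVars false

namespace Cfsg.Agent.SM.Ti.Q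

open Cfsg Cfsg.Geo Matrix Module
open Cfsg.Agent.SM.CS (Sph Cs Kind)
open Cfsg.Agent.H922 (perp mem_perp finrank_perp perp_perp)

variable {ι : Type} [Fintype ι] [DecidableEq ι] {K : Type} [Field K] [Fintype K]

/-- a factorisation gives the transitivity on the translates of `U` -/
theorem map_fac {U : Submodule K (ι → K)} {x : GL ι K} (hx : x ∈ subspaceStabilizer U) (y : GL ι K) :
    U.map (toLin' ((y * x : GL ι K) : Matrix ι ι K)) = U.map (toLin' (y : Matrix ι ι K)) := by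
  have hx' : ∀ v, v ∈ U ↔ ap x v ∈ U := hx
  ext z
  constructor
  · rintro ⟨u, hu, rfl⟩
    exact ⟨ap x u, (hx' u).1 hu, (ap_mul y x u).symm⟩
  · rintro ⟨u, hu, rfl⟩
    refine ⟨ap x⁻¹ u, (hx' _).2 (by rw [ap_ap_inv]; exact hu), ?_⟩
    show ap (y * x) (ap x⁻¹ u) = ap y u
    rw [ap_mul, ap_ap_inv]

variable {Q : (ι → K) → K} (hQ : IsNondegenerateQuadraticForm Q)

theorem Q_add (x y : ι → K) : Q (x + y) = Q x + Q y + QuadraticMap.polar Q x y := by
  unfold QuadraticMap.polar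
  ring

theorem ts_of {A : Submodule K (ι → K)} (h : ∀ w ∈ A, Q w = 0) : Ts (QuadraticMap.polar Q) (fun x => Q x = 0) A :=
  ⟨h, fun u hu v hv => by
    have h1 := Q_add (Q := Q) u v
    rw [h _ (A.add_mem hu hv), h u hu, h v hv, zero_add, zero_add] at h1
    exact h1.symm⟩

theorem fix {g : GL ι K} (hg : g ∈ omegaGL Q) (v : ι → K) : Q (ap g v) = Q v :=
  H925.mem_iso_iff.1 (H925.omegaGL_le_iso Q hg) v

include hQ

theorem Q_zero : Q 0 = 0 := by
  have h := hQ.smul 0 0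
  rwa [zero_smul, zero_pow two_ne_zero, zero_mul] at h

theorem pol (hn : 6 ≤ Fintype.card ι) : Pol (QuadraticMap.polar Q) (fun x => Q x = 0) (omegaGL Q) where
  add := hQ.polar_bilinear.add_left
  smul := hQ.polar_bilinear.smul_left
  refl x y h := by rw [QuadraticMap.polar_comm]; exact h
  sg_smul c x h := by
    show Q (c • x) = 0
    rw [hQ.smul, show Q x = 0 from h, mul_zero]
  sg_self x h := LieClassical.OrthCore.polar_self_of_sing (Q := H925.qf hQ) h
  partner x h h0 := by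
    obtain ⟨y, hy⟩ := LieClassical.OrthTrans.exists_hyp (H925.nondeg_qf hQ) (x := x) h h0
    refine ⟨y, hy.right, ?_⟩
    rw [show QuadraticMap.polar Q y x = 1 from hy.symm.pair]
    exact one_ne_zero
  fix g hg x y := by
    unfold QuadraticMap.polar
    rw [← ap_add, fix hg, fix hg, fix hg]
  sg g hg x h := (fix hg x).trans h
  witt1 x y hx hy hx0 hy0 := H925.exists_trans hQ (by omega) hx0 hy0 (Eq.trans hx (Eq.symm hy))
  witt2 x y x' y' hx hy hx' hy' i1 i2 e := by
    have s1 : QuadraticMap.polar Q x x = 0 := LieClassical.OrthCore.polar_self_of_sing (Q := H925.qf hQ) hx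
    have s2 : QuadraticMap.polar Q y y = 0 := LieClassical.OrthCore.polar_self_of_sing (Q := H925.qf hQ) hy
    have s3 : QuadraticMap.polar Q x' x' = 0 := LieClassical.OrthCore.polar_self_of_sing (Q := H925.qf hQ) hx'
    have s4 : QuadraticMap.polar Q y' y' = 0 := LieClassical.OrthCore.polar_self_of_sing (Q := H925.qf hQ) hy'
    obtain ⟨g, hg, h⟩ := H445.AH.exists_E_family (H925.good_qf hQ (by omega)) ![x, y] ![x', y'] i1 i2
      (fun i => by
        fin_cases i
        · exact Eq.trans hx (Eq.symm hx')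
        · exact Eq.trans hy (Eq.symm hy'))
      (fun i j => by
        fin_cases i <;> fin_cases j
        · exact s1.trans s3.symm
        · exact e
        · exact (QuadraticMap.polar_comm Q y x).trans (e.trans (QuadraticMap.polar_comm Q x' y'))
        · exact s2.trans s4.symm)
      (by rw [finrank_fintype_fun_eq_card]; omega)
    obtain ⟨g', hg', h'⟩ := H925.exists_omegaGL hQ (by omega) hg
    exact ⟨g', hg', (h' x).trans (h 0), (h' y).trans (h 1)⟩

theorem sing (hn : 3 ≤ Fintype.card ι) : Sing (fun x => Q x = 0) (omegaGL Q) := by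
  intro p U hp h0 hU hP
  have : Fact p.Prime := ⟨hp⟩
  have : CharP K p := (CharP.charP_iff_prime_eq_zero hp).2 h0
  let ρ : U →* Module.End K (ι → K) :=
    { toFun := fun u => toLin' ((u : GL ι K) : Matrix ι ι K)
      map_one' := by simp [Module.End.one_eq_id]
      map_mul' := fun a b => by simp [Module.End.mul_eq_comp, toLin'_mul] }
  obtain ⟨v, h1, h2, h3⟩ := H510.OA.exists_fixed_zero (H925.qf hQ) (by rwa [finrank_fintype_fun_eq_card]) hP ρ
    fun x v => fix (hU x.2) v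
  exact ⟨v, h1, h2, fun u hu => h3 ⟨u, hu⟩⟩

theorem two_le {A : Submodule K (ι → K)} (h : Ts (QuadraticMap.polar Q) (fun x => Q x = 0) A) :
    2 * finrank K A ≤ Fintype.card ι := by
  have h1 := finrank_perp hQ.polar_bilinear hQ.nondegenerate A
  have h2 := Submodule.finrank_mono (show A ≤ perp hQ.polar_bilinear A from fun x hx w hw => h.ort w hw x hx)
  omega

theorem ts_sup {A : Submodule K (ι → K)} (h : Ts (QuadraticMap.polar Q) (fun x => Q x = 0) A) {v : ι → K} (hv : Q v = 0)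
    (hA : ∀ w ∈ A, QuadraticMap.polar Q w v = 0) :
    Ts (QuadraticMap.polar Q) (fun x => Q x = 0) (A ⊔ Submodule.span K {v}) := by
  refine ts_of fun w hw => ?_
  obtain ⟨a, ha, b, hb, rfl⟩ := Submodule.mem_sup.1 hw
  obtain ⟨c, rfl⟩ := Submodule.mem_span_singleton.1 hb
  rw [Q_add (Q := Q), show Q a = 0 from h.sg a ha, hQ.smul, hv, hQ.polar_bilinear.smul_right, hA a ha]
  ring

omit hQ in
theorem lt_sup {A : Submodule K (ι → K)} {v : ι → K} (hv : v ∉ A) :
    finrank K A < finrank K ↥(A ⊔ Submodule.span K {v}) :=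
  Submodule.finrank_lt_finrank_of_lt (lt_of_le_of_ne le_sup_left fun e =>
    hv (e ▸ Submodule.mem_sup_right (Submodule.mem_span_singleton_self v)))

theorem gen_of {W : Submodule K (ι → K)} (h : Ts (QuadraticMap.polar Q) (fun x => Q x = 0) W)
    (hn : Fintype.card ι ≤ 2 * finrank K W + 1) : Gen (QuadraticMap.polar Q) (fun x => Q x = 0) W := by
  refine ⟨h, fun v hv hW => ?_⟩
  by_contra hc
  have h1 := two_le hQ (ts_sup hQ h hv hW)
  have h2 := lt_sup hc
  omega

theorem exists_ts (k : ℕ) (hk : 2 * k + 1 ≤ Fintype.card ι) :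
    ∃ W : Submodule K (ι → K), Ts (QuadraticMap.polar Q) (fun x => Q x = 0) W ∧ finrank K W = k := by
  induction k with
  | zero =>
    refine ⟨⊥, ts_of fun w hw => ?_, finrank_bot _ _⟩
    rw [(Submodule.mem_bot K).1 hw]
    exact Q_zero hQ
  | succ k ih =>
    obtain ⟨W, hW, hd⟩ := ih (by omega)
    obtain ⟨C, hC⟩ := W.exists_isCompl
    have h1 := finrank_perp hQ.polar_bilinear hQ.nondegenerate W
    have h2 := Submodule.finrank_add_eq_of_isCompl hC
    have h3 := Submodule.finrank_sup_add_finrank_inf_eq C (perp hQ.polar_bilinear W)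
    have h4 := Submodule.finrank_le (C ⊔ perp hQ.polar_bilinear W)
    rw [finrank_fintype_fun_eq_card] at h2 h4
    obtain ⟨v, hv, hv0, hvQ⟩ := LieClassical.OrthFinite.exists_sing_mem (Q := H925.qf hQ)
      (C ⊓ perp hQ.polar_bilinear W) (by omega)
    have h5 : v ∉ W := fun h => hv0 ((Submodule.disjoint_def.1 hC.disjoint) v h hv.1)
    refine ⟨W ⊔ Submodule.span K {v}, ts_sup hQ hW hvQ hv.2, ?_⟩
    have h6 := lt_sup h5
    have h7 := Submodule.finrank_sup_add_finrank_inf_eq W (Submodule.span K {v})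
    rw [finrank_span_singleton hv0] at h7
    omega

theorem exists_plus {m : ℕ} (hp : IsPlusTypeOn Q ⊤) (hd : Fintype.card ι = 2 * m) :
    ∃ W : Submodule K (ι → K), Ts (QuadraticMap.polar Q) (fun x => Q x = 0) W ∧ finrank K W = m := by
  obtain ⟨W, -, h1, h2⟩ := hp
  rw [finrank_top, finrank_fintype_fun_eq_card] at h2
  exact ⟨W, ts_of h1, by omega⟩

/-- the three results from a subspace `U` whose translates are permuted transitively -/
theorem tight {m : ℕ} (hn : 6 ≤ Fintype.card ι) (hd : Fintype.card ι ≤ 2 * m + 1)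
    (hW : ∃ W : Submodule K (ι → K), Ts (QuadraticMap.polar Q) (fun x => Q x = 0) W ∧ finrank K W = m)
    (U : Submodule K (ι → K)) (hU0 : 0 < finrank K U) (hUm : finrank K U < m)
    (hU : ∀ A : Submodule K (ι → K), Ts (QuadraticMap.polar Q) (fun x => Q x = 0) A →
      (∀ a ∈ A, ∀ u ∈ U, QuadraticMap.polar Q a u = 0) → finrank K A + finrank K U ≤ m)
    {Y : Subgroup (GL ι K)} (hYG : Y ≤ omegaGL Q)
    (hY : ∀ g ∈ omegaGL Q, ∃ y ∈ Y, ∃ x ∈ subspaceStabilizer U, g = y * x) :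
    Pol (QuadraticMap.polar Q) (fun x => Q x = 0) (omegaGL Q) ∧ Sing (fun x => Q x = 0) (omegaGL Q) ∧
      Tight (QuadraticMap.polar Q) (fun x => Q x = 0) m Y := by
  obtain ⟨W, h1, h2⟩ := hW
  refine ⟨pol hQ hn, sing hQ (by omega), tight_sub (pol hQ hn) (gen_of hQ h1 (by omega)) h2 U (fun e => ?_) hUm hU hYG
    fun g hg => ?_⟩
  · rw [e, finrank_bot] at hU0
    exact lt_irrefl _ hU0
  · obtain ⟨y, hy, x, hx, rfl⟩ := hY g hg
    exact ⟨y, hy, map_fac hx y⟩

/-- the perpendicular space of an anisotropic plane in plus type has Witt index `m - 2` -/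
theorem plane {m : ℕ} (hp : IsPlusTypeOn Q ⊤) (hd : Fintype.card ι = 2 * m) {W : Submodule K (ι → K)}
    (h2 : finrank K W = 2) (hW : ∀ w ∈ W, Q w = 0 → w = 0) {A : Submodule K (ι → K)}
    (hA : Ts (QuadraticMap.polar Q) (fun x => Q x = 0) A) (hAW : ∀ a ∈ A, ∀ u ∈ W, QuadraticMap.polar Q a u = 0) :
    finrank K A + 2 ≤ m := by
  by_contra hc
  obtain ⟨W0, hW0, hm⟩ := exists_plus hQ hp hd
  have h1 : A ⊔ W ≤ perp hQ.polar_bilinear A :=
    sup_le (fun x hx w hw => hA.ort w hw x hx) fun x hx w hw => hAW w hw x hx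
  have h3 : A ⊓ W = ⊥ := (Submodule.eq_bot_iff _).2 fun x hx => hW x hx.2 (hA.sg x hx.1)
  have h4 := Submodule.finrank_sup_add_finrank_inf_eq A W
  rw [h3, finrank_bot, h2] at h4
  have h5 := finrank_perp hQ.polar_bilinear hQ.nondegenerate A
  have h6 := Submodule.finrank_mono h1
  have h7 : A ⊔ W = perp hQ.polar_bilinear A := Submodule.eq_of_le_of_finrank_le h1 (by omega)
  have h8 : W0 = perp hQ.polar_bilinear W0 := by
    have := finrank_perp hQ.polar_bilinear hQ.nondegenerate W0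
    exact Submodule.eq_of_le_of_finrank_le (fun x hx w hw => hW0.ort w hw x hx) (by omega)
  have h9 : perp hQ.polar_bilinear (W0 ⊔ A) ≤ W0 ⊓ A := by
    intro x hx
    have a1 : x ∈ W0 := by
      rw [h8]
      exact fun w hw => hx w (Submodule.mem_sup_left hw)
    have a2 : x ∈ A ⊔ W := by
      rw [h7]
      exact fun w hw => hx w (Submodule.mem_sup_right hw)
    obtain ⟨a, ha, u, hu, rfl⟩ := Submodule.mem_sup.1 a2
    have a3 : Q (a + u) = 0 := hW0.sg _ a1
    rw [Q_add (Q := Q), show Q a = 0 from hA.sg a ha, hAW a ha u hu, zero_add, add_zero] at a3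
    refine ⟨a1, ?_⟩
    rw [hW u hu a3, add_zero]
    exact ha
  have h10 := Submodule.finrank_mono h9
  have h11 := finrank_perp hQ.polar_bilinear hQ.nondegenerate (W0 ⊔ A)
  have h12 := Submodule.finrank_sup_add_finrank_inf_eq W0 A
  omega

omit hQ

theorem ins_p1 : Ins .p1 := by
  intro ι _ _ K _ _ q m B Sg G X Y P hS hC
  have hb := hC.big
  have hle := hC.le
  have hf := hC.fac
  clear hC
  cases hS with
  | p1 Q hQ hp hK hd v hv =>
    have hv0 : v ≠ 0 := fun e => hv (by rw [e]; exact Q_zero hQ)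
    have h1 := finrank_span_singleton (K := K) hv0
    refine tight hQ (by omega) (by omega) (exists_plus hQ hp hd) _ (by omega) (by omega) (fun A hA hU => ?_) hle hf
    have h2 := lt_sup (show v ∉ A from fun h => hv (hA.sg v h))
    have h3 := Submodule.finrank_mono (show A ⊔ Submodule.span K {v} ≤ perp hQ.polar_bilinear A from
      sup_le (fun x hx w hw => hA.ort w hw x hx) fun x hx w hw => hU w hw x hx)
    have h4 := finrank_perp hQ.polar_bilinear hQ.nondegenerate A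
    omega

theorem ins_p2 : Ins .p2 := by
  intro ι _ _ K _ _ q m B Sg G X Y P hS hC
  have hb := hC.big
  have hle := hC.le
  have hf := hC.fac
  clear hC
  cases hS with
  | p2 Q hQ hp hK hd W h2 hW =>
    refine tight hQ (by omega) (by omega) (exists_plus hQ hp hd) _ (by omega) (by omega) (fun A hA hU => ?_) hle hf
    rw [h2]
    exact plane hQ hp hd h2 hW hA hU

theorem ins_o : Ins .o := by
  intro ι _ _ K _ _ q m B Sg G X Y P hS hC
  have hb := hC.big
  have hle := hC.le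
  have hf := hC.fac
  clear hC
  cases hS with
  | o Q hQ hK hq hd W h2 hn hW =>
    have h1 := finrank_perp hQ.polar_bilinear hQ.nondegenerate W
    refine tight hQ (by omega) (by omega) (exists_ts hQ m (by omega)) (perp hQ.polar_bilinear W) (by omega) (by omega)
      (fun A hA hU => ?_) hle fun g hg => ?_
    · have h3 : A ≤ W := by
        rw [← perp_perp hQ.polar_bilinear (QuadraticMap.polar_comm Q) hQ.nondegenerate W]
        exact fun a ha u hu => (QuadraticMap.polar_comm Q u a).trans (hU a ha u hu)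
      have h4 := two_le hQ hA
      have h5 : 2 * finrank K A ≠ finrank K W := fun e => hW ⟨A, h3, hA.sg, e⟩
      omega
    · obtain ⟨y, hy, x, hx, rfl⟩ := hf g hg
      have h3 : x ∈ omegaGL Q := (Subgroup.mul_mem_cancel_left _ (hle hy)).1 hg
      exact ⟨y, hy, x, (H922.subspaceStabilizer_perp_le hQ W ⟨hx, H925.omegaGL_le_iso Q h3⟩).1, rfl⟩

/-- **[Ti-Q]** -/
theorem boxQ : BoxQ := ⟨ins_p1, ins_p2, ins_o⟩

end Cfsg.Agent.SM.Ti.Q
end
end

-- part: SM/CSc/Sp6
section
prune_inst 0x21103404702200000018058043001c62860000000008880000a002400688ec0200400820a230010000a0004400310040000000804000000000000000011d04810000000610000100220000000000000000000000000000000000000000010004200000000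
set_option linter.all false
open scoped Cfsg.Agent.FastGrp

/-!
# SM / CS (S3570), row `C` (helper53): `PSp₆(q) < Ω₁₃(q)`

* `Rf t u v` : `t` is `-1` on the hyperbolic plane `⟨u, v⟩` and `1` on its complement;
* `four_psp` : `Four q 2 z` in `PSp 3 F`;
* `boxC : BoxC`.
-/

set_option autoImplicit false
set_option linter.unusedSectionVars false

namespace Cfsg.Agent.SM.CS

open Cfsg Matrix Subgroup Module
open Cfsg.Agent.SM.Ti (ap ap_mul ap_one ap_inv_ap ap_ap_inv ap_smul ap_add ap_ne)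
open Cfsg.Agent.ClassicalGeometry.SympBasic Cfsg.Agent.ClassicalGeometry.SympAutSemi
open Cfsg.Agent.H636.SympWreath (blk blk_mul blk_one blk_injective mono)

/-- fixed vectors of an element of prime order -/
theorem fix_modEq {ι : Type} [Fintype ι] [DecidableEq ι] {K : Type} [Field K] [Fintype K] {g : GL ι K} {r : ℕ}
    (hr : r.Prime) (hg : g ^ r = 1) {U : Submodule K (ι → K)} (hU : To g U U) :
    Fintype.card K ^ finrank K U ≡ Fintype.card K ^ finrank K ↥(U ⊓ Es g 1) [MOD r] := by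
  classical
  have := Fact.mk hr
  let φ : Function.End U := fun x => ⟨ap g x, hU x x.2⟩
  have h1 : ∀ n (x : U), ((φ ^ n) x : ι → K) = ap (g ^ n) x := by
    intro n
    induction n with
    | zero => exact fun x => (ap_one _).symm
    | succ n ih => exact fun x => by rw [pow_succ, pow_succ, ap_mul]; exact ih (φ x)
  have h2 := Equiv.Perm.card_fixedPoints_modEq (f := φ) (p := r) (n := 1) (by
    funext x
    exact Subtype.ext (by rw [h1, pow_one, hg, ap_one]; rfl))
  rw [← Nat.card_eq_fintype_card, ← Nat.card_eq_fintype_card, Module.natCard_eq_pow_finrank (K := K) (V := U)] at h2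
  rw [← Nat.card_eq_fintype_card, ← Module.natCard_eq_pow_finrank (K := K) (V := ↥(U ⊓ Es g 1))]
  refine h2.trans (Nat.ModEq.refl _ |>.trans (by
    rw [Nat.card_congr (show φ.fixedPoints ≃ ↥(U ⊓ Es g 1) from
      ⟨fun x => ⟨x.1.1, x.1.2, mem_Es_one.2 (congrArg Subtype.val x.2)⟩,
        fun x => ⟨⟨x.1, x.2.1⟩, Subtype.ext (mem_Es_one.1 x.2.2)⟩, fun _ => rfl, fun _ => rfl⟩)]))

theorem four_dvd {q r d e : ℕ} (hr : r.Prime) (h2 : r ≠ 2) (h : r ∣ q ^ 2 + 1) (hde : q ^ d ≡ q ^ e [MOD r]) :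
    d % 4 = e % 4 := by
  have := Fact.mk hr
  have h0 : (q : ZMod r) ^ 2 = -1 := by
    have h1 := (ZMod.natCast_eq_zero_iff _ _).2 h
    push_cast at h1
    exact eq_neg_of_add_eq_zero_left h1
  have h3 : (-1 : ZMod r) ≠ 1 := by
    have : Fact (2 < r) := ⟨lt_of_le_of_ne hr.two_le h2.symm⟩
    exact ZMod.neg_one_ne_one
  have h4 : orderOf (q : ZMod r) = 2 ^ (1 + 1) :=
    orderOf_eq_prime_pow (by rw [pow_one, h0]; exact h3) (by
      rw [show 2 ^ (1 + 1) = 2 * 2 from rfl, pow_mul, h0, neg_one_sq])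
  have h5 := (ZMod.natCast_eq_natCast_iff _ _ _).2 hde
  push_cast at h5
  have h6 := (isOfFinOrder_iff_pow_eq_one.2 ⟨4, by decide, by
    rw [show 4 = 2 * 2 from rfl, pow_mul, h0, neg_one_sq]⟩ : IsOfFinOrder (q : ZMod r)).pow_eq_pow_iff_modEq.1 h5
  rwa [h4] at h6

namespace C3

variable {F : Type} [Field F] [Fintype F]

local notation "V" => (Fin 3 ⊕ Fin 3 → F)
local notation "G" => Matrix.symplecticGroup (Fin 3) F
local notation "f" => sympForm 3 F
local notation "S" => SpecialLinearGroup (Fin 2) F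

/-- `Sp → GL` -/
def gl : G →* GL (Fin 3 ⊕ Fin 3) F := (spToMat 3 F).toHomUnits

theorem ap_gl (t : G) (x : V) : ap (gl t) x = rho 3 F t x := rfl

theorem ext_rho {t t' : G} (h : ∀ x, rho 3 F t x = rho 3 F t' x) : t = t' := rho_injective (Equiv.ext h)

theorem f_self (x : V) : f x x = 0 := sympBilin_isAlt x

/-- `t` is `-1` on the hyperbolic plane `⟨u, v⟩` and `1` on its complement -/
structure Rf (t : G) (u v : V) : Prop where
  one : f u v = 1
  eq : ∀ x, rho 3 F t x = x - (2 : F) • (f x v • u - f x u • v)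

theorem f_comb {u v : V} (h : f u v = 1) (a b c d : F) : f (a • u + b • v) (c • u + d • v) = a * d - b * c := by
  simp only [sympForm_add_left, sympForm_add_right, sympForm_smul_left, sympForm_smul_right, f_self, h,
    sympForm_swap v u]
  ring

theorem Rf.change {t : G} {u v : V} (h : Rf t u v) {a b c d : F} (e : a * d - b * c = 1) :
    Rf t (a • u + b • v) (c • u + d • v) where
  one := by rw [f_comb h.one, e]
  eq x := by
    rw [h.eq]
    ext i
    simp only [sympForm_add_right, sympForm_smul_right, Pi.add_apply, Pi.sub_apply, Pi.smul_apply, smul_eq_mul]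
    linear_combination (2 * (f x v * u i - f x u * v i)) * e

theorem Rf.uniq {t t' : G} {u v : V} (h : Rf t u v) (h' : Rf t' u v) : t = t' :=
  ext_rho fun x => (h.eq x).trans (h'.eq x).symm

theorem Rf.mem {t : G} {u v : V} (h : Rf t u v) (h2 : (2 : F) ≠ 0) {x : V} :
    x ∈ Es (gl t) (-1) ↔ x = f x v • u + (-f x u) • v := by
  rw [mem_Es_neg, ap_gl, h.eq, sub_eq_iff_eq_add', ← sub_eq_add_neg, eq_sub_iff_add_eq, ← two_smul F x, neg_smul,
    ← sub_eq_add_neg]
  exact (smul_right_injective _ h2).eq_iff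

theorem Rf.comb {t : G} {u v : V} (h : Rf t u v) (h2 : (2 : F) ≠ 0) (a b : F) : a • u + b • v ∈ Es (gl t) (-1) := by
  rw [h.mem h2]
  simp only [sympForm_add_left, sympForm_smul_left, f_self, h.one, sympForm_swap v u]
  simp

theorem comb_inj {u v : V} (h : f u v = 1) {a b c d : F} (e : a • u + b • v = c • u + d • v) : a = c ∧ b = d := by
  have h1 := f_comb h a b 0 1
  have h2 := f_comb h a b 1 0
  rw [e, f_comb h] at h1 h2
  exact ⟨by linear_combination -h1, by linear_combination h2⟩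

theorem Rf.dim {t : G} {u v : V} (h : Rf t u v) (h2 : (2 : F) ≠ 0) : finrank F (Es (gl t) (-1)) = 2 := by
  let L : (F × F) →ₗ[F] Es (gl t) (-1) :=
    ((LinearMap.toSpanSingleton F V u).coprod (LinearMap.toSpanSingleton F V v)).codRestrict _ fun x => h.comb h2 x.1 x.2
  have e := LinearEquiv.ofBijective L ⟨fun x y e => Prod.ext (comb_inj h.one (congrArg Subtype.val e)).1
    (comb_inj h.one (congrArg Subtype.val e)).2, fun x => ⟨(f x v, -f x u), Subtype.ext ((h.mem h2).1 x.2).symm⟩⟩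
  rw [← e.finrank_eq]
  simp

theorem Rf.eq_of {t t' : G} {u v u' v' : V} (h : Rf t u v) (h' : Rf t' u' v') (h2 : (2 : F) ≠ 0)
    (e : Es (gl t') (-1) = Es (gl t) (-1)) : t' = t := by
  have h3 := (h.mem h2).1 (e ▸ h'.comb h2 1 0)
  have h4 := (h.mem h2).1 (e ▸ h'.comb h2 0 1)
  simp only [one_smul, zero_smul, add_zero, zero_add] at h3 h4
  have h5 := h'.one
  rw [h3, h4, f_comb h.one] at h5
  have h6 := h.change h5
  rw [← h3, ← h4] at h6
  exact h'.uniq h6

/-- automorphisms -/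
theorem Rf.aut {t : G} {u v : V} (h : Rf t u v) (φ : MulAut (PSp 3 F)) :
    ∃ (t' : G) (u' v' : V), Rf t' u' v' ∧ φ (QuotientGroup.mk t) = QuotientGroup.mk t' := by
  obtain ⟨g, rfl⟩ := ClassicalGeometry.SympAutExists.exists_semi (by decide) φ
    (ClassicalGeometry.SympAutOddA.recog (by decide) (Or.inl le_rfl) φ)
  obtain ⟨τ, l, hl, h1, h2, h3⟩ := g.2
  refine ⟨conjHom 3 F g t, g.1 u, l⁻¹ • g.1 v, ⟨?_, fun x => ?_⟩, Psi_mk g t⟩
  · rw [sympForm_smul_right, h3, h.one, map_one, mul_one, inv_mul_cancel₀ hl]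
  · obtain ⟨x, rfl⟩ := g.1.surjective x
    rw [rho_conjHom, Equiv.Perm.mul_apply, Equiv.Perm.mul_apply, perm_inv_apply_self, h.eq, sympForm_smul_right, h3, h3,
      show x - (2 : F) • (f x v • u - f x u • v) = x + ((-2 * f x v) • u + (2 * f x u) • v) by module, h1, h1, h2, h2]
    simp only [map_mul, map_neg, map_ofNat]
    ext i
    simp only [Pi.add_apply, Pi.sub_apply, Pi.smul_apply, smul_eq_mul]
    field_simp
    ring

/-- the number of such elements -/
theorem card_rf : {t : G | ∃ u v, Rf t u v}.ncard * (Fintype.card F * (Fintype.card F ^ 2 - 1)) ≤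
    (Fintype.card F ^ 6 - 1) * Fintype.card F ^ 5 := by
  have h1 := LieClassical.SympCount.card_hypPair (sympBilin 3 F) fun x hx => eq_zero_of_forall_sympForm_right hx
  rw [show finrank F V = 6 by simp] at h1
  rw [← h1, ← ClassicalGeometry.PSL2Basic.card_SL2, ← Nat.card_coe_set_eq, ← Nat.card_prod]
  choose u v h using fun t : {t : G | ∃ u v, Rf t u v} => t.2
  have hd : ∀ A : S, A.1 0 0 * A.1 1 1 - A.1 0 1 * A.1 1 0 = 1 := fun A => by rw [← Matrix.det_fin_two, A.2]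
  refine Nat.card_le_card_of_injective (fun x => ⟨(x.2.1 0 0 • u x.1 + x.2.1 0 1 • v x.1,
    x.2.1 1 0 • u x.1 + x.2.1 1 1 • v x.1), ((h x.1).change (hd x.2)).one⟩) ?_
  rintro ⟨t, A⟩ ⟨t', A'⟩ e
  obtain ⟨e1, e2⟩ := Prod.mk.inj (congrArg Subtype.val e)
  have h3 := (h t).change (hd A)
  dsimp only at e1 e2
  rw [e1, e2] at h3
  obtain rfl : t = t' := Subtype.ext (h3.uniq ((h t').change (hd A')))
  have h4 := comb_inj (h t).one e1
  have h5 := comb_inj (h t).one e2
  congr 1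
  ext i j
  fin_cases i <;> fin_cases j
  exacts [h4.1, h4.2, h5.1, h5.2]

theorem sq_of_center {c : G} (hc : c ∈ center G) : c * c = 1 := by
  obtain ⟨a, ha⟩ := (LieClassical.SympCenter.mem_center_iff 3 c).1 hc
  have h1 := LieClassical.SympCenter.sq_eq_one_of_smul_mem (m := 3) (by decide) (ha ▸ c.2)
  refine Subtype.ext ?_
  rw [Submonoid.coe_mul, ha, smul_mul_smul_comm, h1, one_smul, one_mul]
  rfl

/-- **an element of order `r ∣ q ^ 2 + 1` centralises only one such involution** -/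
theorem Rf.eq_of_comm {t t' : G} {u v u' v' : V} (h : Rf t u v) (h' : Rf t' u' v') (h2 : (2 : F) ≠ 0) {r : ℕ}
    (hr : r.Prime) (hr2 : r ≠ 2) (hq : r ∣ Fintype.card F ^ 2 + 1) {g : PSp 3 F} (hg : orderOf g = r)
    (e : g * QuotientGroup.mk t = QuotientGroup.mk t * g) (e' : g * QuotientGroup.mk t' = QuotientGroup.mk t' * g) :
    t' = t := by
  obtain ⟨k, hk⟩ := hr.odd_of_ne_two hr2
  obtain ⟨x, rfl, hx⟩ : ∃ x : G, QuotientGroup.mk x = g ∧ x ^ r = 1 := by
    obtain ⟨y, rfl⟩ := QuotientGroup.mk_surjective g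
    have h1 : (QuotientGroup.mk (y ^ r) : PSp 3 F) = 1 := by rw [QuotientGroup.mk_pow, ← hg, pow_orderOf_eq_one]
    refine ⟨y ^ (r + 1), by rw [pow_succ, QuotientGroup.mk_mul, h1, one_mul], ?_⟩
    rw [← pow_mul, mul_comm, pow_mul, show r + 1 = 2 * (k + 1) by omega, pow_mul, pow_two,
      sq_of_center ((QuotientGroup.eq_one_iff _).1 h1), one_pow]
  have key : ∀ {s : G} {a b : V}, Rf s a b →
      (QuotientGroup.mk x : PSp 3 F) * QuotientGroup.mk s = QuotientGroup.mk s * QuotientGroup.mk x →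
      Es (gl s) (-1) ≤ Es (gl x) 1 := by
    intro s a b hs e
    have h1 : x⁻¹ * (s⁻¹ * x * s) ∈ center G := by
      rw [← QuotientGroup.eq, QuotientGroup.mk_mul, QuotientGroup.mk_mul, mul_assoc, e, QuotientGroup.mk_inv,
        inv_mul_cancel_left]
    have h3 : (x⁻¹ * (s⁻¹ * x * s)) ^ r = 1 := by
      have h4 : (x * (x⁻¹ * (s⁻¹ * x * s))) ^ r = 1 := by
        rw [mul_inv_cancel_left, ← inv_inv s, inv_inv s⁻¹, conj_pow, hx, mul_one, mul_inv_cancel]
      rwa [Commute.mul_pow (mem_center_iff.1 h1 x), hx, one_mul] at h4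
    rw [hk, pow_succ, pow_mul, pow_two, sq_of_center h1, one_pow, one_mul, inv_mul_eq_one, mul_assoc,
      eq_inv_mul_iff_mul_eq] at h3
    have h5 := four_dvd hr hr2 hq (fix_modEq hr (by rw [← map_pow, hx, map_one])
      (to_Es (g := gl x) (s := gl s) (s' := gl s) (by rw [← map_mul, ← map_mul, h3]) (-1)))
    have h6 := Submodule.finrank_mono (inf_le_left : Es (gl s) (-1) ⊓ Es (gl x) 1 ≤ _)
    have h7 := hs.dim h2
    exact inf_eq_left.1 (Submodule.eq_of_le_of_finrank_eq inf_le_left (by (clear * - h5 h6 h7; omega)))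
  have h5 := four_dvd hr hr2 hq (fix_modEq (g := gl x) (U := ⊤) hr (by rw [← map_pow, hx, map_one]) fun _ _ => trivial)
  rw [top_inf_eq, finrank_top, show finrank F V = 6 by simp] at h5
  have h6 : finrank F (Es (gl x) 1) < finrank F V := by
    refine Submodule.finrank_lt fun h7 => hr.one_lt.ne' ?_
    have h8 : x = 1 := ext_rho fun y => (mem_Es_one.1 (h7 ▸ Submodule.mem_top : y ∈ Es (gl x) 1)).trans (by simp)
    rw [← hg, h8, QuotientGroup.mk_one, orderOf_one]
  rw [show finrank F V = 6 by simp] at h6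
  have h7 := h.dim h2
  have h8 := h'.dim h2
  have h9 := Submodule.finrank_mono (key h e)
  exact h.eq_of h' h2 ((Submodule.eq_of_le_of_finrank_eq (key h' e') (by omega)).trans
    (Submodule.eq_of_le_of_finrank_eq (key h e) (by omega)).symm)

/-! ### the elements -/

/-- the elements of `SL₂ ≀ S₃` modulo `± 1` -/
def bk (σ : Equiv.Perm (Fin 3)) (A : Fin 3 → S) : PSp 3 F := QuotientGroup.mk (blk σ A)

theorem bk_mul (σ τ : Equiv.Perm (Fin 3)) (A B : Fin 3 → S) :
    bk σ A * bk τ B = bk (σ * τ) fun j => A (τ j) * B j := by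
  rw [bk, bk, ← QuotientGroup.mk_mul, blk_mul, bk]

theorem coe_blk_neg : ((blk 1 fun _ => (-1 : S) : G) : Matrix (Fin 3 ⊕ Fin 3) (Fin 3 ⊕ Fin 3) F) = (-1 : F) • 1 := by
  ext i j
  rcases i with i | i <;> rcases j with j | j <;> simp [blk, mono, Matrix.one_apply]

theorem bk_one : bk 1 (fun _ => (1 : S)) = 1 := congrArg QuotientGroup.mk blk_one

theorem bk_neg_one : bk 1 (fun _ => (-1 : S)) = 1 :=
  (QuotientGroup.eq_one_iff _).2 ((LieClassical.SympCenter.mem_center_iff 3 _).2 ⟨-1, coe_blk_neg⟩)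

theorem bk_eq {σ τ : Equiv.Perm (Fin 3)} {A B : Fin 3 → S} (e : σ = τ) (h : (∀ j, A j = B j) ∨ ∀ j, A j = -B j) :
    bk σ A = bk τ B := by
  subst e
  rcases h with h | h
  · rw [funext h]
  · rw [← mul_one (bk σ B), ← bk_neg_one, bk_mul, funext h]
    simp

theorem rf_z : Rf (blk 1 ![-1, 1, 1] : G) (Pi.single (Sum.inr 0) 1) (Pi.single (Sum.inl 0) 1) where
  one := by rw [sympForm_single_inr_left, Pi.single_eq_same]
  eq x := by
    rw [sympForm_single_inl_right, sympForm_single_inr_right, rho_apply]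
    ext i
    rcases i with i | i <;> (revert i; simp only [blk, mono, Matrix.mulVec, dotProduct, Fintype.sum_sum_type, Fin.sum_univ_three, _root_.Fin.forall_fin_succ, _root_.Equiv.Perm.coe_one, _root_.id_eq, Fin.isValue, _root_.Matrix.fromBlocks_apply₁₁, _root_.Matrix.of_apply, _root_.Matrix.cons_val_zero, _root_.Matrix.SpecialLinearGroup.coe_neg, _root_.Matrix.SpecialLinearGroup.coe_one, _root_.Matrix.neg_apply, _root_.Matrix.one_apply_eq, _root_.ite_mul, _root_.neg_mul, _root_.one_mul, _root_.MulZeroClass.zero_mul, _root_.Matrix.cons_val_one, _root_.Matrix.cons_val, _root_.Matrix.fromBlocks_apply₁₂, _root_.ne_eq, _root_.zero_ne_one, _root_.not_false_eq_true, _root_.Matrix.one_apply_ne, _root_.neg_zero, _root_.ite_self, _root_.add_zero, _root_.neg_smul, _root_.sub_neg_eq_add, _root_.smul_add, _root_.Pi.sub_apply, _root_.Pi.add_apply, _root_.Pi.smul_apply, reduceCtorEq, _root_.Pi.single_eq_of_ne, _root_.smul_eq_mul, _root_.MulZeroClass.mul_zero,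 _root_.zero_add, ↓reduceIte, Fin.reduceEq, _root_.Pi.single_eq_same, _root_.mul_one, _root_.Fin.succ_ne_zero, _root_.Sum.inl.injEq, _root_.sub_zero, _root_.Fin.succ_zero_eq_one, _root_.Fin.succ_one_eq_two, _root_.IsEmpty.forall_iff, _root_.and_self, _root_.and_true, _root_.Matrix.fromBlocks_apply₂₁, _root_.one_ne_zero, _root_.Matrix.fromBlocks_apply₂₂, _root_.Sum.inr.injEq]) <;> (repeat' with_reducible apply And.intro) <;> ring

theorem exists_ij : ∃ i j : S, i * i = -1 ∧ j * i = -(i * j) := by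
  obtain ⟨p, hp⟩ := CharP.exists F
  have : NeZero p := ⟨(CharP.char_is_prime F p).ne_zero⟩
  obtain ⟨a, b, hab⟩ := CharP.sq_add_sq F p (-1)
  push_cast at hab
  refine ⟨⟨!![0, -1; 1, 0], by simp [Matrix.det_fin_two]⟩, ⟨!![a, b; b, -a], by
    rw [Matrix.det_fin_two_of]; linear_combination -hab⟩, Subtype.ext ?_, Subtype.ext ?_⟩
  · show (!![0, -1; 1, 0] * !![0, -1; 1, 0] : Matrix (Fin 2) (Fin 2) F) = -1
    ext i j
    (revert i j; simp only [_root_.Fin.forall_fin_succ, _root_.Matrix.cons_mul, _root_.Nat.succ_eq_add_one, Nat.reduceAdd, _root_.Matrix.vecMul_cons, _root_.Matrix.head_cons, _root_.zero_smul, _root_.Matrix.tail_cons, _root_.neg_smul, _root_.one_smul, _root_.Matrix.neg_cons, _root_.neg_zero, _root_.Matrix.neg_empty, _root_.Matrix.empty_vecMul, _root_.add_zero, _root_.zero_add, _root_.Matrix.empty_mul, _root_.Equiv.symm_apply_apply, _root_.Matrix.of_apply, _root_.Matrix.cons_val', _root_.Matrix.cons_val_fin_one, _root_.Matrix.neg_apply,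 Fin.isValue, _root_.Matrix.cons_val_zero, _root_.Matrix.cons_val_succ, _root_.IsEmpty.forall_iff, _root_.and_true, _root_.Matrix.one_apply_eq, _root_.Fin.succ_zero_eq_one, _root_.ne_eq, _root_.zero_ne_one, _root_.not_false_eq_true, _root_.Matrix.one_apply_ne, _root_.and_self, _root_.Fin.succ_ne_zero, _root_.neg_inj, _root_.true_and])
  · show (!![(a : F), b; b, -a] * !![0, -1; 1, 0] : Matrix (Fin 2) (Fin 2) F) = -(!![0, -1; 1, 0] * !![(a : F), b; b, -a])
    ext i j
    (revert i j; simp only [_root_.Fin.forall_fin_succ, _root_.Matrix.cons_mul, _root_.Nat.succ_eq_add_one, Nat.reduceAdd, _root_.Matrix.vecMul_cons, _root_.Matrix.head_cons, _root_.Matrix.smul_cons, _root_.smul_eq_mul, _root_.MulZeroClass.mul_zero, _root_.mul_neg, _root_.mul_one, _root_.Matrix.smul_empty, _root_.Matrix.tail_cons, _root_.Matrix.empty_vecMul, _root_.add_zero, _root_.Matrix.add_cons, _root_.zero_add, _root_.Matrix.empty_add_empty, _root_.neg_smul, _root_.Matrix.neg_cons,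 _root_.neg_zero, _root_.Matrix.neg_empty, _root_.Matrix.empty_mul, _root_.Equiv.symm_apply_apply, _root_.Matrix.of_apply, _root_.Matrix.cons_val', _root_.Matrix.cons_val_fin_one, _root_.zero_smul, _root_.one_smul, _root_.neg_neg, _root_.Matrix.neg_apply, Fin.isValue, _root_.Matrix.cons_val_zero, _root_.Matrix.cons_val_succ, _root_.forall_const, _root_.and_self, _root_.implies_true])

theorem bk_ne (h2 : (2 : F) ≠ 0) : bk 1 ![1, 1, (-1 : S)] ≠ bk 1 ![-1, 1, 1] := by
  intro h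
  obtain ⟨a, ha⟩ := (LieClassical.SympCenter.mem_center_iff 3 _).1 ((QuotientGroup.eq_one_iff _).1
    (show bk 1 ![-1, 1, (-1 : S)] = 1 by
      rw [← (show bk 1 ![-1, 1, (1 : S)] * bk 1 ![-1, 1, 1] = 1 by
        rw [bk_mul, ← bk_one]
        exact bk_eq (mul_one _) (Or.inl fun j => by (revert j; simp only [_root_.Fin.forall_fin_succ, _root_.Equiv.Perm.coe_one, _root_.id_eq, Fin.isValue, _root_.Matrix.cons_val_zero, _root_.mul_neg, _root_.mul_one, _root_.neg_neg, _root_.Matrix.cons_val_succ, _root_.Matrix.cons_val_fin_one, _root_.implies_true, _root_.and_self])))]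
      nth_rewrite 1 [← h]
      rw [bk_mul]
      exact bk_eq (mul_one _).symm (Or.inl fun j => by (revert j; simp only [_root_.Fin.forall_fin_succ, _root_.Equiv.Perm.coe_one, _root_.id_eq, Fin.isValue, _root_.Matrix.cons_val_zero, _root_.mul_neg, _root_.mul_one, _root_.Matrix.cons_val_succ, _root_.left_eq_mul, _root_.Matrix.cons_val_fin_one, _root_.implies_true, _root_.and_self]))))
  have h3 := congrFun (congrFun ha (Sum.inl 0)) (Sum.inl 0)
  have h4 := congrFun (congrFun ha (Sum.inl 1)) (Sum.inl 1)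
  simp only [blk, mono, _root_.Equiv.Perm.coe_one, _root_.id_eq, _root_.Fin.isValue, _root_.Matrix.fromBlocks_apply₁₁, _root_.Matrix.of_apply, ↓ _root_.reduceIte, _root_.Matrix.cons_val_zero, _root_.Matrix.SpecialLinearGroup.coe_neg, _root_.Matrix.SpecialLinearGroup.coe_one, _root_.Matrix.neg_apply, _root_.Matrix.one_apply_eq, _root_.Matrix.smul_apply, _root_.smul_eq_mul, _root_.mul_one, _root_.Matrix.cons_val_one] at h3 h4
  exact h2 (by linear_combination h4 - h3)

theorem xs_z {i j : S} (hi : i * i = -1) (hji : j * i = -(i * j)) :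
    Xs 2 (bk 1 ![-1, 1, 1]) ![bk 1 ![1, 1, -1], bk 1 ![i, i, i]] ![bk (Equiv.swap 1 2) ![1, 1, 1], bk 1 ![j, 1, 1]]
      (bk 1 ![j, j, j]) (bk 1 ![i, 1, 1]) := by
  have s0 : Equiv.swap (1 : Fin 3) 2 0 = 0 := by decide
  constructor
  all_goals simp only [Fin.forall_fin_two, Matrix.cons_val_zero, Matrix.cons_val_one, bk_mul, ← bk_one, ne_eq,
    not_true_eq_false, IsEmpty.forall_iff, true_and, and_true, zero_ne_one, one_ne_zero, not_false_eq_true,
    forall_true_left]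
  all_goals repeat' apply And.intro
  all_goals first
    | (refine bk_eq (by simp) (Or.inl fun k => ?_); fin_cases k <;> (simp [hi, hji, s0]; done))
    | (refine bk_eq (by simp) (Or.inr fun k => ?_); (revert k; simp only [hi, hji, s0, _root_.Fin.forall_fin_succ, _root_.Equiv.Perm.coe_one, _root_.id_eq, Fin.isValue, _root_.one_mul, _root_.Matrix.cons_val_zero, _root_.mul_one, _root_.neg_neg, _root_.Matrix.cons_val_succ, _root_.Fin.succ_zero_eq_one, _root_.Equiv.swap_apply_left, _root_.Matrix.cons_val, _root_.mul_neg, _root_.Matrix.cons_val_fin_one, _root_.neg_inj, _root_.Fin.succ_one_eq_two, _root_.Equiv.swap_apply_right, _root_.Matrix.cons_val_one, _root_.IsEmpty.forall_iff, _root_.and_self, _root_.implies_true]))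

/-- **the data for `PSp₆(q)`** -/
theorem four_psp (hq : Odd (Fintype.card F)) : Four (Fintype.card F) 2 (bk 1 ![-1, 1, (1 : S)]) := by
  have h2 : (2 : F) ≠ 0 := Ring.two_ne_zero fun e => by
    have h1 := FiniteField.even_card_of_char_two e
    have h2 := Nat.odd_iff.1 hq
    omega
  obtain ⟨i, j, hi, hji⟩ := exists_ij (F := F)
  have s0 : Equiv.swap (1 : Fin 3) 2 0 = 0 := by decide
  have s1 : Equiv.swap (0 : Fin 3) 2 1 = 1 := by decide
  refine ⟨?_, ⟨bk 1 ![1, 1, -1], bk (Equiv.swap 1 2) ![1, 1, 1], bk (Equiv.swap 0 2) ![1, 1, 1], bk 1 ![1, 1, i],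
    bk_ne h2, ?_⟩, ⟨2, _, _, _, _, rfl, xs_z hi hji⟩, ?_, ?_⟩
  · rw [bk_mul, ← bk_one]
    exact bk_eq (mul_one _) (Or.inl fun j => by (revert j; simp only [_root_.Fin.forall_fin_succ, _root_.Equiv.Perm.coe_one, _root_.id_eq, Fin.isValue, _root_.Matrix.cons_val_zero, _root_.mul_neg, _root_.mul_one, _root_.neg_neg, _root_.Matrix.cons_val_succ, _root_.Matrix.cons_val_fin_one, _root_.implies_true, _root_.and_self]))
  · simp only [bk_mul]
    refine ⟨?_, ?_, ?_, ?_, ?_, ?_⟩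
    all_goals first
      | (refine bk_eq (by simp) (Or.inl fun k => ?_); fin_cases k <;> (simp [hi, s0, s1]; done))
      | (refine bk_eq (by simp) (Or.inr fun k => ?_); (revert k; simp only [s0, _root_.Fin.forall_fin_succ, _root_.Equiv.Perm.coe_one, _root_.id_eq, Fin.isValue, _root_.one_mul, _root_.Matrix.cons_val_zero, _root_.mul_one, _root_.neg_neg, _root_.Matrix.cons_val_succ, _root_.Fin.succ_zero_eq_one, _root_.Equiv.swap_apply_left, _root_.Matrix.cons_val, _root_.mul_neg, _root_.Matrix.cons_val_fin_one, _root_.neg_inj, _root_.Fin.succ_one_eq_two, _root_.Equiv.swap_apply_right, _root_.Matrix.cons_val_one, _root_.IsEmpty.forall_iff, _root_.and_self]))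
  · have h1 : {x | ∃ φ : MulAut (PSp 3 F), φ (bk 1 ![-1, 1, (1 : S)]) = x}.ncard ≤ {t : G | ∃ u v, Rf t u v}.ncard := by
      refine le_trans (Set.ncard_le_ncard (t := QuotientGroup.mk '' {t : G | ∃ u v, Rf t u v}) ?_) Set.ncard_image_le
      rintro _ ⟨φ, rfl⟩
      obtain ⟨t, u, v, h, e⟩ := rf_z.aut φ
      exact ⟨t, ⟨u, v, h⟩, e.symm⟩
    refine (Nat.mul_le_mul_right _ h1).trans (Nat.le_of_mul_le_mul_left ?_ (Fintype.card_pos (α := F)))
    refine le_of_eq_of_le (by ring) (card_rf.trans (le_of_eq (by ring)))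
  · have h3 : 1 < Fintype.card F := Fintype.one_lt_card
    obtain ⟨k, hk⟩ := hq
    have h4 : Fintype.card F ^ 2 + 1 = 2 * (2 * (k * k + k) + 1) := by rw [hk]; ring
    obtain ⟨r, hr, h5⟩ := Nat.exists_prime_and_dvd (n := 2 * (k * k + k) + 1) (by
      have : 0 < k := by omega
      omega)
    have h6 : r ≠ 2 := by
      rintro rfl
      omega
    have h7 : r ∣ Fintype.card F ^ 2 + 1 := h4 ▸ h5.mul_left 2
    refine ⟨r, hr, h6, h7, ?_, fun g φ hg e e' => ?_⟩
    · have h8 := card_eq_card_quotient_mul_card_subgroup (center G)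
      rw [LieClassical.SympCount.card_symplecticGroup, LieClassical.SympCenter.card_center (by decide)] at h8
      have h9 : r ∣ Nat.card (PSp 3 F) * Nat.gcd 2 (Fintype.card F - 1) := by
        rw [← h8]
        refine Dvd.dvd.mul_left (Dvd.dvd.trans ?_ (Finset.dvd_prod_of_mem _ (a := 1) (by decide))) _
        refine h7.trans ?_
        have := Nat.sq_sub_sq (Fintype.card F ^ 2) 1
        rw [← pow_mul, one_pow] at this
        exact this ▸ Dvd.intro _ rfl
      exact (hr.dvd_mul.1 h9).resolve_right fun h10 =>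
        h6 ((Nat.prime_dvd_prime_iff_eq hr Nat.prime_two).1 (h10.trans (Nat.gcd_dvd_left _ _)))
    · obtain ⟨t, u, v, h, e1⟩ := rf_z.aut φ
      rw [bk] at e e' ⊢
      rw [e1] at e' ⊢
      rw [rf_z.eq_of_comm h h2 hr h6 h7 hg e e']

end C3

/-- **[CS-C]** -/
theorem boxC : BoxC := by
  rintro n K _ _ k q m B Sg G X Y P h ⟨rfl, rfl, F, _, _, rfl, ⟨e⟩⟩
  obtain ⟨Q, v, -, hv⟩ := h.sph.pt
  exact inv_of_four (k := 2) h le_rfl e (C3.four_psp hv.odd)

end Cfsg.Agent.SM.CS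

private theorem dce_125df101d63e : _root_.True := by
  try have : _root_.True := by simp only [_root_.Cfsg.Agent.H636.SympWreath.mono.eq_1]
  try have : _root_.True := by simp only [_root_.Cfsg.Agent.H636.SympWreath.blk.eq_1]
  try have : _root_.True := by simp only [_root_.Cfsg.Agent.SM.CS.C3.bk.eq_1]
  exact _root_.True.intro
end

-- part: SM/Ex/FDefs
section
set_option linter.all false

/-!
# S3570, `S = F₄(q)`, `E₆(2)`, `²E₆(2)`: the table and the boxes (helper93, plan in `notes/SM/exc.md`)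

* `tabF4` : the row `³D₄(q) < F₄(q)` on the cosets of `Sp₈(q)`, `q = 2 ^ a`, `k = 1`;
* `LocF`, `LocK` : the local structure of `F₄(2 ^ a)` and of `Sp₈(2 ^ a)` (that of `³D₄(2 ^ a)` is `SM.D4.Loc`);
* `Row` : the shape of a factorisation;
* boxes `BoxF`, `BoxK`, `BoxTwo`, `BoxRk`, `BoxOd`, `BoxG`, `BoxId`, `BoxAsm`.
-/

set_option autoImplicit false

namespace Cfsg.Agent.SM.Ex

open Cfsg Cfsg.Lie Subgroup Cfsg.Agent.SM.Ex78 Cfsg.Agent.OrdDiv

/-- the classification, as a hypothesis -/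
def Cf : Prop := ∀ (S : Type) [Group S] [Finite S] [IsSimpleGroup S], IsKnownSimple' S

/-- the family `F₄(q)` -/
def fF4 : Fam := fun S _ => IsoF4 S

/-- the row `³D₄(q) < F₄(q)`, `q = 2 ^ a` -/
def tabF4 : Tab := fun t n k => ∃ a : ℕ, 1 ≤ a ∧
  t = (2 ^ a) ^ 12 * (((2 ^ a) ^ 2 - 1) * ((2 ^ a) ^ 6 - 1) * ((2 ^ a) ^ 8 + (2 ^ a) ^ 4 + 1)) ∧
  n = (2 ^ a) ^ 8 * ((2 ^ a) ^ 8 + (2 ^ a) ^ 4 + 1) ∧ k = 1

/-- the conjugate `g H g⁻¹` -/
def cj {G : Type*} [Group G] (g : G) (H : Subgroup G) : Subgroup G := H.map (MulAut.conj g).toMonoidHom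

/-- the order of `Sp₆(q)` -/
def o6 (q : ℕ) : ℕ := q ^ 9 * ((q ^ 2 - 1) * (q ^ 4 - 1) * (q ^ 6 - 1))

/-- The local structure of `F₄(q)`, `q` even: `Z`, `Zm` opposite long root groups, `Q = O₂(N(Z))`, `γ` the graph
automorphism. -/
structure LocF (q : ℕ) {S : Type} [Group S] (γ : S ≃* S) (Z Zm Q : Subgroup S) : Prop where
  cardZ : Nat.card Z = q
  cardQ : Nat.card Q = q ^ 15
  pQ : IsPGroup 2 Q
  com : ⁅Q, Q⁆ ≤ Z
  ZQ : Z ≤ Q ⊓ centralizer (Q : Set S)
  cardR : q ^ 7 ≤ Nat.card ↥(Q ⊓ centralizer (Q : Set S))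
  nZ : normalizer (Z : Set S) = normalizer (Q : Set S)
  der : ⁅normalizer (Z : Set S), normalizer (Z : Set S)⁆ ≤ centralizer (Z : Set S)
  cardC : Nat.card ↥(centralizer (Z : Set S)) ≤ q ^ 15 * o6 q
  QZm : Q ⊓ centralizer (Zm : Set S) = ⊥
  opp : ∀ g : S, ¬ IsPGroup 2 ↥(Z ⊔ cj g Z) → ∃ x ∈ Q, cj (x * g) Z = Zm
  bt : ∀ R A : Subgroup S, IsPGroup 2 R → R ≠ ⊥ → A ≤ normalizer (R : Set S) → IsSimpleGroup A →
    q ^ 3 * (q ^ 6 - 1) ∣ Nat.card A → ∃ g : S, (cj g R ≤ Q ∧ cj g A ≤ normalizer (Q : Set S)) ∨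
      (cj g (R.map γ.toMonoidHom) ≤ Q ∧ cj g (A.map γ.toMonoidHom) ≤ normalizer (Q : Set S))
  eleven : ∃ g : S, q ^ 11 ≤ Nat.card ↥(((Q ⊓ centralizer (Q : Set S)) ⊔
    (centralizer (Z : Set S) ⊓ centralizer (Zm : Set S))) ⊓ cj g (Q.map γ.toMonoidHom))

/-- The local structure of `Sp₈(q)`, `q` even: `Z`, `Zm` opposite transvection groups, `R = O₂(N(Z))`, `L = Sp₆(q)`. -/
structure LocK (F : Type) [Field F] (q : ℕ) {K : Type} [Group K] (Z Zm R L : Subgroup K) : Prop where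
  cardZ : Nat.card Z = q
  cardR : Nat.card R = q ^ 7
  pR : IsPGroup 2 R
  nR : L ≤ normalizer (R : Set K)
  cen : R ⊓ centralizer (L : Set K) ≤ Z
  cL : L ≤ centralizer (Z : Set K) ⊓ centralizer (Zm : Set K)
  iso : Nonempty (L ≃* Matrix.symplecticGroup (Fin 3) F)
  gen : ∃ w : K, cj w Z = Zm ∧ R ⊔ cj w R = ⊤
  np : ¬ IsPGroup 2 ↥(Z ⊔ Zm)

/-- `X` is `³D₄(q)` or `³D₄(q).3` and `Y` is `Sp₈(q)`, `q` even -/
def Row (q : ℕ) {S : Type} [Group S] (X Y : Subgroup S) : Prop :=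
  (∃ a, 1 ≤ a ∧ q = 2 ^ a) ∧ (∃ D ≤ X, X ≤ normalizer (D : Set S) ∧ Real (.td4 q) D ∧
    (Nat.card X = Nat.card D ∨ Nat.card X = 3 * Nat.card D)) ∧ Real (.psp 4 q) Y

/-- box: `PSp₈(q)` and `Ω₉(q)` are not subgroups of `F₄(q)`, `q` odd (the 2-rank of `F₄(q)` is five) -/
def BoxRk : Prop := ∀ (F : Type) [Field F] [Fintype F], Odd (Fintype.card F) → ∀ Y : Subgroup ↥(chevF4.group F),
  ¬ Real (.psp 4 (Fintype.card F)) Y ∧ ¬ Real (.oodd 4 (Fintype.card F)) Y

/-- box: `F₄(q)`, `q` odd, is not the product of `³D₄(q)` and `Spin₉(q)` -/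
def BoxOd : Prop := ∀ (F : Type) [Field F] [Fintype F], Odd (Fintype.card F) →
  ∀ (D : Subgroup ↥(chevF4.group F)) (z : ↥(chevF4.group F)), Real (.td4 (Fintype.card F)) D → orderOf z = 2 →
    Nat.card ↥(centralizer ({z} : Set ↥(chevF4.group F))) = Fintype.card F ^ 16 * (Fintype.card F ^ 2 - 1) *
      (Fintype.card F ^ 4 - 1) * (Fintype.card F ^ 6 - 1) * (Fintype.card F ^ 8 - 1) →
    ¬ Pd D (centralizer ({z} : Set ↥(chevF4.group F)))

/-- box: `G₂(4)` is not a subgroup of `F₄(2)` -/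
def BoxG : Prop := ∀ (F : Type) [Field F] [Fintype F], Fintype.card F = 2 → ∀ X : Subgroup ↥(chevF4.group F),
  ¬ Real (.g2 4) X

/-- box: the factorisations of `F₄(q)` with a simple factor -/
def BoxId : Prop := ∀ (F : Type) [Field F] [Fintype F] (T Y : Subgroup ↥(chevF4.group F)), IsSimpleGroup T → T ≠ ⊤ →
  Y ≠ ⊤ → Pd T Y → Row (Fintype.card F) T Y ∨ Row (Fintype.card F) Y T

end Cfsg.Agent.SM.Ex
end

-- part: SM/Alt/MatA
section
prune_inst 0x10000000000000
set_option linter.all false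
open scoped Cfsg.Agent.FastGrp

/-!
# SM (S3570), alternating socle: tools for the uniqueness of 2-transitive actions (helper61)
-/

set_option autoImplicit false

namespace Cfsg.Agent.SM.Alt.Mat

open Cfsg Equiv Subgroup MulAction
open Cfsg.Agent.H561.PPow (RowAt)

variable {T T' : Type} [Group T] [Group T'] {c : ℕ}

section act

variable {Δ : Type} [MulAction T Δ]

theorem nontriv (h : Act T Δ c) (hc : 2 ≤ c) : Nontrivial Δ := by
  have := h.fin
  exact Finite.one_lt_card_iff_nontrivial.1 (by rw [h.card]; omega)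

theorem trans (h : Act T Δ c) (hc : 2 ≤ c) (a x : Δ) : ∃ t : T, t • a = x := by
  have := nontriv h hc
  obtain ⟨b, hb⟩ := exists_ne a
  obtain ⟨y, hy⟩ := exists_ne x
  obtain ⟨t, ht, -⟩ := h.two a b x y hb.symm hy.symm
  exact ⟨t, ht⟩

theorem index (h : Act T Δ c) (hc : 2 ≤ c) (a : Δ) : (stabilizer T a).index = c := by
  have : IsPretransitive T Δ := ⟨trans h hc⟩
  rw [index_stabilizer_of_transitive, h.card]

theorem inj (h : Act T Δ c) : Function.Injective (toPermHom T Δ) :=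
  (injective_iff_map_eq_one _).2 fun t ht => h.faith t fun x => by
    have := congrArg (fun π : Perm Δ => π x) ht
    exact this

theorem conj_smul (u t : T) (a : Δ) : (u * t * u⁻¹) • a = a ↔ t • u⁻¹ • a = u⁻¹ • a := by
  rw [mul_smul, mul_smul, smul_eq_iff_eq_inv_smul]

/-- the action on a relabelled set -/
def rep {β : Type} (ε : Δ ≃ β) : T →* Perm β := (ε.permCongrHom).toMonoidHom.comp (toPermHom T Δ)

theorem rep_apply {β : Type} (ε : Δ ≃ β) (t : T) (x : Δ) : rep ε t (ε x) = ε (t • x) := by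
  show ε (t • ε.symm (ε x)) = _
  rw [ε.symm_apply_apply]

theorem rep_inj (h : Act T Δ c) {β : Type} (ε : Δ ≃ β) : Function.Injective (rep ε : T →* Perm β) :=
  (ε.permCongrHom).injective.comp (inj h)

theorem rep_trans {β : Type} (ε : Δ ≃ β) (σ : Perm β) (t : T) : rep (ε.trans σ) t = σ * rep ε t * σ⁻¹ := by
  ext x
  rfl

theorem range_trans {β : Type} (ε : Δ ≃ β) (σ : Perm β) :
    (rep (ε.trans σ) : T →* Perm β).range = (rep ε : T →* Perm β).range.map (MulAut.conj σ).toMonoidHom := by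
  ext π
  constructor
  · rintro ⟨t, rfl⟩
    exact ⟨_, ⟨t, rfl⟩, (rep_trans ε σ t).symm⟩
  · rintro ⟨_, ⟨t, rfl⟩, rfl⟩
    exact ⟨t, rep_trans ε σ t⟩

theorem cycleType_eq {β : Type} [Fintype β] [DecidableEq β] {p : ℕ} (hp : p.Prime) (hn : Fintype.card β < 2 * p)
    {σ : Perm β} (h : orderOf σ = p) : σ.cycleType = {p} := by
  obtain ⟨m, hm⟩ := Perm.cycleType_prime_order (σ := σ) (by rw [h]; exact hp)
  rw [h] at hm
  have hsum : σ.cycleType.sum ≤ Fintype.card β := by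
    rw [Perm.sum_cycleType]
    exact Finset.card_le_univ σ.support
  rw [hm, Multiset.sum_replicate, smul_eq_mul] at hsum
  have hm0 : m = 0 := by
    by_contra hne
    have : 2 ≤ m + 1 := by omega
    have := Nat.mul_le_mul_right p this
    omega
  rw [hm, hm0]
  rfl

/-- a labelling with a given `p`-cycle in the image -/
theorem exists_lab [Finite T] (h : Act T Δ c) {p : ℕ} (hp : p.Prime) (hT : p ∣ Nat.card T) (hc : c < 2 * p)
    {t : Perm (Fin c)} (ht : orderOf t = p) : ∃ ε : Δ ≃ Fin c, t ∈ (rep ε : T →* Perm (Fin c)).range := by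
  have := h.fin
  have : Fact p.Prime := ⟨hp⟩
  let ε : Δ ≃ Fin c := Finite.equivFinOfCardEq h.card
  obtain ⟨g, hg⟩ := exists_prime_orderOf_dvd_card' p hT
  have h1 : orderOf (rep ε g) = p := by rw [orderOf_injective _ (rep_inj h ε), hg]
  have h2 : IsConj (rep ε g) t := by
    rw [Perm.isConj_iff_cycleType_eq, cycleType_eq hp (by rw [Fintype.card_fin]; exact hc) h1,
      cycleType_eq hp (by rw [Fintype.card_fin]; exact hc) ht]
  obtain ⟨σ, hσ⟩ := isConj_iff.1 h2
  exact ⟨ε.trans σ, g, by rw [rep_trans, hσ]⟩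

theorem rep_tr (h : Act T Δ c) (hc : 2 ≤ c) {β : Type} (ε : Δ ≃ β) (x y : β) :
    ∃ g ∈ (rep ε : T →* Perm β).range, g x = y := by
  obtain ⟨t, ht⟩ := trans h hc (ε.symm x) (ε.symm y)
  refine ⟨_, ⟨t, rfl⟩, ?_⟩
  have h1 := rep_apply ε t (ε.symm x)
  rwa [ht, ε.apply_symm_apply, ε.apply_symm_apply] at h1

theorem card_range (h : Act T Δ c) {β : Type} (ε : Δ ≃ β) : Nat.card (rep ε : T →* Perm β).range = Nat.card T :=
  (Nat.card_congr (MonoidHom.ofInjective (rep_inj h ε)).toEquiv).symm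

end act

/-- all the images are one permutation group -/
theorem row_of_std {β : Type} (b : β) (S : Subgroup (Perm β))
    (h : ∀ (Δ : Type) [MulAction T Δ], Act T Δ c → ∃ ε : Δ ≃ β, (rep ε : T →* Perm β).range = S) : Row2 T c := by
  intro Δ₁ Δ₂ _ _ h1 h2
  obtain ⟨ε₁, e1⟩ := h Δ₁ h1
  obtain ⟨ε₂, e2⟩ := h Δ₂ h2
  let f₁ : T ≃* S := (MonoidHom.ofInjective (rep_inj h1 ε₁)).trans (MulEquiv.subgroupCongr e1)
  let f₂ : T ≃* S := (MonoidHom.ofInjective (rep_inj h2 ε₂)).trans (MulEquiv.subgroupCongr e2)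
  refine ⟨f₁.trans f₂.symm, ε₁.symm b, ε₂.symm b, fun t => ?_⟩
  have h3 : rep ε₂ ((f₁.trans f₂.symm) t) = rep ε₁ t := by
    have h4 : f₂ (f₂.symm (f₁ t)) = f₁ t := f₂.apply_symm_apply _
    exact congrArg Subtype.val h4
  have h5 := rep_apply ε₁ t (ε₁.symm b)
  have h6 := rep_apply ε₂ ((f₁.trans f₂.symm) t) (ε₂.symm b)
  rw [Equiv.apply_symm_apply] at h5 h6
  rw [h3, h5] at h6
  rw [Equiv.eq_symm_apply, Equiv.eq_symm_apply, h6]

theorem row_of_rowAt (h : RowAt T c) (hc : 2 ≤ c) : Row2 T c := by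
  intro Δ₁ Δ₂ _ _ h1 h2
  have := nontriv h1 hc
  have := nontriv h2 hc
  obtain ⟨a₁⟩ : Nonempty Δ₁ := inferInstance
  obtain ⟨a₂⟩ : Nonempty Δ₂ := inferInstance
  obtain ⟨γ, hγ⟩ := h _ _ (index h1 hc a₁) (index h2 hc a₂)
  exact ⟨γ, a₁, a₂, hγ⟩

/-- inner -/
def Inr (α : MulAut T) : Prop := ∃ u : T, α = MulAut.conj u

theorem same_of_inr {Δ₁ Δ₂ : Type} [MulAction T Δ₁] [MulAction T Δ₂] {γ : MulAut T} (hγ : Inr γ) {a₁ : Δ₁} {a₂ : Δ₂}
    (h : ∀ t : T, t • a₁ = a₁ ↔ γ t • a₂ = a₂) : Same T Δ₁ Δ₂ := by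
  obtain ⟨u, rfl⟩ := hγ
  exact ⟨a₁, u⁻¹ • a₂, fun t => (h t).trans (conj_smul u t a₂)⟩

theorem one_of_row (h : Row2 T c) (hi : ∀ α : MulAut T, Inr α) : One2 T c := by
  intro Δ₁ Δ₂ _ _ h1 h2
  obtain ⟨γ, a₁, a₂, h3⟩ := h Δ₁ Δ₂ h1 h2
  exact same_of_inr (hi γ) h3

/-- the outer automorphism group has order at most 2 -/
def Out2 (T : Type) [Group T] : Prop := ∀ α β : MulAut T, Inr α ∨ Inr β ∨ Inr (β * α⁻¹)

theorem two_of_row (h : Row2 T c) (hc : 2 ≤ c) (hi : Out2 T) : Two2 T c := by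
  intro Δ₁ Δ₂ Δ₃ _ _ _ h1 h2 h3
  obtain ⟨α, a₁, a₂, h4⟩ := h Δ₁ Δ₂ h1 h2
  obtain ⟨β, b₁, a₃, h5⟩ := h Δ₁ Δ₃ h1 h3
  rcases hi α β with h6 | h6 | h6
  · exact .inl (same_of_inr h6 h4)
  · exact .inr (.inl (same_of_inr h6 h5))
  · obtain ⟨g, hg⟩ := trans h1 hc b₁ a₁
    refine .inr (.inr (same_of_inr h6 (a₁ := a₂) (a₂ := β g • a₃) fun s => ?_))
    have h7 := h4 (α⁻¹ s)
    rw [MulAut.apply_inv_self] at h7
    have h8 := h5 (g⁻¹ * α⁻¹ s * g⁻¹⁻¹)
    rw [conj_smul, map_mul, map_mul, map_inv β g⁻¹, conj_smul, map_inv, inv_inv, inv_inv, hg] at h8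
    rw [← h7, h8]
    rfl

theorem Inr.of_equiv (f : T ≃* T') {α : MulAut T} (h : Inr ((f.symm.trans α).trans f : MulAut T')) : Inr α := by
  obtain ⟨u, hu⟩ := h
  refine ⟨f.symm u, MulEquiv.ext fun t => f.injective ?_⟩
  have h2 := DFunLike.congr_fun hu (f t)
  simp only [MulEquiv.trans_apply, MulEquiv.symm_apply_apply, MulAut.conj_apply] at h2
  rw [h2, MulAut.conj_apply, map_mul, map_mul, map_inv, MulEquiv.apply_symm_apply]

theorem Out2.of_equiv (f : T ≃* T') (h : Out2 T') : Out2 T := by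
  intro α β
  rcases h ((f.symm.trans α).trans f) ((f.symm.trans β).trans f) with h1 | h1 | h1
  · exact .inl (h1.of_equiv f)
  · exact .inr (.inl (h1.of_equiv f))
  · refine .inr (.inr (Inr.of_equiv f ?_))
    have h2 : ((f.symm.trans (β * α⁻¹)).trans f : MulAut T') =
        (show MulAut T' from (f.symm.trans β).trans f) * (show MulAut T' from (f.symm.trans α).trans f)⁻¹ := by
      refine MulEquiv.ext fun t => ?_
      show f (β (α.symm (f.symm t))) = f (β (f.symm (f (α.symm (f.symm t)))))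
      rw [f.symm_apply_apply]
    rw [h2]
    exact h1

theorem Out2.of_card (h : Nat.card (Cfsg.Out T) = 2) : Out2 T := by
  have h0 : (Cfsg.Inn T).index = 2 := h
  have h1 : ∀ α : MulAut T, α ∈ Cfsg.Inn T → Inr α := fun α ⟨u, hu⟩ => ⟨u, hu.symm⟩
  intro α β
  by_cases ha : α ∈ Cfsg.Inn T
  · exact .inl (h1 α ha)
  by_cases hb : β ∈ Cfsg.Inn T
  · exact .inr (.inl (h1 β hb))
  refine .inr (.inr (h1 _ ?_))
  rw [mul_mem_iff_of_index_two h0, inv_mem_iff]
  exact iff_of_false hb ha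

/-- the subgroups of index `n` are conjugate -/
def CjAt (T : Type) [Group T] (n : ℕ) : Prop :=
  ∀ A B : Subgroup T, A.index = n → B.index = n → ∃ g : T, ∀ t : T, t ∈ A ↔ g * t * g⁻¹ ∈ B

theorem CjAt.of_equiv (f : T ≃* T') (h : CjAt T' c) : CjAt T c := by
  intro A B hA hB
  obtain ⟨g, hg⟩ := h (A.comap f.symm.toMonoidHom) (B.comap f.symm.toMonoidHom)
    ((A.index_comap_of_surjective f.symm.surjective).trans hA) ((B.index_comap_of_surjective f.symm.surjective).trans hB)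
  refine ⟨f.symm g, fun t => ?_⟩
  have h1 : f.symm (f t) ∈ A ↔ f.symm (g * f t * g⁻¹) ∈ B := hg (f t)
  rwa [map_mul, map_mul, map_inv, f.symm_apply_apply] at h1

theorem one_of_cjAt (h : CjAt T c) (hc : 2 ≤ c) : One2 T c := by
  intro Δ₁ Δ₂ _ _ h1 h2
  have := nontriv h1 hc
  have := nontriv h2 hc
  obtain ⟨a₁⟩ : Nonempty Δ₁ := inferInstance
  obtain ⟨a₂⟩ : Nonempty Δ₂ := inferInstance
  obtain ⟨g, hg⟩ := h _ _ (index h1 hc a₁) (index h2 hc a₂)
  exact ⟨a₁, g⁻¹ • a₂, fun t => (hg t).trans (conj_smul g t a₂)⟩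

end Cfsg.Agent.SM.Alt.Mat
end

-- part: SM/CSe/Geo
section
prune_inst 0x11607504042202000000051260001c42a20000020048880041a0010204c0ec0000000820b820011010e080042039004001000000404000000400040001190481008002068008a00000000e000000000000000000000000000000000000010000200000000
set_option linter.all false
open scoped Cfsg.Agent.FastGrp

/-!
# SM (S3570), box CS-Be: the subgroups `E < O < S = Sp₈(q)`, `q` even (helper84)

* `St` the stabiliser of the Lagrangian `L0`, `O` the group of the form `quadFormPlus`, `E` the stabiliser of the family of `L0`;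
* `index_E`, `exists_aut` (every automorphism fixes the three groups up to an inner one), `not_prm`.
-/

set_option autoImplicit false
set_option linter.unusedSectionVars false

namespace Cfsg.Agent.SM.CS.Be

open Cfsg Module Cfsg.Agent.ClassicalGeometry Cfsg.Agent.ClassicalGeometry.SympBasic
open Cfsg.Agent.TitsThree.SpIdent

/-- the natural module -/
abbrev Nm (F : Type) : Type := Fin 4 ⊕ Fin 4 → F

/-- the symplectic group -/
abbrev S (F : Type) [Field F] : Type := isos (form 4 F)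

variable {F : Type} [Field F]

local notation "ω" => sympForm 4 _
local notation "Q0" => quadFormPlus 4 _

/-- the standard Lagrangian -/
def L0 (F : Type) [Field F] : Submodule F (Nm F) := LinearMap.ker (LinearMap.funLeft F F Sum.inl)

/-- the opposite one -/
def L1 (F : Type) [Field F] : Submodule F (Nm F) := LinearMap.ker (LinearMap.funLeft F F Sum.inr)

theorem mem_L0 {w : Nm F} : w ∈ L0 F ↔ ∀ i, w (.inl i) = 0 := funext_iff
theorem mem_L1 {w : Nm F} : w ∈ L1 F ↔ ∀ i, w (.inr i) = 0 := funext_iff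

theorem fr_N : finrank F (Nm F) = 2 * 4 := by simp

theorem fr_L0 : finrank F (L0 F) = 4 := by
  have h := (LinearMap.funLeft F F (Sum.inl : Fin 4 → Fin 4 ⊕ Fin 4)).finrank_range_add_finrank_ker
  rw [LinearMap.range_eq_top.2 (LinearMap.funLeft_surjective_of_injective _ _ _ Sum.inl_injective), finrank_top, fr_N,
    Module.finrank_fin_fun] at h
  exact Nat.add_left_cancel (n := 4) h

theorem Q0_L0 {w : Nm F} (hw : w ∈ L0 F) : Q0 w = 0 :=
  Finset.sum_eq_zero fun i _ => by rw [mem_L0.1 hw i, zero_mul]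

theorem mem_L0_of {b : Nm F} (h : ∀ w ∈ L0 F, ω b w = 0) : b ∈ L0 F := mem_L0.2 fun i => by
  have h1 := h (Pi.single (.inr i) 1) (mem_L0.2 fun j => Pi.single_eq_of_ne (by simp) _)
  rwa [sympForm_single_inr_right, neg_eq_zero] at h1

theorem Q0_smul (c : F) (w : Nm F) : Q0 (c • w) = c ^ 2 * Q0 w := by
  unfold quadFormPlus
  rw [Finset.mul_sum]
  exact Finset.sum_congr rfl fun i _ => by simp only [Pi.smul_apply, smul_eq_mul]; ring

theorem iso (g : S F) (u w : Nm F) : ω (g.1 u) (g.1 w) = ω u w := g.2 u w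

theorem mul_ap (g h : S F) (w : Nm F) : (g * h).1 w = g.1 (h.1 w) := rfl
theorem inv_ap (g : S F) (w : Nm F) : g⁻¹.1 (g.1 w) = w := g.1.symm_apply_apply w
theorem ap_inv (g : S F) (w : Nm F) : g.1 (g⁻¹.1 w) = w := g.1.apply_symm_apply w

/-- the image of a subspace -/
def im (g : S F) (L : Submodule F (Nm F)) : Submodule F (Nm F) := L.map (g.1 : Nm F →ₗ[F] Nm F)

theorem mem_im {g : S F} {L : Submodule F (Nm F)} {w : Nm F} : w ∈ im g L ↔ g⁻¹.1 w ∈ L :=
  ⟨by rintro ⟨u, hu, rfl⟩; exact (inv_ap g u).symm ▸ hu, fun h => ⟨_, h, ap_inv g w⟩⟩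

theorem fr_im (g : S F) (L : Submodule F (Nm F)) : finrank F (im g L) = finrank F L := LinearEquiv.finrank_map_eq _ _

/-- the stabiliser of `L0` -/
def St (F : Type) [Field F] : Subgroup (S F) where
  carrier := {g | ∀ w, g.1 w ∈ L0 F ↔ w ∈ L0 F}
  one_mem' _ := Iff.rfl
  mul_mem' {a b} ha hb w := (ha (b.1 w)).trans (hb w)
  inv_mem' {a} ha w := by rw [← ha, ap_inv]

/-- the orthogonal group -/
def O (F : Type) [Field F] : Subgroup (S F) where
  carrier := {g | ∀ w, Q0 (g.1 w) = Q0 w}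
  one_mem' _ := rfl
  mul_mem' {a b} ha hb w := (ha (b.1 w)).trans (hb w)
  inv_mem' {a} ha w := by rw [← ha, ap_inv]

/-- the dimension of the intersection -/
noncomputable def par (g : S F) : ℕ := finrank F ↥(L0 F ⊓ im g (L0 F))

/-- transvections -/
def tv (b : Nm F) (c : F) : S F := ⟨ofSp (transv b c), ofSp_mem _⟩

theorem tv_ap (b : Nm F) (c : F) (w : Nm F) : (tv b c).1 w = w + (c * ω w b) • b := sympTransvection_mulVec b w c

theorem par_one : par (1 : S F) = 4 := by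
  have h : im (1 : S F) (L0 F) = L0 F := Submodule.ext fun _ => mem_im
  rw [par, h, inf_idem, fr_L0]

theorem fr_eq [Finite F] {A B : Submodule F (Nm F)} (σ : Nm F ≃ Nm F) (h : ∀ w, w ∈ A ↔ σ w ∈ B) :
    finrank F A = finrank F B := by
  have h1 : Nat.card A = Nat.card B := Nat.card_congr (σ.subtypeEquiv h)
  rw [Module.natCard_eq_pow_finrank (K := F) (V := A), Module.natCard_eq_pow_finrank (K := F) (V := B)] at h1
  exact Nat.pow_right_injective Finite.one_lt_card h1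

variable [CharP F 2]

theorem ω_symm (u w : Nm F) : ω u w = ω w u := by rw [sympForm_swap, CharTwo.neg_eq]

theorem Q0_add (u w : Nm F) : Q0 (u + w) = Q0 u + Q0 w + ω u w := by
  unfold quadFormPlus
  rw [sympForm_eq_sum, ← Finset.sum_add_distrib, ← Finset.sum_add_distrib]
  exact Finset.sum_congr rfl fun i _ => by rw [CharTwo.sub_eq_add, Pi.add_apply, Pi.add_apply]; ring

theorem Q0_tv (b : Nm F) (c : F) (w : Nm F) : Q0 ((tv b c).1 w) = Q0 w + c * ω w b ^ 2 * (1 + c * Q0 b) := by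
  rw [tv_ap, Q0_add, Q0_smul, sympForm_smul_right]
  ring

theorem par_mul {g h : S F} (hg : g ∈ O F) (hh : h ∈ O F) : Even (par g + par h + par (g * h)) := by
  have h0 : ∀ k ∈ O F, ∀ u ∈ im k (L0 F), Q0 u = 0 := by
    rintro k hk _ ⟨u, hu, rfl⟩
    exact (hk u).trans (Q0_L0 hu)
  have h1 := TwoFamilies.even_intersections (B := sympBilin 4 F) Q0 Q0_add sympBilin_nondegenerate sympBilin_isAlt.isRefl 4
    fr_N (L0 F) (im g (L0 F)) (im (g * h) (L0 F)) fr_L0 (by rw [fr_im, fr_L0]) (by rw [fr_im, fr_L0])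
    (fun _ => Q0_L0) (h0 g hg) (h0 _ (mul_mem hg hh))
  have h2 : im g (L0 F) ⊓ im (g * h) (L0 F) = im g (L0 F ⊓ im h (L0 F)) := by
    ext w
    simp only [Submodule.mem_inf, mem_im, mul_inv_rev, mul_ap]
  rw [h2, fr_im] at h1
  exact (Nat.even_add.1 h1).2 (by decide)

/-- the stabiliser of the family of `L0` -/
def E (F : Type) [Field F] [CharP F 2] : Subgroup (S F) where
  carrier := {g | g ∈ O F ∧ Even (par g)}
  one_mem' := ⟨one_mem _, by rw [par_one]; decide⟩
  mul_mem' {a b} ha hb := ⟨mul_mem ha.1 hb.1, (Nat.even_add.1 (par_mul ha.1 hb.1)).1 (ha.2.add hb.2)⟩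
  inv_mem' {a} ha := ⟨inv_mem ha.1, by
    have h := par_mul ha.1 (inv_mem ha.1)
    rw [mul_inv_cancel, par_one] at h
    exact (Nat.even_add.1 ((Nat.even_add.1 h).2 (by decide))).1 ha.2⟩

theorem E_le : E F ≤ O F := fun _ h => h.1

theorem mul_mem_E {g h : S F} (hg : g ∈ O F) (hh : h ∈ O F) : g * h ∈ E F ↔ (g ∈ E F ↔ h ∈ E F) := by
  have h1 := par_mul hg hh
  rw [Nat.even_add, Nat.even_add] at h1
  change _ ∧ _ ↔ (_ ∧ _ ↔ _ ∧ _)
  rw [and_iff_right hg, and_iff_right hh, and_iff_right (mul_mem hg hh)]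
  exact h1.symm

theorem mem_E_of {g : S F} (hg : g ∈ O F) (h : L0 F ⊓ im g (L0 F) = ⊥) : g ∈ E F :=
  ⟨hg, by rw [par, h, finrank_bot]; decide⟩

theorem refl_O {b : Nm F} (hb : Q0 b ≠ 0) : tv b (Q0 b)⁻¹ ∈ O F := fun w => by
  rw [Q0_tv, inv_mul_cancel₀ hb, CharTwo.add_self_eq_zero, mul_zero, add_zero]

theorem refl_E {b : Nm F} (hb : Q0 b ≠ 0) : tv b (Q0 b)⁻¹ ∉ E F := by
  intro h
  have hbL : b ∉ L0 F := fun h => hb (Q0_L0 h)
  let l : L0 F →ₗ[F] F := ((sympBilin 4 F).flip b).domRestrict (L0 F)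
  have h1 : LinearMap.range l = ⊤ := by
    rw [LinearMap.range_eq_top]
    obtain ⟨w, hw, h0⟩ : ∃ w ∈ L0 F, ω b w ≠ 0 := by
      by_contra hc
      push Not at hc
      exact hbL (mem_L0_of hc)
    intro c
    refine ⟨(c / ω b w) • ⟨w, hw⟩, ?_⟩
    rw [map_smul, smul_eq_mul]
    change c / ω b w * ω w b = c
    rw [ω_symm w, div_mul_cancel₀ _ h0]
  have h2 := l.finrank_range_add_finrank_ker
  rw [h1, finrank_top, Module.finrank_self, fr_L0] at h2
  have h3 : L0 F ⊓ im (tv b (Q0 b)⁻¹) (L0 F) = (LinearMap.ker l).map (L0 F).subtype := by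
    ext w
    constructor
    · rintro ⟨hw, u, hu, rfl⟩
      have hw' : u + ((Q0 b)⁻¹ * ω u b) • b ∈ L0 F := tv_ap b _ u ▸ hw
      have h4 : (Q0 b)⁻¹ * ω u b = 0 := by
        by_contra h4
        exact hbL (((L0 F).smul_mem_iff h4).1 (((L0 F).add_mem_iff_right hu).1 hw'))
      refine ⟨⟨u, hu⟩, (mul_eq_zero.1 h4).resolve_left (inv_ne_zero hb), ?_⟩
      change u = (tv b _).1 u
      rw [tv_ap, h4, zero_smul, add_zero]
    · rintro ⟨⟨u, hu⟩, h4, rfl⟩
      refine ⟨hu, u, hu, ?_⟩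
      change (tv b _).1 u = u
      rw [tv_ap, show ω u b = 0 from h4, mul_zero, zero_smul, add_zero]
  have h4 := h.2
  rw [par, h3, Submodule.finrank_map_subtype_eq, show finrank F (LinearMap.ker l) = 3 by omega] at h4
  exact absurd h4 (by decide)

theorem tv_O {b : Nm F} (h0 : b ≠ 0) (hb : Q0 b = 0) : tv b 1 ∉ O F := by
  intro h
  refine h0 (eq_zero_of_forall_sympForm_left fun w => ?_)
  have h1 := h w
  rw [Q0_tv, hb, mul_zero, add_zero, mul_one, one_mul, add_eq_left] at h1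
  exact pow_eq_zero_iff two_ne_zero |>.1 h1

theorem exists_refl : ∃ t ∈ O F, t ∉ E F := by
  have hb : Q0 (fun _ => (0 : F)) + Q0 (Sum.elim (Pi.single 0 1) (Pi.single 0 1)) ≠ 0 := by
    simp [quadFormPlus, Fin.sum_univ_four]
  have h0 : Q0 (fun _ => (0 : F)) = 0 := Q0_L0 (zero_mem _)
  rw [h0, zero_add] at hb
  exact ⟨_, refl_O hb, refl_E hb⟩

/-- the swap of the two halves -/
theorem exists_swap : ∃ w ∈ E F, im w (L0 F) = L1 F := by
  let e : Nm F ≃ₗ[F] Nm F := LinearEquiv.funCongrLeft F F (Equiv.sumComm (Fin 4) (Fin 4))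
  have h1 : ∀ u i, e u (.inl i) = u (.inr i) := fun _ _ => rfl
  have h2 : ∀ u i, e u (.inr i) = u (.inl i) := fun _ _ => rfl
  have hO : ∀ u, Q0 (e u) = Q0 u := fun u => Finset.sum_congr rfl fun i _ => by rw [h1, h2, mul_comm]
  let w : S F := ⟨e, fun u v => by
    have h3 := Q0_add (e u) (e v)
    rw [← map_add, hO, hO, hO, Q0_add] at h3
    exact (add_left_cancel h3).symm⟩
  have h3 : im w (L0 F) = L1 F := by
    ext u
    constructor
    · rintro ⟨v, hv, rfl⟩
      exact mem_L1.2 fun i => mem_L0.1 hv i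
    · intro hu
      refine ⟨e u, mem_L0.2 fun i => mem_L1.1 hu i, funext fun j => ?_⟩
      rcases j with i | i <;> rfl
  refine ⟨w, mem_E_of hO ?_, h3⟩
  rw [h3, eq_bot_iff]
  rintro u ⟨h4, h5⟩
  refine funext fun j => ?_
  rcases j with i | i
  · exact mem_L0.1 h4 i
  · exact mem_L1.1 h5 i

variable [Fintype F]

theorem card_S : Nat.card (S F) = Fintype.card F ^ (4 ^ 2) * ∏ i ∈ Finset.range 4, (Fintype.card F ^ (2 * (i + 1)) - 1) := by
  rw [Nat.card_congr (H62.SpCross.isoSp 4 F).toEquiv, S0245.result rfl]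

theorem index_E : (E F).index = Fintype.card F ^ 4 * (Fintype.card F ^ 4 + 1) := by
  have h1 : (E F).relIndex (O F) = 2 := by
    obtain ⟨t, ht, ht'⟩ := exists_refl (F := F)
    refine Subgroup.relIndex_eq_two_iff.2 ⟨t, ht, fun b hb => ?_⟩
    rw [mul_mem_E hb ht, iff_false_intro ht', iff_false]
    exact (xor_not_left.2 Iff.rfl)
  have h2 : Nat.card (O F) = Nat.card (H957.isoQ (LieClassical.QuadForms.plusForm 4 F)) := by
    have hc := LieClassical.QuadForms.coe_plusForm (F := F) 4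
    refine Nat.card_congr
      { toFun := fun g => ⟨g.1.1, fun v => by rw [hc]; exact g.2 v⟩
        invFun := fun g => ⟨⟨g.1, fun u v => ?_⟩, fun v => by rw [← hc]; exact g.2 v⟩
        left_inv := fun _ => rfl
        right_inv := fun _ => rfl }
    have hO : ∀ u, Q0 (g.1 u) = Q0 u := fun u => by rw [← hc]; exact g.2 u
    have h3 := Q0_add (g.1 u) (g.1 v)
    rw [← map_add, hO, hO, hO, Q0_add] at h3
    exact (add_left_cancel h3).symm
  rw [← H957.card_isometryGroup, LieClassical.QuadForms.coe_plusForm, S0287.result rfl 4 (by norm_num)] at h2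
  have h3 := (O F).card_mul_index
  rw [h2, card_S] at h3
  rw [← Subgroup.relIndex_mul_index E_le, h1]
  exact H957.index_arith Fintype.one_lt_card (by norm_num) true h3

/-- the forms with the polar form `ω` -/
theorem exists_b (Q' : Nm F → F) (ha : ∀ u w, Q' (u + w) = Q' u + Q' w + ω u w) (hs : ∀ (c : F) w, Q' (c • w) = c ^ 2 * Q' w) :
    ∃ b, ∀ w, Q' w = Q0 w + ω w b ^ 2 := by
  have : ExpChar F 2 := ExpChar.prime Nat.prime_two
  let s := (frobeniusEquiv F 2).symm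
  have h1 : ∀ x, s x ^ 2 = x := fun x => (frobeniusEquiv F 2).apply_symm_apply x
  have h2 : ∀ x, s (x ^ 2) = x := fun x => (frobeniusEquiv F 2).symm_apply_apply x
  let l : Nm F →ₗ[F] F :=
    { toFun := fun w => s (Q' w - Q0 w)
      map_add' := fun u w => by rw [← map_add, ha, Q0_add]; congr 1; ring
      map_smul' := fun c w => by rw [hs, Q0_smul, ← mul_sub, map_mul, h2]; rfl }
  refine ⟨(LinearMap.BilinForm.toDual (sympBilin 4 F) sympBilin_nondegenerate).symm l, fun w => ?_⟩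
  have h3 : ω ((LinearMap.BilinForm.toDual (sympBilin 4 F) sympBilin_nondegenerate).symm l) w = s (Q' w - Q0 w) :=
    LinearMap.BilinForm.apply_toDual_symm_apply (B := sympBilin 4 F) (hB := sympBilin_nondegenerate) l w
  rw [ω_symm, h3, h1]
  ring

theorem toPSp_inj : Function.Injective (toPSp (m := 4) (F := F)) := by
  rw [injective_iff_map_eq_one]
  intro g hg
  obtain ⟨a, ha, h⟩ := exists_smul_of_toPSp_eq_one hg
  have h1 : a = 1 := by
    rcases sq_eq_one_iff.1 ha with h2 | h2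
    · exact h2
    · rw [h2, CharTwo.neg_eq]
  exact Subtype.ext (LinearEquiv.ext fun v => by rw [h, h1, one_smul]; rfl)

/-- `S` is `PSp₈` -/
noncomputable def eP (F : Type) [Field F] [CharP F 2] [Fintype F] : S F ≃* PSp 4 F :=
  MulEquiv.ofBijective toPSp ⟨toPSp_inj, toPSp_surjective⟩

open SympAutSemi in
/-- **Automorphisms.** -/
theorem exists_aut (φ : MulAut (S F)) : ∃ g : S F, ∀ h : S F,
    (g * φ h * g⁻¹ ∈ St F ↔ h ∈ St F) ∧ (g * φ h * g⁻¹ ∈ O F ↔ h ∈ O F) ∧ (g * φ h * g⁻¹ ∈ E F ↔ h ∈ E F) := by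
  let α : MulAut (PSp 4 F) := ((eP F).symm.trans φ).trans (eP F)
  obtain ⟨γ, hγ⟩ := SympAutExists.exists_semi (by norm_num) α (SympAutOddA.recog (by norm_num) (Or.inl (by norm_num)) α)
  have h1 : ∀ (h : S F) w, (φ h).1 (γ.1 w) = γ.1 (h.1 w) := by
    intro h w
    obtain ⟨k, hk⟩ := toSp_surjective (conjHom 4 F γ (toSp h))
    have h2 : toPSp k = toPSp (φ h) := by
      have h3 : α (eP F h) = eP F (φ h) := by simp [α]
      rw [← hγ] at h3
      exact (congrArg _ hk).trans h3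
    have h3 := DFunLike.congr_fun (rho_conjHom γ (toSp h)) (γ.1 w)
    rw [← hk, toPSp_inj h2, rho_apply, toSp_mulVec, Equiv.Perm.mul_apply, Equiv.Perm.mul_apply, perm_inv_apply_self,
      rho_apply, toSp_mulVec] at h3
    exact h3
  obtain ⟨γ, τ, l, hl, hs⟩ := γ
  have hi := hs.inv hl
  have hi0 : γ⁻¹ 0 = 0 := by simpa using hi.2.1 0 0
  let Φ : PQ.Mk.Fm false F (Nm F) := ⟨sympBilin 4 F, 0, sympBilin_nondegenerate, fun _ => ⟨sympBilin_isAlt, rfl⟩, nofun⟩
  let L : Submodule F (Nm F) :=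
    { carrier := {w | γ⁻¹ w ∈ L0 F}
      zero_mem' := by rw [Set.mem_ofPred_eq, hi0]; exact zero_mem _
      add_mem' := fun {a b} ha hb => by rw [Set.mem_ofPred_eq, hi.1]; exact add_mem ha hb
      smul_mem' := fun c a ha => by rw [Set.mem_ofPred_eq, hi.2.1]; exact Submodule.smul_mem _ _ ha }
  have hb0 : ∀ x ∈ L0 F, ∀ y ∈ L0 F, ω x y = 0 := fun x hx y hy => by
    have h3 := Q0_add x y
    rwa [Q0_L0 hx, Q0_L0 hy, Q0_L0 (add_mem hx hy), zero_add, zero_add, eq_comm] at h3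
  have hL0 : PQ.G4.IsLag Φ (L0 F) := ⟨hb0, fun _ _ => rfl, by rw [fr_L0, fr_N]⟩
  have hL : PQ.G4.IsLag Φ L := ⟨fun x hx y hy => by
    have h3 := hs.2.2 (γ⁻¹ x) (γ⁻¹ y)
    rwa [perm_apply_inv_self, perm_apply_inv_self, hb0 _ hx _ hy, map_zero, mul_zero] at h3, fun _ _ => rfl,
    by rw [fr_eq (A := L) (B := L0 F) γ⁻¹ fun _ => Iff.rfl, fr_L0, fr_N]⟩
  obtain ⟨g0, hg0⟩ := hL.trans hL0
  let g1 : S F := ⟨g0.1, g0.2.1⟩
  have h2 : ∀ w, g1.1 (γ w) ∈ L0 F ↔ w ∈ L0 F := fun w => by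
    have h3 : im g1 L = L0 F := hg0
    refine (h3 ▸ mem_im : _ ∈ L0 F ↔ _).trans ?_
    rw [inv_ap]
    change γ⁻¹ (γ w) ∈ L0 F ↔ _
    rw [perm_inv_apply_self]
  obtain ⟨b, hb⟩ := exists_b (fun w => l * τ (Q0 (γ⁻¹ (g1⁻¹.1 w)))) (fun u w => by
    have h3 := hs.2.2 (γ⁻¹ (g1⁻¹.1 u)) (γ⁻¹ (g1⁻¹.1 w))
    rw [perm_apply_inv_self, perm_apply_inv_self, iso] at h3
    rw [map_add, hi.1, Q0_add, h3, map_add, map_add]
    ring) (fun c w => by
    rw [map_smul, hi.2.1, Q0_smul, map_mul, map_pow, RingEquiv.apply_symm_apply]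
    ring)
  have hbL : b ∈ L0 F := mem_L0_of fun w hw => by
    have h3 := hb w
    have h4 : γ⁻¹ (g1⁻¹.1 w) ∈ L0 F := by rw [← h2, perm_apply_inv_self, ap_inv]; exact hw
    simp only [Q0_L0 h4, Q0_L0 hw, map_zero, mul_zero, zero_add] at h3
    rw [ω_symm]
    exact pow_eq_zero_iff two_ne_zero |>.1 h3.symm
  let g : S F := tv b 1 * g1
  let σ : Nm F ≃ Nm F := γ.trans g.1.toEquiv
  have s0 : ∀ w, σ w = g.1 (γ w) := fun _ => rfl
  have s1 : ∀ w, σ w ∈ L0 F ↔ w ∈ L0 F := fun w => by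
    rw [s0, mul_ap, tv_ap, (L0 F).add_mem_iff_left (Submodule.smul_mem _ _ hbL), h2]
  have s2 : ∀ w, Q0 (σ w) = l * τ (Q0 w) := fun w => by
    have h3 := hb (g1.1 (γ w))
    simp only [inv_ap, perm_inv_apply_self] at h3
    rw [s0, mul_ap, Q0_tv, Q0_L0 hbL, h3]
    ring
  have s3 : ∀ (h : S F) w, (g * φ h * g⁻¹).1 (σ w) = σ (h.1 w) := fun h w => by
    rw [s0, s0, mul_ap, mul_ap, inv_ap]
    exact congrArg _ (h1 h w)
  refine ⟨g, fun h => ?_⟩
  have a2 : g * φ h * g⁻¹ ∈ O F ↔ h ∈ O F := by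
    refine σ.surjective.forall.trans (forall_congr' fun w => ?_)
    rw [s3, s2, s2, mul_right_inj' hl, τ.injective.eq_iff]
  refine ⟨σ.surjective.forall.trans (forall_congr' fun w => by rw [s3, s1, s1]), a2, and_congr a2 ?_⟩
  rw [par, par, ← fr_eq (A := L0 F ⊓ im h (L0 F)) σ fun w => ?_]
  have e : (g * φ h * g⁻¹)⁻¹ = g * φ h⁻¹ * g⁻¹ := by rw [map_inv]; group
  rw [Submodule.mem_inf, Submodule.mem_inf, mem_im, mem_im, e, s3, s1, s1]

/-- **A non-trivial subgroup of `E` is not primitive.** -/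
theorem not_prm {A : Subgroup (S F)} (hA : A ≤ E F) (h0 : A ≠ ⊥) : ¬ Prm A := by
  intro hP
  by_cases hb : ∃ b : Nm F, b ≠ 0 ∧ ∀ a ∈ A, a.1 b = b
  · obtain ⟨b, hb0, hb⟩ := hb
    rcases hP (Subgroup.normalizer (A : Set (S F))) Subgroup.le_normalizer
      (fun φ hφ => by rw [Subgroup.map_equiv_normalizer_eq, hφ]) with h | h
    · have h1 : ∀ c, tv b c ∈ E F := fun c => by
        refine hA (h ▸ Subgroup.centralizer_le_normalizer _ fun a ha => Subtype.ext (LinearEquiv.ext fun w => ?_))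
        change a.1 ((tv b c).1 w) = (tv b c).1 (a.1 w)
        rw [tv_ap, tv_ap, map_add, map_smul, ← iso a w b, hb a ha]
      by_cases hq : Q0 b = 0
      · exact tv_O hb0 hq (h1 1).1
      · exact refl_E hq (h1 _)
    · have hn := Subgroup.normalizer_eq_top_iff.1 h
      refine h0 (eq_bot_iff.2 fun a ha => Subtype.ext (LinearEquiv.ext fun w => ?_))
      have h1 : ∀ u, ω b u ≠ 0 → a.1 u = u := fun u hu => by
        have h2 := congrArg (tv u 1).1 (hb _ (hn.conj_mem' a ha (tv u 1)))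
        rw [mul_ap, mul_ap, ap_inv, tv_ap, map_add, map_smul, hb a ha, add_right_inj, one_mul] at h2
        exact smul_right_injective _ hu h2
      change a.1 w = w
      by_cases hw : ω b w = 0
      · obtain ⟨u, hu⟩ : ∃ u, ω b u ≠ 0 := by
          by_contra hc
          push Not at hc
          exact hb0 (eq_zero_of_forall_sympForm_right hc)
        have h2 := h1 (w + u) (by rwa [sympForm_add_right, hw, zero_add])
        rwa [map_add, h1 u hu, add_left_inj] at h2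
      · exact h1 w hw
  · push Not at hb
    refine (hP (O F) (hA.trans E_le) (fun φ hφ => ?_)).elim (fun h => ?_) fun h => ?_
    rotate_left
    · obtain ⟨t, ht, ht'⟩ := exists_refl (F := F)
      exact ht' (hA (h ▸ ht))
    · refine tv_O (F := F) (b := Pi.single (.inr 0) 1) (by simp) (Q0_L0 (mem_L0.2 fun j => Pi.single_eq_of_ne (by simp) _)) ?_
      rw [h]
      trivial
    · obtain ⟨g, hg⟩ := exists_aut φ
      obtain ⟨b, hb'⟩ := exists_b (fun w => Q0 (g.1 w)) (fun u w => by rw [map_add, Q0_add, iso])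
        (fun c w => by rw [map_smul, Q0_smul])
      have h1 : b = 0 := by
        by_contra h1
        obtain ⟨a, ha, h2⟩ := hb b h1
        have ha' := inv_mem ha
        refine h2 (eq_of_forall_sympForm_left fun w => ?_)
        have h3 : a⁻¹ ∈ A.map φ.toMonoidHom := hφ.symm ▸ ha'
        obtain ⟨a', h4, h5⟩ := h3
        have h6 := (hg a').2.1.2 (hA h4).1 (g.1 w)
        rw [show φ a' = a⁻¹ from h5, mul_ap, mul_ap, inv_ap] at h6
        have h7 := hb' (a⁻¹.1 w)
        have h8 := hb' w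
        rw [h6, h8, (hA ha').1 w, add_right_inj, ← iso a (a⁻¹.1 w), ap_inv] at h7
        rcases sq_eq_sq_iff_eq_or_eq_neg.1 h7 with h9 | h9
        · exact h9.symm
        · rw [h9, CharTwo.neg_eq]
      have h2 : g ∈ O F := fun w => by
        have h3 := hb' w
        rw [h3, h1, sympForm_zero_right]
        ring
      have h3 : ∀ h, φ h ∈ O F ↔ h ∈ O F := fun h => by
        rw [← (hg h).2.1, (O F).mul_mem_cancel_right (inv_mem h2), (O F).mul_mem_cancel_left h2]
      ext k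
      rw [Subgroup.mem_map_equiv, ← h3, MulEquiv.apply_symm_apply]

end Cfsg.Agent.SM.CS.Be

private theorem dce_b6728d15603f : _root_.True := by
  try have : _root_.True := by simp only [_root_.Cfsg.quadFormPlus.eq_1]
  try have : _root_.True := by simp only [_root_.Cfsg.Agent.SM.CS.Be.eP.congr_simp]
  try have : _root_.True := by simp only [_root_.Cfsg.Agent.SM.CS.Be.par.eq_1]
  exact _root_.True.intro
end

-- part: SM/CSBo/A
section
prune_inst 0x10000000000000
set_option linter.all false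
open scoped Cfsg.Agent.FastGrp

/-!
# SM (S3570), box CS-Bo: the abstract part (helper9)

* `Pack T q Z` : what is used about the class `Z` of `-r_a` in `Ω₉(q)`;
* `Pack.not_prm` : a subgroup of index `q⁷ (q⁸ - 1) / 2` containing and centralising a member of `Z` is not `Prm`.
-/

set_option autoImplicit false
set_option linter.unusedSectionVars false

namespace Cfsg.Agent.SM.CS.Bo

open Subgroup

/-- the data of the class of `-r_a` in `Ω₉(q)` -/
structure Pack (T : Type) [Group T] (q : ℕ) (Z : Set T) : Prop where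
  aut : ∀ φ : MulAut T, ∀ z ∈ Z, φ z ∈ Z
  cls : ∀ z ∈ Z, ∀ z' ∈ Z, ∃ g : T, g * z * g⁻¹ = z'
  ne_one : ∀ z ∈ Z, z ≠ 1
  idx : ∀ z ∈ Z, 2 * (centralizer {z}).index = q ^ 4 * (q ^ 4 + 1)
  sq : ∃ u g : T, u * (g * u * g⁻¹) = g * u * g⁻¹ * u ∧ u ^ 4 = 1 ∧ u ^ 2 * (g * u * g⁻¹) ^ 2 ∈ Z
  pair : ∀ z ∈ Z, ∀ z' ∈ Z, z ≠ z' → z * z' = z' * z →
    4 * (centralizer {z} ⊓ centralizer {z'}).index = q ^ 7 * (q ^ 8 - 1)

section gen

variable {T T' : Type} [Group T] [Group T']

theorem map_centralizer (e : T ≃* T') (z : T) : (centralizer {z}).map e.toMonoidHom = centralizer {e z} := by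
  ext x
  obtain ⟨y, rfl⟩ := e.surjective x
  rw [Subgroup.mem_map_equiv, MulEquiv.symm_apply_apply, mem_centralizer_singleton_iff, mem_centralizer_singleton_iff,
    ← map_mul, ← map_mul, e.injective.eq_iff]

theorem index_map_equiv (e : T ≃* T') (A : Subgroup T) : (A.map e.toMonoidHom).index = A.index :=
  Subgroup.index_map_equiv A e

theorem Pack.map {q : ℕ} {Z : Set T} (h : Pack T q Z) (e : T ≃* T') : Pack T' q (e '' Z) where
  aut φ := by
    rintro _ ⟨z, hz, rfl⟩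
    exact ⟨_, h.aut ((e.trans φ).trans e.symm) z hz, by simp⟩
  cls := by
    rintro _ ⟨z, hz, rfl⟩ _ ⟨z', hz', rfl⟩
    obtain ⟨g, hg⟩ := h.cls z hz z' hz'
    exact ⟨e g, by rw [← hg, map_mul, map_mul, map_inv]⟩
  ne_one := by
    rintro _ ⟨z, hz, rfl⟩ h1
    exact h.ne_one z hz (e.injective (by rw [h1, map_one]))
  idx := by
    rintro _ ⟨z, hz, rfl⟩
    rw [← map_centralizer, index_map_equiv, h.idx z hz]
  sq := by
    obtain ⟨u, g, h1, h2, h3⟩ := h.sq
    refine ⟨e u, e g, ?_, by rw [← map_pow, h2, map_one], _, h3, ?_⟩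
    · have := congrArg e h1
      simpa only [map_mul, map_inv] using this
    · simp only [map_mul, map_inv, map_pow]
  pair := by
    rintro _ ⟨z, hz, rfl⟩ _ ⟨z', hz', rfl⟩ hne hc
    rw [← map_centralizer, ← map_centralizer, ← Subgroup.map_inf _ _ _ e.injective, index_map_equiv]
    refine h.pair z hz z' hz' (fun h0 => hne (by rw [h0])) (e.injective ?_)
    rw [map_mul, map_mul, hc]

/-- the conjugates of `z` under a subgroup -/
theorem relIndex_centralizer {Γ : Type*} [Group Γ] (H : Subgroup Γ) (z : Γ) :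
    (centralizer {z}).relIndex H = {b | ∃ g ∈ H, g * z * g⁻¹ = b}.ncard := by
  let _ : MulAction Γ Γ := MulAction.compHom Γ (MulAut.conj : Γ →* MulAut Γ)
  have h1 : MulAction.stabilizer Γ z = centralizer {z} := by
    ext g
    rw [MulAction.mem_stabilizer_iff, mem_centralizer_singleton_iff]
    change g * z * g⁻¹ = z ↔ _
    rw [mul_inv_eq_iff_eq_mul]
  rw [← h1, Ix.relIndex_stabilizer]
  rfl

theorem Pack.ncard {q : ℕ} {Z : Set T} (h : Pack T q Z) : 2 * Z.ncard = q ^ 4 * (q ^ 4 + 1) := by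
  obtain ⟨u, g, -, -, hz⟩ := h.sq
  rw [← h.idx _ hz, ← relIndex_top_right, relIndex_centralizer]
  congr 2
  ext b
  constructor
  · intro hb
    obtain ⟨x, hx⟩ := h.cls _ hz b hb
    exact ⟨x, mem_top x, hx⟩
  · rintro ⟨x, -, rfl⟩
    exact h.aut (MulAut.conj x) _ hz

/-- orbits of points `{a, b}` : `h₀` exchanges -/
theorem two_mul_relIndex {Γ α : Type*} [Group Γ] [MulAction Γ α] (H C : Subgroup Γ) {a b : α} (hab : a ≠ b)
    (hC : ∀ g, g ∈ C ↔ g • a = a ∨ g • a = b) {h₀ : Γ} (hh : h₀ ∈ H) (h0 : h₀ • a = b) :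
    2 * C.relIndex H = {c | ∃ g ∈ H, g • a = c}.ncard := by
  rw [← Ix.relIndex_stabilizer]
  have h1 : MulAction.stabilizer Γ a ≤ C := fun g hg => (hC g).2 (Or.inl hg)
  have h2 : (MulAction.stabilizer Γ a).relIndex (C ⊓ H) = 2 := by
    rw [Ix.relIndex_stabilizer, ← Set.ncard_pair hab]
    congr 1
    ext c
    constructor
    · rintro ⟨g, hg, rfl⟩
      exact (hC g).1 hg.1
    · rintro (rfl | rfl)
      · exact ⟨1, one_mem _, one_smul _ _⟩
      · exact ⟨h₀, ⟨(hC _).2 (Or.inr h0), hh⟩, h0⟩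
  have h3 := relIndex_mul_relIndex (MulAction.stabilizer Γ a ⊓ (C ⊓ H)) (C ⊓ H) H inf_le_right inf_le_right
  rw [inf_relIndex_right, h2, inf_relIndex_right, ← inf_assoc, inf_eq_left.2 h1, inf_relIndex_right] at h3
  exact h3

/-- `Y = P X` -/
theorem relIndex_eq_of_fac {Γ : Type*} [Group Γ] {P Y X : Subgroup Γ} (hP : P ≤ Y)
    (h : ∀ y ∈ Y, ∃ p ∈ P, p⁻¹ * y ∈ X) : X.relIndex Y = X.relIndex P := by
  conv_lhs => rw [← MulAction.stabilizer_quotient X, Ix.relIndex_stabilizer]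
  conv_rhs => rw [← MulAction.stabilizer_quotient X, Ix.relIndex_stabilizer]
  congr 1
  ext b
  constructor
  · rintro ⟨y, hy, rfl⟩
    obtain ⟨p, hp, hx⟩ := h y hy
    refine ⟨p, hp, ?_⟩
    change ((p * 1 : Γ) : Γ ⧸ X) = ((y * 1 : Γ) : Γ ⧸ X)
    rw [mul_one, mul_one]
    exact QuotientGroup.eq.2 hx
  · rintro ⟨p, hp, rfl⟩
    exact ⟨p, hP hp, rfl⟩

theorem Pack.not_prm [Finite T] [IsSimpleGroup T] {q : ℕ} (hq : 3 ≤ q) {Z : Set T} (h : Pack T q Z) {A : Subgroup T}
    {z : T} (hz : z ∈ Z) (hzA : z ∈ A) (hA : A ≤ centralizer {z}) (hi : 2 * A.index = q ^ 7 * (q ^ 8 - 1)) : ¬ Prm A := by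
  intro hP
  have q4 : 81 ≤ q ^ 4 := Nat.pow_le_pow_left hq 4
  have q3 : 27 ≤ q ^ 3 := Nat.pow_le_pow_left hq 3
  obtain ⟨t, ht⟩ : ∃ t, q ^ 4 = t + 1 := ⟨q ^ 4 - 1, by omega⟩
  have e1 : q ^ 7 * (q ^ 8 - 1) = q ^ 3 * t * ((t + 1) * (t + 2)) := by
    have : q ^ 8 = t * (t + 2) + 1 := by
      rw [show q ^ 8 = q ^ 4 * q ^ 4 by ring, ht]; ring
    rw [this, Nat.add_sub_cancel, show q ^ 7 = q ^ 3 * q ^ 4 by ring, ht]; ring
  have e2 : q ^ 4 * (q ^ 4 + 1) = (t + 1) * (t + 2) := by rw [ht]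
  have e3 : 2 < (t + 1) * (t + 2) := by nlinarith
  have e4 : 1 < q ^ 3 * t := by nlinarith
  have hN : normalizer (A : Set T) = A := by
    rcases hP (normalizer (A : Set T)) le_normalizer (fun φ hφ => by
      have := Subgroup.map_equiv_normalizer_eq A φ
      rw [this, hφ]) with h1 | h1
    · exact h1
    · exfalso
      have h2 : A.Normal := normalizer_eq_top_iff.1 h1
      rcases h2.eq_bot_or_eq_top with h3 | h3
      · rw [h3] at hzA
        exact h.ne_one z hz (mem_bot.1 hzA)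
      · rw [h3, index_top, e1] at hi
        nlinarith
  by_cases hex : ∃ z' ∈ Z, z ≠ z' ∧ A ≤ centralizer {z'}
  · obtain ⟨z', hz', hne, hA'⟩ := hex
    have h1 := h.pair z hz z' hz' hne (mem_centralizer_singleton_iff.1 (hA' hzA))
    have h2 : A ≤ centralizer {z} ⊓ centralizer {z'} := le_inf hA hA'
    have h3 := relIndex_mul_index h2
    have h4 : (centralizer {z} ⊓ centralizer {z'} : Subgroup T).index ≠ 0 := index_ne_zero_of_finite
    have h5 : A.relIndex (centralizer {z} ⊓ centralizer {z'}) = 2 := by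
      apply Nat.eq_of_mul_eq_mul_right (Nat.pos_of_ne_zero h4)
      omega
    have h6 : (A.subgroupOf (centralizer {z} ⊓ centralizer {z'})).Normal := normal_of_index_eq_two h5
    have h7 := (normal_subgroupOf_iff_le_normalizer h2).1 h6
    rw [hN] at h7
    rw [relIndex_eq_one.2 h7] at h5
    omega
  · have h1 := h.idx z hz
    rcases hP (centralizer {z}) hA (fun φ hφ => by
      have h2 : z = φ z := by
        by_contra hne
        refine hex ⟨φ z, h.aut φ z hz, hne, ?_⟩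
        rw [← map_centralizer, ← hφ]
        exact map_mono hA
      rw [map_centralizer, ← h2]) with h2 | h2
    · rw [h2, hi, e1, e2] at h1
      nlinarith
    · rw [h2, index_top, e2] at h1
      omega

end gen

end Cfsg.Agent.SM.CS.Bo
end

-- part: SM/CSi/Idx
section
set_option linter.all false
open scoped Cfsg.Agent.FastGrp

/-!
# SM (S3570), box CS-Idx: the sizes of the five spheres (helper99)
-/

set_option autoImplicit false
set_option linter.unusedSectionVars false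

namespace Cfsg.Agent.SM.CS.Ix

open Module QuadraticMap Matrix
open Cfsg Cfsg.Geo
open Cfsg.Agent.LieClassical.OrthCore (Nondeg O E)
open Cfsg.Agent.LieClassical.OrthFinite (glEquiv)
open Cfsg.Agent.H955 (IsPlus res perp)
open Cfsg.Agent.H925 (qf nondeg_qf)
open Cfsg.Agent.H957 (isoQ glOf eOf glOf_mulVec)

/-- `G = H X` -/
theorem relIndex_eq_of_fac {Γ : Type*} [Group Γ] {X H G : Subgroup Γ} (hle : H ≤ G)
    (h : ∀ g ∈ G, ∃ y ∈ H, ∃ x ∈ X, g = y * x) : X.relIndex H = X.relIndex G := by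
  rw [← MulAction.stabilizer_quotient X, relIndex_stabilizer, relIndex_stabilizer]
  congr 1
  ext b
  refine ⟨fun ⟨g, hg, hb⟩ => ⟨g, hle hg, hb⟩, fun ⟨g, hg, hb⟩ => ?_⟩
  obtain ⟨y, hy, x, hx, rfl⟩ := h g hg
  refine ⟨y, hy, ?_⟩
  rw [← MulAction.stabilizer_quotient X] at hx
  rw [← hb, mul_smul, MulAction.mem_stabilizer_iff.1 hx]

theorem card_mul_relIndex {Γ : Type*} [Group Γ] (X G : Subgroup Γ) :
    Nat.card (X ⊓ G : Subgroup Γ) * X.relIndex G = Nat.card G := by
  rw [← Subgroup.inf_relIndex_right]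
  have h := Subgroup.relIndex_mul_relIndex (⊥ : Subgroup Γ) (X ⊓ G) G bot_le inf_le_right
  rwa [Subgroup.relIndex_bot_left, Subgroup.relIndex_bot_left] at h

theorem card_isoQ_minus {F : Type} [Field F] [Fintype F] {V : Type} [AddCommGroup V] [Module F V] [FiniteDimensional F V]
    {Q : QuadraticForm F V} (hQ : Nondeg Q) {k : ℕ} (hd : finrank F V = 2 * (k + 1)) (hP : ¬ IsPlus Q) :
    Nat.card (isoQ Q) = 2 * Fintype.card F ^ ((k + 1) * k) * (Fintype.card F ^ (k + 1) + 1) *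
      ∏ i ∈ Finset.range k, (Fintype.card F ^ (2 * (i + 1)) - 1) := by
  obtain ⟨a, b, hab⟩ := H955.exists_aniso_coeff F
  obtain ⟨e, he⟩ := H955.exists_minus_equiv hab k Q hQ hd hP
  rw [H957.card_isoQ_congr e he, ← H957.card_isometryGroup]
  exact H957.card_isometryGroup_minus _ (H955.nondeg_minus k hab) (m := k + 1) (by omega)
    (by simp only [Fintype.card_sum, Fintype.card_fin]; ring) (H955.not_isPlus_minus k hab)

variable {ι : Type} [Fintype ι] [DecidableEq ι] {K : Type} [Field K] [Fintype K] {Q : (ι → K) → K}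

theorem ncard_sq_one : {c : K | c ^ 2 = 1}.ncard = Nat.gcd 2 (Fintype.card K - 1) := by
  have h1 : {c : K | c ^ 2 = 1} = {1, -1} := by
    ext c
    simp [sq_eq_one_iff]
  have hq : 1 < Fintype.card K := Fintype.one_lt_card
  rw [h1]
  rcases Nat.even_or_odd (Fintype.card K) with h | h
  · have h2 : (-1 : K) = 1 := by
      have : ringChar K = 2 := FiniteField.even_card_iff_char_two.2 (Nat.even_iff.1 h)
      have : CharP K 2 := this ▸ ringChar.charP K
      exact CharTwo.neg_eq 1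
    rw [h2, Set.pair_eq_singleton, Set.ncard_singleton]
    exact (Nat.Coprime.gcd_eq_one ((Nat.coprime_two_left).2 (Nat.Even.sub_odd hq.le h odd_one))).symm
  · rw [Set.ncard_pair fun h2 => two_ne_zero_of_odd h (by linear_combination h2)]
    exact (Nat.gcd_eq_left (Nat.Odd.sub_odd h odd_one).two_dvd).symm

/-- the orbit of a non-singular point under `Ω(Q)` -/
theorem relIndex_omega (hQ : IsNondegenerateQuadraticForm Q) (hn : 5 ≤ Fintype.card ι) {v : ι → K} (hv : Q v ≠ 0) :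
    (subspaceStabilizer (Submodule.span K {v})).relIndex (omegaGL Q) * Nat.gcd 2 (Fintype.card K - 1) =
      Nat.card {w : ι → K // qf hQ w = qf hQ v} := by
  have hv0 : v ≠ 0 := by
    rintro rfl
    exact hv (map_zero (qf hQ))
  have h1 := ncard_orb (omegaGL Q) hv0
  rw [orb_omega hQ hn hv] at h1
  have h2 : {c : K | c • v ∈ {w | Q w = Q v}} = {c : K | c ^ 2 = 1} := by
    ext c
    change Q (c • v) = Q v ↔ c ^ 2 = 1
    rw [hQ.smul, mul_eq_right₀ hv]
  rw [h2, ncard_sq_one, ← Nat.card_coe_set_eq] at h1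
  exact h1.symm

theorem idx_p1 (hQ : IsNondegenerateQuadraticForm Q) (hp : IsPlusTypeOn Q ⊤) {m : ℕ} (hd : Fintype.card ι = 2 * m)
    (hn : 5 ≤ Fintype.card ι) {v : ι → K} (hv : Q v ≠ 0) :
    (subspaceStabilizer (Submodule.span K {v})).relIndex (omegaGL Q) * Nat.gcd 2 (Fintype.card K - 1) =
      Fintype.card K ^ (m - 1) * (Fintype.card K ^ m - 1) := by
  obtain ⟨k, rfl⟩ : ∃ k, m = k + 1 := ⟨m - 1, by omega⟩
  rw [relIndex_omega hQ hn hv, card_norm_plus' (nondeg_qf hQ) (k := k)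
    (by rw [Module.finrank_fintype_fun_eq_card, hd]) ((isPlus_iff hQ).2 hp) (c := qf hQ v) hv, Nat.card_eq_fintype_card,
    Nat.add_sub_cancel]

theorem idx_o (hQ : IsNondegenerateQuadraticForm Q) (hq : Odd (Fintype.card K)) {m : ℕ}
    (hd : Fintype.card ι = 2 * m + 1) (hn : 5 ≤ Fintype.card ι) {W : Submodule K (ι → K)} (h2 : finrank K W = 2 * m)
    (hnd : IsNondegenerateOn (polar Q) W) (hW : ¬ IsPlusTypeOn Q W) :
    (subspaceStabilizer W).relIndex (omegaGL Q) * 2 = Fintype.card K ^ m * (Fintype.card K ^ m - 1) := by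
  obtain ⟨v, hv, hWv⟩ := exists_pole hQ (by rw [h2, hd]) hnd
  have hW' : W = perp (qf hQ) (Submodule.span K {v}) := by
    ext w
    rw [hWv, H955.mem_perp]
    constructor
    · intro h u hu
      obtain ⟨a, rfl⟩ := Submodule.mem_span_singleton.1 hu
      rw [polar_smul_left]
      change a • polar Q v w = 0
      rw [h, smul_zero]
    · intro h
      exact h _ (Submodule.mem_span_singleton_self _)
  have h1 := relIndex_omega hQ hn hv
  rw [Nat.gcd_eq_left (Nat.Odd.sub_odd hq odd_one).two_dvd, ← relIndex_pole hQ hWv (H925.omegaGL_le_iso Q)] at h1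
  have h3 := card_norm_odd_minus (two_ne_zero_of_odd hq) (nondeg_qf hQ) (k := m)
    (by rw [Module.finrank_fintype_fun_eq_card, hd]) (v := v) hv (by rw [← hW', isPlus_res_iff hQ]; exact hW)
  rw [← h1, Nat.card_eq_fintype_card, two_mul, pow_add] at h3
  rw [Nat.mul_sub, mul_one, ← h3, Nat.add_sub_cancel]

theorem card_sp (hQ : IsNondegenerateQuadraticForm Q) (hq : Even (Fintype.card K)) {m : ℕ}
    (hd : Fintype.card ι = 2 * m) : Nat.card (preserving (Units.coeHom (Matrix ι ι K)) (polar Q)) =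
      Fintype.card K ^ (m ^ 2) * ∏ i ∈ Finset.range m, (Fintype.card K ^ (2 * (i + 1)) - 1) := by
  have h2 : ringChar K = 2 := FiniteField.even_card_iff_char_two.2 (Nat.even_iff.1 hq)
  have : CharP K 2 := h2 ▸ ringChar.charP K
  rw [← H727.GW.card_isomGroup (polarBilin (qf hQ)) (fun x => by
      change polar (qf hQ) x x = 0
      rw [polar_self, two_smul, CharTwo.add_self_eq_zero]) (nondeg_qf hQ)
    (by rw [Module.finrank_fintype_fun_eq_card, hd])]
  exact Nat.card_congr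
    { toFun := fun x => ⟨eOf (x : GL ι K), x.2⟩
      invFun := fun g => ⟨glOf (g : (ι → K) ≃ₗ[K] (ι → K)), fun u v => by
        change polar Q ((glOf g.1 : Matrix ι ι K) *ᵥ u) ((glOf g.1 : Matrix ι ι K) *ᵥ v) = _
        rw [glOf_mulVec, glOf_mulVec]
        exact g.2 u v⟩
      left_inv := fun x => Subtype.ext (H957.glOf_eOf _)
      right_inv := fun g => Subtype.ext (H957.eOf_glOf _) }

theorem idx_s (hQ : IsNondegenerateQuadraticForm Q) (hp : ¬ IsPlusTypeOn Q ⊤) (hq : Even (Fintype.card K)) {m : ℕ}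
    (hd : Fintype.card ι = 2 * m) (hm : 1 ≤ m) :
    (isometryGroup K Q).relIndex (preserving (Units.coeHom (Matrix ι ι K)) (polar Q)) * 2 =
      Fintype.card K ^ m * (Fintype.card K ^ m - 1) := by
  have h1 := card_mul_relIndex (isometryGroup K Q) (preserving (Units.coeHom (Matrix ι ι K)) (polar Q))
  have hle : isometryGroup K Q ≤ preserving (Units.coeHom (Matrix ι ι K)) (polar Q) := fun g hg => polar_iso hg
  have h2 : Nat.card (isometryGroup K Q) = _ :=
    H957.card_isometryGroup_minus (qf hQ) (nondeg_qf hQ) hm hd fun h => hp ((isPlus_iff hQ).1 h)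
  rw [inf_eq_left.2 hle, card_sp hQ hq hd, h2] at h1
  rw [mul_comm]
  exact H957.index_arith Fintype.one_lt_card hm false h1

/-- the stabiliser of a non-degenerate subspace in the orthogonal group -/
theorem card_stab (hQ : IsNondegenerateQuadraticForm Q) {W : Submodule K (ι → K)} (hW : Nondeg (res (qf hQ) W)) :
    Nat.card (subspaceStabilizer W ⊓ isometryGroup K Q : Subgroup (GL ι K)) =
      Nat.card (isoQ (res (qf hQ) W)) * Nat.card (isoQ (res (qf hQ) (perp (qf hQ) W))) := by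
  have key : ∀ x : isoQ (res (qf hQ) W) × isoQ (res (qf hQ) (perp (qf hQ) W)),
      ∃ g : (subspaceStabilizer W ⊓ isometryGroup K Q : Subgroup (GL ι K)),
        (∀ w : W, ((g : GL ι K) : Matrix ι ι K) *ᵥ (w : ι → K) = x.1.1 w) ∧
          ∀ w : perp (qf hQ) W, ((g : GL ι K) : Matrix ι ι K) *ᵥ (w : ι → K) = x.2.1 w := by
    intro x
    obtain ⟨e, he, h1, h2⟩ := H955.exists_glueQ hW hW x.1.1 x.1.2 x.2.1 x.2.2
    refine ⟨⟨glOf e, mem_stab_iff.2 fun w hw => ?_, H957.glOf_mem (Q := qf hQ) he⟩, fun w => ?_, fun w => ?_⟩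
    · rw [glOf_mulVec, h1 ⟨w, hw⟩]
      exact Subtype.mem _
    · exact (glOf_mulVec e w).trans (h1 w)
    · exact (glOf_mulVec e w).trans (h2 w)
  choose Φ h1 h2 using key
  rw [← Nat.card_prod]
  refine (Nat.card_congr (Equiv.ofBijective Φ ⟨fun x y h => ?_, fun g => ?_⟩)).symm
  · refine Prod.ext (Subtype.ext (LinearEquiv.ext fun w => Subtype.ext ?_))
      (Subtype.ext (LinearEquiv.ext fun w => Subtype.ext ?_))
    · rw [← h1, ← h1, h]
    · rw [← h2, ← h2, h]
  · have hmap : ∀ A : Submodule K (ι → K), (∀ a ∈ A, ((g : GL ι K) : Matrix ι ι K) *ᵥ a ∈ A) →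
        A.map (eOf (g : GL ι K) : (ι → K) →ₗ[K] (ι → K)) = A := by
      intro A hA
      apply Submodule.eq_of_le_of_finrank_eq
      · rintro _ ⟨a, ha, rfl⟩
        exact hA a ha
      · exact LinearEquiv.finrank_map_eq _ A
    have hP : ∀ a ∈ perp (qf hQ) W, ((g : GL ι K) : Matrix ι ι K) *ᵥ a ∈ perp (qf hQ) W := by
      intro x hx a ha
      have h3 := mem_stab_iff.1 ((subspaceStabilizer W).inv_mem g.2.1) a ha
      have h4 := polar_iso g.2.2 ((((g : GL ι K)⁻¹ : GL ι K) : Matrix ι ι K) *ᵥ a) x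
      rw [mulVec_mulVec, ← Units.val_mul, mul_inv_cancel, Units.val_one, one_mulVec] at h4
      exact h4.trans (hx _ h3)
    let x : isoQ (res (qf hQ) W) × isoQ (res (qf hQ) (perp (qf hQ) W)) :=
      (⟨(eOf (g : GL ι K)).ofSubmodules W W (hmap W (mem_stab_iff.1 g.2.1)), fun w => H925.mem_iso_iff.1 g.2.2 w⟩,
        ⟨(eOf (g : GL ι K)).ofSubmodules _ _ (hmap _ hP), fun w => H925.mem_iso_iff.1 g.2.2 w⟩)
    refine ⟨x, Subtype.ext (H957.glOf_ext fun v => ?_)⟩
    obtain ⟨y, rfl⟩ := (H955.decomp hW).surjective v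
    rw [H955.decomp_apply, mulVec_add, mulVec_add, h1, h2]
    rfl

/-- `O(Q) = Ω(Q) Stab(W)` if the perp of `W` takes all values -/
theorem relIndex_omega_eq (hQ : IsNondegenerateQuadraticForm Q) (hn : 5 ≤ Fintype.card ι) {W : Submodule K (ι → K)}
    (hW : ∀ c : K, ∃ v ∈ perp (qf hQ) W, qf hQ v = c) :
    (subspaceStabilizer W).relIndex (omegaGL Q) = (subspaceStabilizer W).relIndex (isometryGroup K Q) := by
  refine relIndex_eq_of_fac (H925.omegaGL_le_iso Q) fun g hg => ?_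
  have hg' : eOf g⁻¹ ∈ O (qf hQ) := H957.eOf_mem (Q := qf hQ) ((isometryGroup K Q).inv_mem hg)
  obtain ⟨h, hh, w, hw, he⟩ := H955.exists_refl_mul (H925.good_qf hQ hn) hW hg'
  obtain ⟨y, hy, hyw⟩ := H925.exists_omegaGL hQ hn hw
  refine ⟨y⁻¹, (omegaGL Q).inv_mem hy, (glOf h)⁻¹, (subspaceStabilizer W).inv_mem (mem_stab_iff.2 fun a ha => ?_), ?_⟩
  · rw [glOf_mulVec, H955.reflGrp_fix hh a (by rwa [H955.perp_perp (nondeg_qf hQ)])]
    exact ha
  · rw [← _root_.mul_inv_rev, ← inv_eq_iff_eq_inv, eq_comm]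
    refine H957.glOf_ext fun v => ?_
    rw [Units.val_mul, ← mulVec_mulVec, hyw, glOf_mulVec, ← H957.eOf_apply, he]
    rfl

theorem idx_p2 (hQ : IsNondegenerateQuadraticForm Q) (hp : IsPlusTypeOn Q ⊤) {m : ℕ} (hd : Fintype.card ι = 2 * m)
    (hn : 5 ≤ Fintype.card ι) {W : Submodule K (ι → K)} (h2 : finrank K W = 2) (hW : ∀ w ∈ W, Q w = 0 → w = 0) :
    (subspaceStabilizer W).relIndex (omegaGL Q) * (2 * (Fintype.card K + 1)) =
      Fintype.card K ^ (2 * m - 2) * (Fintype.card K ^ m - 1) * (Fintype.card K ^ (m - 1) - 1) := by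
  obtain ⟨k, rfl⟩ : ∃ k, m = k + 2 := ⟨m - 2, by omega⟩
  have ha : ∀ w : W, res (qf hQ) W w = 0 → w = 0 := fun w hw => Subtype.ext (hW w w.2 hw)
  have hnd : Nondeg (res (qf hQ) W) := H955.nondeg_of_aniso h2 ha
  have hm : ¬ IsPlus (res (qf hQ) W) := H955.not_isPlus_of_aniso ha (by omega)
  have hV : finrank K (ι → K) = 2 * (k + 2) := by rw [Module.finrank_fintype_fun_eq_card, hd]
  have hP := (isPlus_iff hQ).2 hp
  have hm' : ¬ IsPlus (res (qf hQ) (perp (qf hQ) W)) := fun h =>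
    hm (((H955.isPlus_iff_perp (nondeg_qf hQ) hnd (by rw [hV]; exact even_two_mul _) (by rw [h2]; exact even_two)).1
      hP).2 h)
  have hnd' := H955.nondeg_perp (nondeg_qf hQ) hnd
  have hd' : finrank K (perp (qf hQ) W) = 2 * (k + 1) := by
    have := H955.finrank_add_perp (nondeg_qf hQ) W
    omega
  have hq : 1 < Fintype.card K := Fintype.one_lt_card
  rw [relIndex_omega_eq hQ hn fun c => ?_]
  swap
  · by_cases hc : c = 0
    · exact ⟨0, Submodule.zero_mem _, by rw [map_zero, hc]⟩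
    · have h3 := card_norm_minus' hnd' hd' hm' hc
      have h4 : 0 < Nat.card K := Nat.card_pos
      obtain ⟨⟨v, hv⟩, -⟩ := Nat.card_ne_zero.1 (h3.trans_ne (by positivity))
      exact ⟨v, v.2, hv⟩
  have h1 := card_mul_relIndex (subspaceStabilizer W) (isometryGroup K Q)
  have h3 : Nat.card (isometryGroup K Q) = _ :=
    H957.card_isometryGroup_plus (qf hQ) (nondeg_qf hQ) (m := k + 2) (by omega) hd hP
  rw [card_stab hQ hnd, card_isoQ_minus hnd (k := 0) h2 hm, card_isoQ_minus hnd' hd' hm', h3,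
    show k + 2 - 1 = k + 1 from rfl, Finset.prod_range_succ, Finset.prod_range_zero] at h1
  generalize (subspaceStabilizer W).relIndex (isometryGroup K Q) = N at h1 ⊢
  have hP0 : 0 < ∏ i ∈ Finset.range k, (Fintype.card K ^ (2 * (i + 1)) - 1) := Finset.prod_pos fun i _ =>
    Nat.sub_pos_of_lt (Nat.one_lt_pow (by omega) hq)
  generalize ∏ i ∈ Finset.range k, (Fintype.card K ^ (2 * (i + 1)) - 1) = P at h1 hP0
  generalize Fintype.card K = q at h1 hq ⊢
  have e2 : q ^ (2 * (k + 1)) - 1 = (q ^ (k + 1) + 1) * (q ^ (k + 1) - 1) := by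
    rw [← Nat.sq_sub_sq, one_pow, ← pow_mul, mul_comm]
  have e1 : q ^ ((k + 2) * (k + 1)) = q ^ ((k + 1) * k) * q ^ (2 * (k + 2) - 2) := by
    rw [← pow_add, show 2 * (k + 2) - 2 = 2 * (k + 1) from rfl]
    ring_nf
  rw [e1, e2] at h1
  refine Nat.eq_of_mul_eq_mul_left (show 0 < 2 * q ^ ((k + 1) * k) * (q ^ (k + 1) + 1) * P by positivity) ?_
  rw [show k + 2 - 1 = k + 1 from rfl]
  linear_combination h1

end Cfsg.Agent.SM.CS.Ix

namespace Cfsg.Agent.SM.CS

theorem boxIdx : BoxIdx := by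
  intro ι _ _ K _ _ k q m B Sg G X h hn
  cases h with
  | u f hf hK hd v hv => exact Ix.idx_u hK hf hd (by omega) hv
  | p1 Q hQ hp hK hd v hv => exact hK ▸ Ix.idx_p1 hQ hp hd (by omega) hv
  | p2 Q hQ hp hK hd W h2 hW => exact hK ▸ Ix.idx_p2 hQ hp hd (by omega) h2 hW
  | o Q hQ hK hq hd W h2 hnd hW => exact hK ▸ Ix.idx_o hQ (hK ▸ hq) hd (by omega) h2 hnd hW
  | s Q hQ hp hK hq hd => exact hK ▸ Ix.idx_s hQ hp (hK ▸ hq) hd (by omega)

end Cfsg.Agent.SM.CS
end
end

-- part: SM/CSBo/B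
section
prune_inst 0x10000000000000
set_option linter.all false
open scoped Cfsg.Agent.FastGrp

/-!
# SM (S3570), box CS-Bo: the class of `-r_a` in `Ω₉(q)` (helper9)

`exists_pack : ∃ Z, Pack (POmega F (quadFormOdd 4 F)) q Z`.
-/

set_option autoImplicit false
set_option linter.unusedSectionVars false

namespace Cfsg.Agent.SM.CS.Bo

open Subgroup QuadraticMap Module
open Cfsg.Agent.LieClassical.OrthCore Cfsg.Agent.LieClassical.OrthTrans
open Cfsg.Agent.AutOrth.SemiSim (IsSemi conjL conjE conjL_apply')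
open Cfsg.Agent.H955 (IsPlus res perp)

section isz

variable {F V : Type} [Field F] [AddCommGroup V] [Module F V] {Q : QuadraticForm F V} {z z' : V ≃ₗ[F] V} {a b : V}

/-- `z = - r_a` -/
structure IsZ (Q : QuadraticForm F V) (z : V ≃ₗ[F] V) (a : V) : Prop where
  ne : Q a ≠ 0
  fix : z a = a
  neg : ∀ v, polar Q a v = 0 → z v = -v

theorem IsZ.apply (h2 : (2 : F) ≠ 0) (h : IsZ Q z a) (v : V) : z v = -refl Q a h.ne v := by
  have hne := h.ne
  have h1 : polar Q a (v - ((2 * Q a)⁻¹ * polar Q a v) • a) = 0 := by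
    rw [polar_sub_right, polar_smul_right, polar_self', smul_eq_mul]
    field_simp
    ring
  have h3 := h.neg _ h1
  rw [map_sub, map_smul, h.fix, sub_eq_iff_eq_add] at h3
  rw [h3, refl_apply]
  match_scalars
  · ring
  · field_simp
    ring

theorem isZ_refl (ha : Q a ≠ 0) : IsZ Q (LinearEquiv.neg F * refl Q a ha) a := by
  refine ⟨ha, ?_, fun v hv => ?_⟩
  · change -(refl Q a ha a) = a
    rw [refl_apply, polar_self']
    match_scalars
    field_simp
    ring
  · change -(refl Q a ha v) = -v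
    rw [refl_apply, hv, mul_zero, zero_smul, sub_zero]

theorem IsZ.unique (h2 : (2 : F) ≠ 0) (h : IsZ Q z a) (h' : IsZ Q z' a) : z = z' :=
  LinearEquiv.ext fun v => by rw [h.apply h2, h'.apply h2]

theorem IsZ.smul (h : IsZ Q z a) {c : F} (hc : c ≠ 0) : IsZ Q z (c • a) := by
  refine ⟨?_, by rw [map_smul, h.fix], fun v hv => h.neg v ?_⟩
  · rw [QuadraticMap.map_smul, smul_eq_mul]
    exact mul_ne_zero (mul_ne_zero hc hc) h.ne
  · rw [polar_smul_left, smul_eq_mul] at hv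
    exact (mul_eq_zero.1 hv).resolve_left hc

theorem IsZ.neg' (h : IsZ Q z a) : IsZ Q z (-a) := by
  rw [← neg_one_smul F a]
  exact h.smul (neg_ne_zero.2 one_ne_zero)

theorem IsZ.line (h2 : (2 : F) ≠ 0) (h : IsZ Q z a) (hb : z b = b) (hQ : Q b = Q a) : b = a ∨ b = -a := by
  have h1 := h.apply h2 b
  rw [hb, refl_apply] at h1
  have h3 : b = ((2 : F)⁻¹ * ((Q a)⁻¹ * polar Q a b)) • a := by
    rw [mul_smul, eq_inv_smul_iff₀ h2, two_smul]
    nth_rewrite 1 [h1]
    abel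
  generalize (2 : F)⁻¹ * ((Q a)⁻¹ * polar Q a b) = c at h3
  rw [h3, QuadraticMap.map_smul, smul_eq_mul] at hQ
  have h4 : (c - 1) * (c + 1) = 0 := by
    apply mul_right_cancel₀ h.ne
    linear_combination hQ
  rcases mul_eq_zero.1 h4 with h5 | h5
  · left
    rw [h3, sub_eq_zero.1 h5, one_smul]
  · right
    rw [h3, eq_neg_of_add_eq_zero_left h5, neg_one_smul]

theorem IsZ.semi (h : IsZ Q z a) {M : V ≃+ V} {σ : F ≃+* F} {c : F} (hM : IsSemi Q M σ c) : IsZ Q (conjL hM z) (M a) := by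
  refine ⟨?_, by rw [conjL_apply', h.fix], fun v hv => ?_⟩
  · rw [hM.form]
    exact mul_ne_zero hM.ne ((map_ne_zero σ).2 h.ne)
  · obtain ⟨v, rfl⟩ := M.surjective v
    rw [hM.polar] at hv
    have h1 : polar Q a v = 0 := (map_eq_zero σ).1 ((mul_eq_zero.1 hv).resolve_left hM.ne)
    rw [conjL_apply', h.neg v h1, map_neg]

theorem IsZ.conj (h : IsZ Q z a) {g : V ≃ₗ[F] V} (hg : g ∈ O Q) : IsZ Q (g * z * g⁻¹) (g a) := by
  have key : ∀ v, (g * z * g⁻¹) (g v) = g (z v) := fun v => by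
    change g (z (g.symm (g v))) = _
    rw [g.symm_apply_apply]
  refine ⟨by rw [mem_O.1 hg]; exact h.ne, by rw [key, h.fix], fun v hv => ?_⟩
  obtain ⟨v, rfl⟩ := g.surjective v
  rw [polar_map hg] at hv
  rw [key, h.neg v hv, map_neg]

theorem IsZ.comm_iff (h2 : (2 : F) ≠ 0) (h : IsZ Q z a) {g : V ≃ₗ[F] V} (hg : g ∈ O Q) :
    g * z = z * g ↔ g a = a ∨ g a = -a := by
  constructor
  · intro hc
    refine h.line h2 ?_ (mem_O.1 hg a)
    change (z * g) a = _
    rw [← hc]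
    change g (z a) = _
    rw [h.fix]
  · intro hc
    have h1 := h.conj hg
    rw [← mul_inv_eq_iff_eq_mul]
    rcases hc with hc | hc
    · rw [hc] at h1
      exact h1.unique h2 h
    · rw [hc] at h1
      exact h1.unique h2 h.neg'

theorem ne_neg_of (h2 : (2 : F) ≠ 0) (ha : Q a ≠ 0) : a ≠ -a := by
  intro h
  have h1 : (2 : F) • a = 0 := by
    rw [two_smul]
    exact add_eq_zero_iff_eq_neg.2 h
  rw [(smul_eq_zero.1 h1).resolve_left h2] at ha
  exact ha (QuadraticMap.map_zero Q)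

theorem ne_zero_of (ha : Q a ≠ 0) : a ≠ 0 := by
  rintro rfl
  exact ha (QuadraticMap.map_zero Q)

theorem IsZ.norm_one [Finite F] [Finite V] (h2 : (2 : F) ≠ 0) (h : IsZ Q z a) (h' : IsZ Q z' b) (hz : z ∈ E Q)
    (hz' : z' ∈ E Q) (ha : Q a = 1) : ∃ b', Q b' = 1 ∧ IsZ Q z' b' := by
  classical
  have h1 : z * z' = refl Q a h.ne * refl Q b h'.ne := LinearEquiv.ext fun v => by
    change z (z' v) = refl Q a h.ne (refl Q b h'.ne v)
    rw [h.apply h2, h'.apply h2, map_neg, neg_neg]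
  have h3 := H887.IF.spin_E h2 (⟨z * z', (E Q).mul_mem hz hz'⟩ : E Q)
  have h4 : (⟨z * z', E_le_O ((E Q).mul_mem hz hz')⟩ : O Q) =
      ⟨refl Q a h.ne, refl_mem_O h.ne⟩ * ⟨refl Q b h'.ne, refl_mem_O h'.ne⟩ := Subtype.ext h1
  change H160.QSpin.spin Q ⟨z * z', E_le_O ((E Q).mul_mem hz hz')⟩ = 1 at h3
  rw [h4, map_mul, H160.QSpin.spin_refl h2, H160.QSpin.spin_refl h2, if_pos (by rw [ha]; exact IsSquare.one)] at h3
  have h5 : IsSquare (Q b) := by
    by_contra h6
    rw [if_neg h6] at h3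
    exact absurd h3 (by decide)
  obtain ⟨c, hc⟩ := h5
  have hc0 : c ≠ 0 := by
    rintro rfl
    exact h'.ne (by rw [hc, mul_zero])
  refine ⟨c⁻¹ • b, ?_, h'.smul (inv_ne_zero hc0)⟩
  rw [QuadraticMap.map_smul, smul_eq_mul, hc]
  field_simp

/-- the class -/
def ZS (Q : QuadraticForm F V) : Set (E Q) := {z | ∃ a, Q a = 1 ∧ IsZ Q (z : V ≃ₗ[F] V) a}

theorem mem_cent (h2 : (2 : F) ≠ 0) {z : E Q} (h : IsZ Q (z : V ≃ₗ[F] V) a) (g : E Q) :
    g ∈ centralizer {z} ↔ g • a = a ∨ g • a = -a := by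
  rw [mem_centralizer_singleton_iff, Subtype.ext_iff]
  exact h.comm_iff h2 (E_le_O g.2)

/-- a frame -/
structure Fr (Q : QuadraticForm F V) (a : V) (x y : Fin 4 → V) : Prop where
  qa : Q a = 1
  qx : ∀ i, Q (x i) = 0
  qy : ∀ i, Q (y i) = 0
  xx : ∀ i j, polar Q (x i) (x j) = 0
  yy : ∀ i j, polar Q (y i) (y j) = 0
  xy : ∀ i j, i ≠ j → polar Q (x i) (y j) = 0
  xy1 : ∀ i, polar Q (x i) (y i) = 1
  xa : ∀ i, polar Q (x i) a = 0
  ya : ∀ i, polar Q (y i) a = 0
  ext : ∀ f g : V ≃ₗ[F] V, f a = g a → (∀ i, f (x i) = g (x i)) → (∀ i, f (y i) = g (y i)) → f = g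

namespace Fr

variable {x y : Fin 4 → V} (h : Fr Q a x y)
include h

theorem yx {i j : Fin 4} (hij : i ≠ j) : polar Q (y i) (x j) = 0 := by
  rw [polar_comm]
  exact h.xy j i hij.symm

theorem hyp2 {i j : Fin 4} (hij : i ≠ j) : H137.Hyp2 Q (x i) (y i) (x j) (y j) :=
  ⟨⟨h.qx i, h.qy i, h.xy1 i⟩, ⟨h.qx j, h.qy j, h.xy1 j⟩, h.xx i j, h.xy i j hij, h.yx hij, h.yy i j⟩

theorem nn_a {i j : Fin 4} (hij : i ≠ j) : H137.nn Q (x i) (y i) (x j) (y j) a = a :=
  H137.nn_fix (h.hyp2 hij) (h.xa i) (h.ya i) (h.xa j) (h.ya j)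

theorem nn_x {i j : Fin 4} (hij : i ≠ j) (k : Fin 4) :
    H137.nn Q (x i) (y i) (x j) (y j) (x k) = if k = i then x j else if k = j then -x i else x k := by
  split_ifs with h1 h3
  · rw [h1, H137.nn_x (h.hyp2 hij)]
  · rw [h3, H137.nn_y (h.hyp2 hij)]
  · exact H137.nn_fix (h.hyp2 hij) (h.xx i k) (h.yx (Ne.symm h1)) (h.xx j k) (h.yx (Ne.symm h3))

theorem nn_y {i j : Fin 4} (hij : i ≠ j) (k : Fin 4) :
    H137.nn Q (x i) (y i) (x j) (y j) (y k) = if k = i then y j else if k = j then -y i else y k := by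
  split_ifs with h1 h3
  · rw [h1, H137.nn_x' (h.hyp2 hij)]
  · rw [h3, H137.nn_y' (h.hyp2 hij)]
  · exact H137.nn_fix (h.hyp2 hij) (h.xy i k (Ne.symm h1)) (h.yy i k) (h.xy j k (Ne.symm h3)) (h.yy j k)

theorem sq : ∃ u g : E Q, u * (g * u * g⁻¹) = g * u * g⁻¹ * u ∧ u ^ 4 = 1 ∧ u ^ 2 * (g * u * g⁻¹) ^ 2 ∈ ZS Q := by
  have ha : Q a ≠ 0 := by rw [h.qa]; exact one_ne_zero
  have hz := isZ_refl ha
  have hzx : ∀ i, (LinearEquiv.neg F * refl Q a ha : V ≃ₗ[F] V) (x i) = -x i := fun i =>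
    hz.neg _ (by rw [polar_comm]; exact h.xa i)
  have hzy : ∀ i, (LinearEquiv.neg F * refl Q a ha : V ≃ₗ[F] V) (y i) = -y i := fun i =>
    hz.neg _ (by rw [polar_comm]; exact h.ya i)
  have hza := hz.fix
  have a01 := h.nn_a (i := 0) (j := 1) (by decide)
  have a23 := h.nn_a (i := 2) (j := 3) (by decide)
  have a02 := h.nn_a (i := 0) (j := 2) (by decide)
  have a13 := h.nn_a (i := 1) (j := 3) (by decide)
  have x01 := h.nn_x (i := 0) (j := 1) (by decide)
  have x23 := h.nn_x (i := 2) (j := 3) (by decide)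
  have x02 := h.nn_x (i := 0) (j := 2) (by decide)
  have x13 := h.nn_x (i := 1) (j := 3) (by decide)
  have y01 := h.nn_y (i := 0) (j := 1) (by decide)
  have y23 := h.nn_y (i := 2) (j := 3) (by decide)
  have y02 := h.nn_y (i := 0) (j := 2) (by decide)
  have y13 := h.nn_y (i := 1) (j := 3) (by decide)
  have m01 := H137.nn_mem_E (Q := Q) (x 0) (y 0) (x 1) (y 1)
  have m23 := H137.nn_mem_E (Q := Q) (x 2) (y 2) (x 3) (y 3)
  have m02 := H137.nn_mem_E (Q := Q) (x 0) (y 0) (x 2) (y 2)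
  have m13 := H137.nn_mem_E (Q := Q) (x 1) (y 1) (x 3) (y 3)
  generalize H137.nn Q (x 0) (y 0) (x 1) (y 1) = u at *
  generalize H137.nn Q (x 2) (y 2) (x 3) (y 3) = w at *
  generalize H137.nn Q (x 0) (y 0) (x 2) (y 2) = g at *
  generalize H137.nn Q (x 1) (y 1) (x 3) (y 3) = g' at *
  generalize (LinearEquiv.neg F * refl Q a ha : V ≃ₗ[F] V) = s at *
  have e1 : g * g' * u = w * (g * g') := by
    refine h.ext _ _ ?_ (fun i => ?_) (fun i => ?_)
    · simp only [LinearEquiv.mul_apply, a01, a23, a02, a13]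
    · (revert i; simp only [LinearEquiv.mul_apply, x01, x23, x02, x13, _root_.Fin.forall_fin_succ, Fin.isValue, ↓reduceIte, Fin.reduceEq, _root_.zero_ne_one, _root_.Fin.succ_ne_zero, _root_.Fin.succ_zero_eq_one, _root_.map_neg, _root_.Fin.succ_one_eq_two, Fin.reduceSucc, _root_.one_ne_zero, _root_.IsEmpty.forall_iff, _root_.and_self])
    · (revert i; simp only [LinearEquiv.mul_apply, y01, y23, y02, y13, _root_.Fin.forall_fin_succ, Fin.isValue, ↓reduceIte, Fin.reduceEq, _root_.zero_ne_one, _root_.Fin.succ_ne_zero, _root_.Fin.succ_zero_eq_one, _root_.map_neg, _root_.Fin.succ_one_eq_two, Fin.reduceSucc, _root_.one_ne_zero, _root_.IsEmpty.forall_iff, _root_.and_self])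
  have e2 : u * w = w * u := by
    refine h.ext _ _ ?_ (fun i => ?_) (fun i => ?_)
    · simp only [LinearEquiv.mul_apply, a01, a23]
    · (revert i; simp only [LinearEquiv.mul_apply, x01, x23, _root_.Fin.forall_fin_succ, Fin.isValue, Fin.reduceEq, ↓reduceIte, _root_.Fin.succ_ne_zero, _root_.Fin.succ_zero_eq_one, _root_.one_ne_zero, _root_.map_neg, _root_.Fin.succ_one_eq_two, Fin.reduceSucc, _root_.IsEmpty.forall_iff, _root_.and_self])
    · (revert i; simp only [LinearEquiv.mul_apply, y01, y23, _root_.Fin.forall_fin_succ, Fin.isValue, Fin.reduceEq, ↓reduceIte, _root_.Fin.succ_ne_zero, _root_.Fin.succ_zero_eq_one, _root_.one_ne_zero, _root_.map_neg, _root_.Fin.succ_one_eq_two, Fin.reduceSucc, _root_.IsEmpty.forall_iff, _root_.and_self])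
  have e3 : u * u * (u * u) = 1 := by
    refine h.ext _ _ ?_ (fun i => ?_) (fun i => ?_)
    · simp [LinearEquiv.mul_apply, a01]
    · (revert i; simp only [LinearEquiv.mul_apply, x01, _root_.Fin.forall_fin_succ, Fin.isValue, _root_.LinearEquiv.coe_one, _root_.id_eq, ↓reduceIte, _root_.one_ne_zero, _root_.map_neg, _root_.neg_neg, _root_.Fin.succ_ne_zero, _root_.Fin.succ_zero_eq_one, _root_.Fin.succ_one_eq_two, Fin.reduceEq, Fin.reduceSucc, _root_.IsEmpty.forall_iff, _root_.and_self])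
    · (revert i; simp only [LinearEquiv.mul_apply, y01, _root_.Fin.forall_fin_succ, Fin.isValue, _root_.LinearEquiv.coe_one, _root_.id_eq, ↓reduceIte, _root_.one_ne_zero, _root_.map_neg, _root_.neg_neg, _root_.Fin.succ_ne_zero, _root_.Fin.succ_zero_eq_one, _root_.Fin.succ_one_eq_two, Fin.reduceEq, Fin.reduceSucc, _root_.IsEmpty.forall_iff, _root_.and_self])
  have e4 : u * u * (w * w) = s := by
    refine h.ext _ _ ?_ (fun i => ?_) (fun i => ?_)
    · simp only [LinearEquiv.mul_apply, a01, a23, hza]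
    · (revert i; simp only [LinearEquiv.mul_apply, x01, x23, hzx, _root_.Fin.forall_fin_succ, Fin.isValue, Fin.reduceEq, ↓reduceIte, _root_.one_ne_zero, _root_.Fin.succ_zero_eq_one, _root_.map_neg, _root_.Fin.succ_one_eq_two, Fin.reduceSucc, _root_.IsEmpty.forall_iff, _root_.and_self])
    · (revert i; simp only [LinearEquiv.mul_apply, y01, y23, hzy, _root_.Fin.forall_fin_succ, Fin.isValue, Fin.reduceEq, ↓reduceIte, _root_.one_ne_zero, _root_.Fin.succ_zero_eq_one, _root_.map_neg, _root_.Fin.succ_one_eq_two, Fin.reduceSucc, _root_.IsEmpty.forall_iff, _root_.and_self])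
  have e5 : (⟨g * g', (E Q).mul_mem m02 m13⟩ : E Q) * ⟨u, m01⟩ * (⟨g * g', (E Q).mul_mem m02 m13⟩ : E Q)⁻¹ = ⟨w, m23⟩ := by
    rw [mul_inv_eq_iff_eq_mul]
    exact Subtype.ext e1
  refine ⟨⟨u, m01⟩, ⟨g * g', (E Q).mul_mem m02 m13⟩, ?_, ?_, a, h.qa, ?_⟩
  · rw [e5]
    exact Subtype.ext e2
  · rw [show (4 : ℕ) = 2 + 2 from rfl, pow_add, pow_two]
    exact Subtype.ext e3
  · rw [e5, pow_two, pow_two]
    change IsZ Q (u * u * (w * w)) a
    rw [e4]
    exact hz

end Fr

variable [Finite F] [FiniteDimensional F V]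

theorem pack_of (h2 : (2 : F) ≠ 0) (hG : Good Q) (hd : finrank F V = 9) {x y : Fin 4 → V} (hF : Fr Q a x y)
    (hP : IsPlus (res Q (perp Q (Submodule.span F {a})))) : Pack (E Q) (Nat.card F) (ZS Q) := by
  have hV : Finite V := Module.finite_of_finite F
  have n1 : ∀ {b : V}, Q b = 1 → Q b ≠ 0 := fun hb => by rw [hb]; exact one_ne_zero
  have tr : ∀ {b c : V}, Q b = 1 → Q c = 1 → ∃ g ∈ E Q, g b = c := fun hb hc =>
    hG.trans_norm (ne_zero_of (n1 hb)) (ne_zero_of (n1 hc)) (hb.trans hc.symm)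
  have c1 : {c : V | Q c = 1}.ncard = Nat.card F ^ 4 * (Nat.card F ^ 4 + 1) := by
    have := Ix.card_norm_odd_plus h2 hG.nondeg (k := 4) hd (n1 hF.qa) hP
    rw [hF.qa] at this
    rw [← Nat.card_coe_set_eq]
    refine this.trans (by ring)
  have c2 : ∀ b, Q b = 1 → {c : V | polar Q b c = 0 ∧ Q c = 1}.ncard = Nat.card F ^ 3 * (Nat.card F ^ 4 - 1) := by
    intro b hb
    obtain ⟨g, hg, rfl⟩ := tr hF.qa hb
    obtain ⟨p1, p2⟩ := Ix.perp_props h2 hG.nondeg (n1 hF.qa)
    have h1 := Ix.card_norm_plus' p1 (k := 3) (by omega) hP one_ne_zero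
    rw [← h1, ← Nat.card_coe_set_eq]
    symm
    refine Nat.card_congr ((Equiv.subtypeSubtypeEquivSubtypeInter (· ∈ perp Q (Submodule.span F {a}))
      fun w => Q w = 1).trans (Equiv.subtypeEquiv g.toEquiv fun w => ?_))
    change _ ↔ polar Q (g a) (g w) = 0 ∧ Q (g w) = 1
    rw [polar_map (E_le_O hg), mem_O.1 (E_le_O hg)]
    refine and_congr_left fun _ => ⟨fun hw => hw a (Submodule.mem_span_singleton_self a), fun hw t ht => ?_⟩
    obtain ⟨c, rfl⟩ := Submodule.mem_span_singleton.1 ht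
    rw [polar_smul_left, hw, smul_zero]
  have idx : ∀ z ∈ ZS Q, 2 * (centralizer {z}).index = Nat.card F ^ 4 * (Nat.card F ^ 4 + 1) := by
    rintro z ⟨b, hb, hz⟩
    obtain ⟨g, hg, hgb⟩ := tr hb (show Q (-b) = 1 by rw [QuadraticMap.map_neg, hb])
    rw [← relIndex_top_right, two_mul_relIndex ⊤ _ (ne_neg_of h2 hz.ne) (mem_cent h2 hz) (mem_top ⟨g, hg⟩) hgb, ← c1]
    congr 1
    ext c
    constructor
    · rintro ⟨g', -, rfl⟩
      exact (mem_O.1 (E_le_O g'.2) b).trans hb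
    · intro hc
      obtain ⟨g', hg', e⟩ := tr hb hc
      exact ⟨⟨g', hg'⟩, mem_top _, e⟩
  refine ⟨?_, ?_, ?_, idx, hF.sq, ?_⟩
  · rintro φ z ⟨b, hb, hz⟩
    have hc := H807.IF.center_odd hG h2 (by rw [hd]; decide)
    let e := H807.IF.quotOdd hc
    obtain ⟨M, σ, c, hM, hα⟩ := ClassicalGeometry.OrthAut4.exists_semi_P hG (by omega) ((e.trans φ).trans e.symm)
      (AutOrth.Main.pt_of_no_four hG (by omega) (fun h8 => by omega) _)
    have h1 : φ z = conjE hM z := by
      have h3 := congrArg e (hα z)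
      rw [MulEquiv.trans_apply, MulEquiv.apply_symm_apply] at h3
      exact h3
    rw [h1]
    exact hz.norm_one h2 (hz.semi hM) z.2 (conjE hM z).2 hb
  · rintro z ⟨b, hb, hz⟩ z' ⟨b', hb', hz'⟩
    obtain ⟨g, hg, rfl⟩ := tr hb hb'
    exact ⟨⟨g, hg⟩, Subtype.ext ((hz.conj (E_le_O hg)).unique h2 hz')⟩
  · rintro z ⟨b, hb, hz⟩ rfl
    obtain ⟨w, hw0, hw⟩ := exists_perp_ne (Q := Q) ![b] (by omega)
    have h1 : w = -w := hz.neg w (hw 0)
    have h3 : (2 : F) • w = 0 := by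
      rw [two_smul]
      exact add_eq_zero_iff_eq_neg.2 h1
    exact hw0 ((smul_eq_zero.1 h3).resolve_left h2)
  · rintro z hzZ z' ⟨b', hb', hz'⟩ hne hc
    have hi := idx z hzZ
    obtain ⟨b, hb, hz⟩ := hzZ
    have h1 : (z : V ≃ₗ[F] V) b' = -b' := by
      rcases (hz'.comm_iff h2 (E_le_O z.2)).1 (congrArg Subtype.val hc) with h3 | h3
      · exfalso
        rcases hz.line h2 h3 (hb'.trans hb.symm) with h4 | h4
        · rw [h4] at hz'
          exact hne (Subtype.ext (hz.unique h2 hz'))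
        · rw [h4] at hz'
          exact hne (Subtype.ext (hz.neg'.unique h2 hz'))
      · exact h3
    have h3 : polar Q b b' = 0 := by
      have h4 := polar_map (E_le_O z.2) b b'
      rw [hz.fix, h1, polar_neg_right] at h4
      apply mul_left_cancel₀ h2
      linear_combination -h4
    have li : ∀ c, polar Q b c = 0 → Q c = 1 → LinearIndependent F ![b, c] := by
      intro c h5 h6
      rw [LinearIndependent.pair_iff]
      intro s t hst
      have h7 := congrArg (polar Q b) hst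
      rw [polar_add_right, polar_smul_right, polar_smul_right, h5, polar_self', hb, polar_zero_right] at h7
      have h8 : s = 0 := by
        apply mul_left_cancel₀ h2
        simp only [smul_eq_mul] at h7
        linear_combination h7
      rw [h8, zero_smul, zero_add] at hst
      exact ⟨h8, (smul_eq_zero.1 hst).resolve_right (ne_zero_of (n1 h6))⟩
    have h4 : 2 * (centralizer {z'}).relIndex (centralizer {z}) = Nat.card F ^ 3 * (Nat.card F ^ 4 - 1) := by
      rw [two_mul_relIndex _ _ (ne_neg_of h2 hz'.ne) (mem_cent h2 hz') (mem_centralizer_singleton_iff.2 rfl) h1,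
        ← c2 b hb]
      congr 1
      ext c
      constructor
      · rintro ⟨g, hg, rfl⟩
        refine ⟨?_, (mem_O.1 (E_le_O g.2) b').trans hb'⟩
        have h5 := polar_map (E_le_O g.2) b b'
        rcases (mem_cent h2 hz g).1 hg with h6 | h6
        · rw [show (g : V ≃ₗ[F] V) b = b from h6, h3] at h5
          exact h5
        · rw [show (g : V ≃ₗ[F] V) b = -b from h6, h3, polar_neg_left, neg_eq_zero] at h5
          exact h5
      · rintro ⟨h5, h6⟩
        obtain ⟨g, hg, e⟩ := H75.OrthIdx.exists_E_map hG ![b, b'] ![b, c] (li b' h3 hb') (li c h5 h6)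
          (fun i => by fin_cases i <;> simp [hb', h6])
          (fun i j => by
            (revert i j; simp only [hb', h6, h3, h5, polar_comm Q b' b, polar_comm Q c b, _root_.Fin.forall_fin_succ, _root_.Nat.succ_eq_add_one, Nat.reduceAdd, Fin.isValue, _root_.Matrix.cons_val_zero, _root_.Matrix.cons_val_succ, _root_.Matrix.cons_val_fin_one, _root_.forall_const, _root_.QuadraticMap.polar_self, _root_.nsmul_eq_mul, _root_.Nat.cast_ofNat, _root_.and_self, _root_.mul_one, _root_.implies_true]))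
          (fun d _ => by
            obtain ⟨t, ht, htd⟩ := H75.OrthIdx.exists_norm_perp hG.nondeg (Submodule.span F (Set.range ![b, b']))
              (Or.inl (by rw [finrank_span_eq_card (li b' h3 hb'), hd]; simp)) d
            exact ⟨t, htd, fun i => ht _ (Submodule.subset_span ⟨i, rfl⟩)⟩)
        exact ⟨⟨g, hg⟩, (mem_cent h2 hz _).2 (Or.inl (e 0)), e 1⟩
    rw [← relIndex_mul_index (inf_le_left : centralizer {z} ⊓ centralizer {z'} ≤ centralizer {z}), inf_comm,
      inf_relIndex_right]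
    have hq : 1 ≤ Nat.card F ^ 4 := Nat.one_le_pow _ _ Nat.card_pos
    obtain ⟨t, ht⟩ : ∃ t, Nat.card F ^ 4 = t + 1 := ⟨Nat.card F ^ 4 - 1, by omega⟩
    have e8 : Nat.card F ^ 8 = t * (t + 2) + 1 := by
      rw [show Nat.card F ^ 8 = Nat.card F ^ 4 * Nat.card F ^ 4 by ring, ht]; ring
    rw [e8, Nat.add_sub_cancel, show Nat.card F ^ 7 = Nat.card F ^ 3 * Nat.card F ^ 4 by ring, ht]
    rw [ht, Nat.add_sub_cancel] at h4
    rw [ht] at hi
    calc _ = 2 * (centralizer {z'}).relIndex (centralizer {z}) * (2 * (centralizer {z}).index) := by ring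
      _ = _ := by rw [h4, hi]; ring

end isz

section row

open Cfsg.Agent.LieClassical.OrthForms

variable {F : Type} [Field F]

theorem fr_odd : Fr (oddForm 4 F) (Pi.single (.inl ()) 1) (fun i => Pi.single (.inr (.inl i)) 1)
    (fun i => Pi.single (.inr (.inr i)) 1) where
  qa := by rw [coe_oddForm, quadFormOdd_apply]; simp
  qx i := by rw [coe_oddForm, quadFormOdd_apply]; simp
  qy i := by rw [coe_oddForm, quadFormOdd_apply]; simp
  xx i j := by rw [polar_oddForm]; simp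
  yy i j := by rw [polar_oddForm]; simp
  xy i j hij := by rw [polar_oddForm]; simp [Pi.single_apply, hij.symm]
  xy1 i := by rw [polar_oddForm]; simp [Pi.single_apply]
  xa i := by rw [polar_oddForm]; simp
  ya i := by rw [polar_oddForm]; simp
  ext f g h1 h2 h3 := by
    refine (Pi.basisFun F _).ext' fun i => ?_
    rw [Pi.basisFun_apply]
    rcases i with i | i | i
    · exact h1
    · exact h2 i
    · exact h3 i

theorem isPlus_odd [Finite F] (h2 : (2 : F) ≠ 0) :
    IsPlus (res (oddForm 4 F) (perp (oddForm 4 F) (Submodule.span F {Pi.single (.inl ()) 1}))) := by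
  obtain ⟨p1, p2⟩ := Ix.perp_props h2 (nondeg_oddForm 4 F h2) (v := Pi.single (.inl ()) 1)
    (by rw [(fr_odd (F := F)).qa]; exact one_ne_zero)
  rw [H807.IF.finrank_odd] at p2
  let f : (Fin 4 → F) →ₗ[F] (Unit ⊕ (Fin 4 ⊕ Fin 4) → F) :=
    LinearMap.pi (Sum.elim (fun _ => 0) (Sum.elim (fun j => LinearMap.proj j) (fun _ => 0)))
  have hf : Function.Injective f := fun c d hcd => funext fun j => congrFun hcd (.inr (.inl j))
  have hle : LinearMap.range f ≤ perp (oddForm 4 F) (Submodule.span F {Pi.single (.inl ()) 1}) := by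
    rintro _ ⟨c, rfl⟩ t ht
    obtain ⟨d, rfl⟩ := Submodule.mem_span_singleton.1 ht
    rw [polar_smul_left, polar_oddForm]
    simp [f]
  refine ⟨(LinearMap.range f).comap (Submodule.subtype _), ?_, ?_⟩
  · rintro ⟨u, hu⟩ ⟨c, hc⟩
    change oddForm 4 F u = 0
    change f c = u at hc
    rw [← hc, coe_oddForm, quadFormOdd_apply]
    simp [f]
  · rw [(Submodule.comapSubtypeEquivOfLe hle).finrank_eq, LinearMap.finrank_range_of_inj hf, finrank_fin_fun]
    omega

theorem exists_pack [Finite F] (h2 : (2 : F) ≠ 0) {T : Type} [Group T] (e : T ≃* POmega F (quadFormOdd 4 F)) :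
    ∃ Z, Pack T (Nat.card F) Z :=
  ⟨_, (pack_of h2 (H807.IF.good_odd_row h2 (by omega)) (H807.IF.finrank_odd 4) fr_odd (isPlus_odd h2)).map
    (e.trans (H807.IF.eOdd h2 (by omega))).symm⟩

end row

end Cfsg.Agent.SM.CS.Bo
end

section
prune_inst 0xffe9f9bbb8fddfdfff7e7fa6dccffdfbb33fffa6dff9cb7fe061ff2bdf6b08cdc52bad0be811fe0ef7621c10f87b43fdffceffe26bdc7ffffd5ff41ffbffcffdf7b508719688340fbc2ff703f0778e7f000000000000000000000000000000000200000000

-- part: SM/CSBo/Main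
section
prune_inst 0x600000000000050000000000000004900000000080000040000900200d002041022000000800000000010000000000000000000000000000000100000000000011000000000080000000000000000000000000000000000000000000000000000
set_option linter.all false
open scoped Cfsg.Agent.FastGrp

/-!
# SM (S3570), box CS-Bo: `Ω₉(q) < PΩ₁₆⁺(q)`, `q` odd (helper9)

`boxBo : BoxBo`.
-/

set_option autoImplicit false
set_option linter.unusedSectionVars false

namespace Cfsg.Agent.SM.CS

open Cfsg Cfsg.Geo Matrix Subgroup QuadraticMap Module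
open Cfsg.Agent.H925 (qf nondeg_qf)
open Cfsg.Agent.H915.LD (toSoc toSoc_surjective ker_toSoc)

namespace Bo

/-- the lift of `u² (g u g⁻¹)²` is an involution -/
theorem lift_sq {H T : Type*} [Group H] [Group T] (π : H →* T) (hs : Function.Surjective π)
    (hk : ∀ x, π x = 1 → x * x = 1 ∧ ∀ y, y * x = x * y) {u g : T} (h1 : u * (g * u * g⁻¹) = g * u * g⁻¹ * u)
    (h2 : u ^ 4 = 1) : ∃ s : H, s * s = 1 ∧ π s = u ^ 2 * (g * u * g⁻¹) ^ 2 := by
  obtain ⟨u, rfl⟩ := hs u
  obtain ⟨g, rfl⟩ := hs g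
  obtain ⟨e1, e2⟩ := hk (u ^ 4) (by rw [map_pow, h2])
  have e3 : (g * u * g⁻¹) ^ 4 = u ^ 4 := by rw [conj_pow, e2, mul_inv_cancel_right]
  have e4 : π (g * u * g⁻¹) = π g * π u * (π g)⁻¹ := by rw [map_mul, map_mul, map_inv]
  rw [← e4] at h1 ⊢
  generalize g * u * g⁻¹ = w at *
  obtain ⟨d1, d2⟩ := hk (u * w * u⁻¹ * w⁻¹) (by
    rw [map_mul, map_mul, map_mul, map_inv, map_inv, h1, mul_inv_cancel_right, mul_inv_cancel])
  have d3 : u * w = (u * w * u⁻¹ * w⁻¹) * (w * u) := by group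
  generalize u * w * u⁻¹ * w⁻¹ = d at *
  have d4 : Commute (u ^ 2) w := by
    change u ^ 2 * w = w * u ^ 2
    calc u ^ 2 * w = u * (u * w) := by rw [pow_two, mul_assoc]
      _ = (u * d) * w * u := by rw [d3]; simp only [mul_assoc]
      _ = d * (u * w) * u := by rw [d2]; simp only [mul_assoc]
      _ = (d * d) * (w * u ^ 2) := by rw [d3, pow_two]; simp only [mul_assoc]
      _ = w * u ^ 2 := by rw [d1, one_mul]
  refine ⟨u ^ 2 * w ^ 2, ?_, by rw [map_mul, map_pow, map_pow]⟩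
  calc u ^ 2 * w ^ 2 * (u ^ 2 * w ^ 2) = u ^ 2 * (w ^ 2 * u ^ 2) * w ^ 2 := by simp only [mul_assoc]
    _ = u ^ 4 * w ^ 4 := by rw [← (d4.pow_right 2).eq]; group
    _ = 1 := by rw [e3, e1]

section eig

variable {ι : Type} [Fintype ι] [DecidableEq ι] {K : Type} [Field K] [Fintype K] {Q : (ι → K) → K}

theorem scal (hQ : IsNondegenerateQuadraticForm Q) {v : ι → K} (hv : Q v ≠ 0) {g : GL ι K} (hg : g ∈ isometryGroup K Q)
    (hs : g ∈ scalars ι K) : g = 1 ∨ g = -1 := by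
  obtain ⟨c, hc⟩ := (mem_scalars_iff _).1 hs
  have h1 := H925.mem_iso_iff.1 hg v
  rw [hc, Matrix.smul_mulVec, Matrix.one_mulVec, hQ.smul] at h1
  have h2 : ((c : K) - 1) * ((c : K) + 1) = 0 := by
    apply mul_right_cancel₀ hv
    linear_combination h1
  rcases mul_eq_zero.1 h2 with h3 | h3
  · left
    apply Units.ext
    rw [hc, sub_eq_zero.1 h3, one_smul, Units.val_one]
  · right
    apply Units.ext
    rw [hc, eq_neg_of_add_eq_zero_left h3, neg_one_smul, Units.val_neg, Units.val_one]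

/-- the eigenspace -/
def Eig (s : GL ι K) (ε : K) : Submodule K (ι → K) where
  carrier := {v | (s : Matrix ι ι K) *ᵥ v = ε • v}
  add_mem' {a b} ha hb := by
    change _ = _ at ha hb ⊢
    rw [mulVec_add, ha, hb, smul_add]
  zero_mem' := by
    change _ = _
    rw [mulVec_zero, smul_zero]
  smul_mem' c a ha := by
    change _ = _ at ha ⊢
    rw [mulVec_smul, ha, smul_comm]

variable {s : GL ι K} {ε : K}

theorem mem_eig {v : ι → K} : v ∈ Eig s ε ↔ (s : Matrix ι ι K) *ᵥ v = ε • v := Iff.rfl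

theorem eig_split (h2 : (2 : K) ≠ 0) (hs : s * s = 1) (hε : ε * ε = 1) (v : ι → K) :
    ∃ a ∈ Eig s ε, ∃ b ∈ Eig s (-ε), a + b = v := by
  have h1 : (s : Matrix ι ι K) *ᵥ ((s : Matrix ι ι K) *ᵥ v) = v := by
    rw [mulVec_mulVec, ← Units.val_mul, hs, Units.val_one, one_mulVec]
  refine ⟨(2 : K)⁻¹ • (v + ε • (s : Matrix ι ι K) *ᵥ v), Submodule.smul_mem _ _ ?_,
    (2 : K)⁻¹ • (v - ε • (s : Matrix ι ι K) *ᵥ v), Submodule.smul_mem _ _ ?_, ?_⟩
  · rw [mem_eig, mulVec_add, mulVec_smul, h1, smul_add, smul_smul, hε, one_smul, add_comm]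
  · rw [mem_eig, mulVec_sub, mulVec_smul, h1, smul_sub, smul_smul, neg_mul, hε, neg_smul, neg_smul, one_smul]
    abel
  · match_scalars
    · field_simp
      ring
    · ring

theorem eig_disj (h2 : (2 : K) ≠ 0) (hε : ε * ε = 1) {v : ι → K} (h : v ∈ Eig s ε) (h' : v ∈ Eig s (-ε)) : v = 0 := by
  rw [mem_eig] at h h'
  have h1 : (2 * ε) • v = 0 := by
    rw [two_mul, add_smul]
    nth_rewrite 1 [← h]
    rw [h', neg_smul, neg_add_cancel]
  exact (smul_eq_zero.1 h1).resolve_left (mul_ne_zero h2 (left_ne_zero_of_mul_eq_one hε))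

theorem finrank_eig_add (h2 : (2 : K) ≠ 0) (hs : s * s = 1) (hε : ε * ε = 1) :
    finrank K (Eig s ε) + finrank K (Eig s (-ε)) = Fintype.card ι := by
  rw [← Module.finrank_fintype_fun_eq_card K]
  refine Submodule.finrank_add_eq_of_isCompl ⟨?_, ?_⟩
  · exact Submodule.disjoint_def.2 fun v h h' => eig_disj h2 hε h h'
  · rw [codisjoint_iff, eq_top_iff]
    exact fun v _ => Submodule.mem_sup.2 (eig_split h2 hs hε v)

theorem eig_orth (hQ : IsNondegenerateQuadraticForm Q) (h2 : (2 : K) ≠ 0) (hi : s ∈ isometryGroup K Q) (hε : ε * ε = 1)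
    {u w : ι → K} (hu : u ∈ Eig s (-ε)) (hw : w ∈ Eig s ε) : polar Q u w = 0 := by
  have h1 := Ix.polar_iso hi u w
  rw [mem_eig.1 hu, mem_eig.1 hw] at h1
  change polar (qf hQ) _ _ = polar (qf hQ) _ _ at h1
  rw [polar_smul_left, polar_smul_right, smul_eq_mul, smul_eq_mul] at h1
  change polar (qf hQ) _ _ = 0
  apply mul_left_cancel₀ h2
  linear_combination -h1 - polar (qf hQ) u w * hε

theorem eig_nd' (hQ : IsNondegenerateQuadraticForm Q) (h2 : (2 : K) ≠ 0) (hi : s ∈ isometryGroup K Q) (hs : s * s = 1)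
    (hε : ε * ε = 1) {x : ι → K} (hx : x ∈ Eig s ε) (h : ∀ y ∈ Eig s ε, polar (qf hQ) x y = 0) : x = 0 := by
  refine nondeg_qf hQ x fun y => ?_
  obtain ⟨a, ha, b, hb, rfl⟩ := eig_split h2 hs hε y
  rw [polar_add_right, h a ha, zero_add, polar_comm]
  exact eig_orth hQ h2 hi hε hb hx

theorem eig_nd (hQ : IsNondegenerateQuadraticForm Q) (h2 : (2 : K) ≠ 0) (hi : s ∈ isometryGroup K Q) (hs : s * s = 1)
    (hε : ε * ε = 1) : IsNondegenerateOn (polar Q) (Eig s ε) :=
  Ix.ndOn_of_nondeg hQ (H955.nondeg_res_iff.2 fun _ hx h => eig_nd' hQ h2 hi hs hε hx h)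

theorem eig_two (hQ : IsNondegenerateQuadraticForm Q) (h2 : (2 : K) ≠ 0) (hi : s ∈ omegaGL Q) (hs : s * s = 1)
    (hε : ε * ε = 1) (hn : s ∉ scalars ι K) (he : Even (Fintype.card ι)) : 2 ≤ finrank K (Eig s ε) := by
  have hi' := H925.omegaGL_le_iso Q hi
  have hε0 : ε ≠ 0 := left_ne_zero_of_mul_eq_one hε
  by_contra hlt
  obtain ⟨w, hw⟩ : ∃ w : Eig s ε, ∀ x, ∃ c : K, c • w = x := finrank_le_one_iff.1 (show finrank K (Eig s ε) ≤ 1 by omega)
  by_cases hw0 : w = 0
  · refine hn ((mem_scalars_iff _).2 ⟨Units.mk0 (-ε) (neg_ne_zero.2 hε0), ?_⟩)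
    refine Matrix.ext_iff_mulVec.2 fun v => ?_
    obtain ⟨a, ha, b, hb, rfl⟩ := eig_split h2 hs hε v
    obtain ⟨c, hc⟩ := hw ⟨a, ha⟩
    rw [hw0, smul_zero] at hc
    have h1 : a = 0 := (congrArg Subtype.val hc).symm
    rw [h1, zero_add, mem_eig.1 hb, Units.val_mk0, Matrix.smul_mulVec, one_mulVec]
  · have hQw : qf hQ w ≠ 0 := by
      intro h0
      refine hw0 (Subtype.ext (eig_nd' hQ h2 hi' hs hε w.2 fun y hy => ?_))
      obtain ⟨c, hc⟩ := hw ⟨y, hy⟩
      rw [show y = c • (w : ι → K) from (congrArg Subtype.val hc).symm, polar_smul_right,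
        LieClassical.OrthCore.polar_self', h0, mul_zero, smul_zero]
    have hz := isZ_refl hQw
    have h1 : Matrix.toLin' (s : Matrix ι ι K) = (-ε) • (LieClassical.OrthCore.refl (qf hQ) w hQw).toLinearMap := by
      refine LinearMap.ext fun v => ?_
      obtain ⟨a, ha, b, hb, rfl⟩ := eig_split h2 hs hε v
      obtain ⟨c, hc⟩ := hw ⟨a, ha⟩
      have h3 : -(LieClassical.OrthCore.refl (qf hQ) w hQw w) = w := hz.fix
      have h4 : -(LieClassical.OrthCore.refl (qf hQ) w hQw b) = -b :=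
        hz.neg b (by rw [polar_comm]; exact eig_orth hQ h2 hi' hε hb w.2)
      rw [Matrix.toLin'_apply, mulVec_add, mem_eig.1 ha, mem_eig.1 hb, LinearMap.smul_apply, LinearEquiv.coe_coe,
        show a = c • (w : ι → K) from (congrArg Subtype.val hc).symm, map_add, map_smul, neg_injective h4,
        neg_eq_iff_eq_neg.1 h3]
      module
    have h3 : (s : Matrix ι ι K).det = 1 :=
      congrArg Units.val (show Matrix.GeneralLinearGroup.det s = 1 from H922.omegaGL_le_specialLinear Q hi)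
    rw [← LinearMap.det_toLin', h1, LinearMap.det_smul, ← LinearEquiv.coe_det, H160.QSpin.det_refl,
      Module.finrank_fintype_fun_eq_card, he.neg_pow] at h3
    obtain ⟨k, hk⟩ := he
    rw [hk, ← two_mul, pow_mul, pow_two, hε, one_pow, one_mul, Units.val_neg, Units.val_one] at h3
    apply h2
    linear_combination -h3

theorem finrank_eig_conj (y : GL ι K) : finrank K (Eig (y⁻¹ * s * y) ε) = finrank K (Eig s ε) := by
  rw [← LinearEquiv.finrank_map_eq (LieClassical.OrthFinite.glEquiv ι K y)]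
  refine congrArg (fun W : Submodule K (ι → K) => finrank K W) ?_
  ext v
  obtain ⟨v, rfl⟩ := (LieClassical.OrthFinite.glEquiv ι K y).surjective v
  rw [Submodule.mem_map_equiv, LinearEquiv.symm_apply_apply, mem_eig, mem_eig, LieClassical.OrthFinite.glEquiv_apply,
    ← (LieClassical.OrthFinite.glEquiv ι K y).injective.eq_iff, LieClassical.OrthFinite.glEquiv_apply,
    LieClassical.OrthFinite.glEquiv_apply, mulVec_smul, mulVec_mulVec, mulVec_mulVec, ← Units.val_mul, ← Units.val_mul,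
    ← mul_assoc, ← mul_assoc, mul_inv_cancel, one_mul]

theorem cent_eig {g : GL ι K} (hg : g ∈ centralizer {s}) {u : ι → K} (hu : u ∈ Eig s ε) :
    (g : Matrix ι ι K) *ᵥ u ∈ Eig s ε := by
  rw [mem_eig, mulVec_mulVec, ← Units.val_mul, ← mem_centralizer_singleton_iff.1 hg, Units.val_mul, ← mulVec_mulVec,
    mem_eig.1 hu, mulVec_smul]

theorem line_eq (hQ : IsNondegenerateQuadraticForm Q) {v w : ι → K} (hw : w ≠ 0)
    (h : subspaceStabilizer (Submodule.span K {w}) = subspaceStabilizer (Submodule.span K {v})) : ∃ c : K, v = c • w := by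
  by_contra hc
  push Not at hc
  obtain ⟨y, h1, h2⟩ := LieClassical.OrthTrans.exists_sep (nondeg_qf hQ) hc
  rw [polar_comm] at h1 h2
  let f : K → (ι → K) →ₗ[K] (ι → K) := fun t => LinearMap.id + t • (polarBilin (qf hQ) y).smulRight w
  have hf : ∀ t x, f t x = x + (t * polar (qf hQ) y x) • w := fun t x => by
    simp only [f, LinearMap.add_apply, LinearMap.id_apply, LinearMap.smul_apply, LinearMap.smulRight_apply,
      polarBilin_apply_apply, smul_smul]
  have hff : ∀ t, f t ∘ₗ f (-t) = LinearMap.id := fun t => LinearMap.ext fun x => by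
    rw [LinearMap.comp_apply, hf, hf, polar_add_right, polar_smul_right, h1, LinearMap.id_apply]
    module
  let e : (ι → K) ≃ₗ[K] (ι → K) := LinearEquiv.ofLinearMap (f 1) (f (-1)) (hff 1) (by simpa using hff (-1))
  obtain ⟨g, hg⟩ := (LieClassical.OrthFinite.glEquiv ι K).surjective e
  have hg' : ∀ x, (g : Matrix ι ι K) *ᵥ x = x + polar (qf hQ) y x • w := fun x => by
    rw [← LieClassical.OrthFinite.glEquiv_apply, hg]
    change f 1 x = _
    rw [hf, one_mul]
  have h3 : g ∈ subspaceStabilizer (Submodule.span K {w}) :=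
    Ix.mem_stab_point.2 ⟨1, by rw [hg', h1, zero_smul, add_zero, one_smul]⟩
  rw [h] at h3
  obtain ⟨c, h4⟩ := Ix.mem_stab_point.1 h3
  rw [hg', h2, one_smul] at h4
  have h5 : w = (c - 1) • v := by
    rw [sub_smul, ← h4, one_smul, add_sub_cancel_left]
  have h6 : c - 1 ≠ 0 := by
    intro h0
    rw [h0, zero_smul] at h5
    exact hw h5
  exact hc (c - 1)⁻¹ (by rw [h5, smul_smul, inv_mul_cancel₀ h6, one_smul])

end eig

theorem arith {q j sz a b M : ℕ} (hq : 3 ≤ q) (h1 : sz * 2 = q ^ 7 * (q ^ 8 - 1)) (h2 : j * sz = a * b) (h3 : 2 * a ≤ M)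
    (h4 : b ≤ q ^ 4 * (q ^ 4 + 1)) : j * (q ^ 3 * (q ^ 4 - 1)) ≤ M := by
  have q4 : 81 ≤ q ^ 4 := Nat.pow_le_pow_left hq 4
  obtain ⟨t, ht⟩ : ∃ t, q ^ 4 = t + 1 := ⟨q ^ 4 - 1, by omega⟩
  have e8 : q ^ 8 = t * (t + 2) + 1 := by
    rw [show q ^ 8 = q ^ 4 * q ^ 4 by ring, ht]; ring
  rw [e8, Nat.add_sub_cancel, show q ^ 7 = q ^ 3 * q ^ 4 by ring, ht] at h1
  rw [ht] at h4
  rw [ht, Nat.add_sub_cancel]
  refine Nat.le_of_mul_le_mul_right (c := (t + 1) * (t + 1 + 1)) ?_ (by positivity)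
  calc j * (q ^ 3 * t) * ((t + 1) * (t + 1 + 1)) = j * (sz * 2) := by rw [h1]; ring
    _ = 2 * a * b := by rw [← mul_assoc, h2]; ring
    _ ≤ _ := Nat.mul_le_mul h3 h4

section key

variable {n : ℕ} {K : Type} [Field K] [Fintype K] {Q : (Fin n → K) → K} {Y P : Subgroup (GL (Fin n) K)}

theorem card_small (hQ : IsNondegenerateQuadraticForm Q) (hq : Odd (Fintype.card K)) {W : Submodule K (Fin n → K)}
    (hW : IsNondegenerateOn (polar Q) W) (hd : finrank K W ≤ 7) {c : K} (hc : c ≠ 0) :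
    {w | w ∈ W ∧ Q w = c}.ncard < Fintype.card K ^ 3 * (Fintype.card K ^ 4 - 1) := by
  have h3 : 3 ≤ Fintype.card K := by
    have := Fintype.one_lt_card (α := K)
    obtain ⟨k, hk⟩ := hq
    omega
  have q3 : 27 ≤ Fintype.card K ^ 3 := Nat.pow_le_pow_left h3 3
  have key : Fintype.card K ^ 3 * (Fintype.card K ^ 3 + 1) < Fintype.card K ^ 3 * (Fintype.card K ^ 4 - 1) := by
    refine Nat.mul_lt_mul_of_pos_left ?_ (by omega)
    have : 3 * Fintype.card K ^ 3 ≤ Fintype.card K ^ 4 := by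
      rw [pow_succ' _ 3]
      exact Nat.mul_le_mul_right _ h3
    omega
  refine lt_of_le_of_lt ?_ key
  rcases hd.eq_or_lt with h7 | h7
  · exact Ix.ncard_le_odd hQ hq hW (k := 3) h7 hc
  · have h1 : {w | w ∈ W ∧ Q w = c}.ncard ≤ (W : Set (Fin n → K)).ncard :=
      Set.ncard_le_ncard (fun _ h => h.1) (Set.toFinite _)
    have h2 : (W : Set (Fin n → K)).ncard = Fintype.card K ^ finrank K W := by
      rw [← Nat.card_coe_set_eq, ← Nat.card_eq_fintype_card]
      exact Module.natCard_eq_pow_finrank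
    have h4 : Fintype.card K ^ finrank K W ≤ Fintype.card K ^ 6 := Nat.pow_le_pow_right (by omega) (by omega)
    calc _ ≤ Fintype.card K ^ 6 := by omega
      _ = Fintype.card K ^ 3 * Fintype.card K ^ 3 := by ring
      _ ≤ _ := Nat.mul_le_mul_left _ (by omega)

theorem conj_Z (hc : IsResidualCore Y P) {q : ℕ} {Z : Set (H915.LD.Soc P)} (hZ : Pack (H915.LD.Soc P) q Z) {y : GL (Fin n) K} (hy : y ∈ Y)
    {s : P} (hs : toSoc P s ∈ Z) : toSoc P ⟨y * s * y⁻¹, hc.normal y hy s s.2⟩ ∈ Z :=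
  hZ.aut (H100.Ppd.conjSoc hc.absIrred ⟨y, H100.Ppd.mem_normalizer (hc.normal y hy)⟩) _ hs

theorem relIndex_cent_le (hQ : IsNondegenerateQuadraticForm Q) {v : Fin n → K} (hv : Q v ≠ 0) (hc : IsResidualCore Y P)
    (hle : Y ≤ omegaGL Q) {q : ℕ} {Z : Set (H915.LD.Soc P)} (hZ : Pack (H915.LD.Soc P) q Z) {s : P} (hs : toSoc P s ∈ Z) :
    (centralizer {(s : GL (Fin n) K)}).relIndex Y ≤ q ^ 4 * (q ^ 4 + 1) := by
  rw [relIndex_centralizer, ← hZ.ncard]
  let σ : H915.LD.Soc P → GL (Fin n) K := fun t => (Function.surjInv (toSoc_surjective P) t : P)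
  have h1 : {b | ∃ g ∈ Y, g * (s : GL (Fin n) K) * g⁻¹ = b} ⊆ σ '' Z ∪ (fun t => -σ t) '' Z := by
    rintro _ ⟨y, hy, rfl⟩
    have h2 := conj_Z hc hZ hy hs
    set x : P := ⟨y * s * y⁻¹, hc.normal y hy s s.2⟩ with hx
    have h3 : (Function.surjInv (toSoc_surjective P) (toSoc P x))⁻¹ * x ∈ (toSoc P).ker := by
      rw [MonoidHom.mem_ker, map_mul, map_inv, Function.surjInv_eq (toSoc_surjective P), inv_mul_cancel]
    rw [ker_toSoc, mem_subgroupOf] at h3
    rcases scal hQ hv (H925.omegaGL_le_iso Q (hle (hc.le (Subtype.prop _)))) h3 with h4 | h4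
    · exact Or.inl ⟨_, h2, inv_mul_eq_one.1 h4⟩
    · refine Or.inr ⟨_, h2, ?_⟩
      have h5 : (σ (toSoc P x))⁻¹ * (x : GL (Fin n) K) = -1 := h4
      rw [inv_mul_eq_iff_eq_mul, mul_neg, mul_one] at h5
      exact h5.symm
  have h2 := Set.ncard_le_ncard h1 (Set.toFinite _)
  have h3 := Set.ncard_union_le (σ '' Z) ((fun t => -σ t) '' Z)
  have h4 := Set.ncard_image_le (s := Z) (f := σ) (Set.toFinite _)
  have h5 := Set.ncard_image_le (s := Z) (f := fun t => -σ t) (Set.toFinite _)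
  omega

theorem key (hQ : IsNondegenerateQuadraticForm Q) (hq : Odd (Fintype.card K)) (hn : Fintype.card (Fin n) = 2 * 8)
    {v : Fin n → K} (hv : Q v ≠ 0) (hc : IsResidualCore Y P) (hle : Y ≤ omegaGL Q)
    (fac : ∀ g ∈ omegaGL Q, ∃ y ∈ Y, ∃ x ∈ subspaceStabilizer (Submodule.span K {v}), g = y * x)
    (idx : (subspaceStabilizer (Submodule.span K {v})).relIndex Y * 2 = Fintype.card K ^ 7 * (Fintype.card K ^ 8 - 1))
    {Z : Set (H915.LD.Soc P)} (hZ : Pack (H915.LD.Soc P) (Fintype.card K) Z) :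
    ∃ (s : P) (ε : K), toSoc P s ∈ Z ∧ ε * ε = 1 ∧ v ∈ Eig s ε ∧ finrank K (Eig (s : GL (Fin n) K) (-ε)) = 8 ∧
      subspaceStabilizer (Submodule.span K {v}) ⊓ Y ≤ centralizer {(s : GL (Fin n) K)} := by
  have h2 := Ix.two_ne_zero_of_odd hq
  have h3 : 3 ≤ Fintype.card K := by
    have := Fintype.one_lt_card (α := K)
    obtain ⟨k, hk⟩ := hq
    omega
  have hP : ∀ x : P, (x : GL (Fin n) K) ∈ omegaGL Q := fun x => hle (hc.le x.2)
  have h0 : ∀ {w}, Q w ≠ 0 → w ≠ 0 := fun hw => ne_zero_of (Q := qf hQ) hw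
  obtain ⟨u, g, e1, e2, e3⟩ := hZ.sq
  obtain ⟨s0, s1, s2⟩ := lift_sq (toSoc P) (toSoc_surjective P) (fun x hx => by
    rw [← MonoidHom.mem_ker, ker_toSoc, mem_subgroupOf] at hx
    rcases scal hQ hv (H925.omegaGL_le_iso Q (hP x)) hx with h4 | h4
    · rw [show x = 1 from Subtype.ext h4]
      simp
    · refine ⟨Subtype.ext ?_, fun y => Subtype.ext ?_⟩
      · rw [coe_mul, h4, neg_mul_neg, one_mul, coe_one]
      · rw [coe_mul, coe_mul, h4, mul_neg, neg_mul, one_mul, mul_one]) e1 e2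
  rw [← s2] at e3
  have s3 : (s0 : GL (Fin n) K) * s0 = 1 := congrArg Subtype.val s1
  have s4 : (s0 : GL (Fin n) K) ∉ scalars (Fin n) K := fun h => hZ.ne_one _ e3 (by
    rw [← MonoidHom.mem_ker, ker_toSoc, mem_subgroupOf]; exact h)
  obtain ⟨ε, hε, hd⟩ : ∃ ε : K, ε * ε = 1 ∧ finrank K (Eig (s0 : GL (Fin n) K) ε) ≤ 8 := by
    have := finrank_eig_add h2 s3 (mul_one (1 : K))
    by_cases h : finrank K (Eig (s0 : GL (Fin n) K) (1 : K)) ≤ 8
    · exact ⟨1, mul_one _, h⟩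
    · exact ⟨-1, by ring, by omega⟩
  obtain ⟨w, hw, hwv⟩ := Ix.exists_norm hQ hq (eig_nd hQ h2 (H925.omegaGL_le_iso Q (hP s0)) s3 hε)
    (eig_two hQ h2 (hP s0) s3 hε s4 ⟨8, by omega⟩) (Q v)
  obtain ⟨g', hg', egw⟩ := H925.exists_trans hQ (by omega) (h0 hv) (h0 (by rw [hwv]; exact hv)) hwv.symm
  obtain ⟨y, hy, x, hx, rfl⟩ := fac g' hg'
  obtain ⟨c, hxc⟩ := Ix.mem_stab_point.1 hx
  rw [Units.val_mul, ← mulVec_mulVec, hxc, mulVec_smul] at egw
  have hc0 : c ≠ 0 := by
    rintro rfl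
    rw [zero_smul] at egw
    exact h0 (by rw [hwv]; exact hv) egw.symm
  have hs := conj_Z hc hZ (Y.inv_mem hy) e3
  set s : P := ⟨y⁻¹ * s0 * y⁻¹⁻¹, hc.normal _ (Y.inv_mem hy) s0 s0.2⟩ with hsdef
  have hs' : (s : GL (Fin n) K) = y⁻¹ * s0 * y := congrArg (y⁻¹ * s0 * ·) (inv_inv y)
  have t1 : (s : GL (Fin n) K) * s = 1 := by
    rw [hs']
    calc _ = y⁻¹ * ((s0 : GL (Fin n) K) * s0) * y := by group
      _ = 1 := by rw [s3, mul_one, inv_mul_cancel]
  have t2 : finrank K (Eig (s : GL (Fin n) K) ε) ≤ 8 := by rw [hs', finrank_eig_conj]; exact hd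
  have t3 : v ∈ Eig (s : GL (Fin n) K) ε := by
    have h4 : (y : Matrix (Fin n) (Fin n) K) *ᵥ v ∈ Eig (s0 : GL (Fin n) K) ε := by
      rw [← egw] at hw
      exact (Submodule.smul_mem_iff _ hc0).1 hw
    rw [mem_eig, hs', Units.val_mul, Units.val_mul, ← mulVec_mulVec, ← mulVec_mulVec, mem_eig.1 h4, mulVec_smul,
      mulVec_mulVec, ← Units.val_mul, inv_mul_cancel, Units.val_one, one_mulVec]
  clear_value s
  have t4 := eig_nd hQ h2 (H925.omegaGL_le_iso Q (hP s)) t1 hε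
  set X := subspaceStabilizer (Submodule.span K {v}) with hX
  set C := centralizer {(s : GL (Fin n) K)} with hC
  have c1 := relIndex_cent_le hQ hv hc hle hZ hs
  have c2 := Ix.two_mul_relIndex_le hQ hq (D := C ⊓ Y) (inf_le_right.trans (hle.trans (H925.omegaGL_le_iso Q)))
    (U := Eig (s : GL (Fin n) K) ε) (fun g hg u hu => cent_eig hg.1 hu) t3 (h0 hv)
  have c3 := relIndex_mul_relIndex (X ⊓ (C ⊓ Y)) (C ⊓ Y) Y inf_le_right inf_le_right
  have c4 := relIndex_mul_relIndex (C ⊓ (X ⊓ Y)) (X ⊓ Y) Y inf_le_right inf_le_right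
  rw [inf_relIndex_right, inf_relIndex_right] at c3 c4
  rw [inf_left_comm, ← c3] at c4
  have c5 := arith h3 idx c4 c2 c1
  have c6 : C.relIndex (X ⊓ Y) ≠ 0 := index_ne_zero_of_finite
  have c7 : finrank K (Eig (s : GL (Fin n) K) ε) = 8 := by
    by_contra h
    have h4 := card_small hQ hq t4 (by omega) hv
    have h5 := Nat.mul_le_mul_right (Fintype.card K ^ 3 * (Fintype.card K ^ 4 - 1)) (Nat.one_le_iff_ne_zero.2 c6)
    omega
  have c8 := Ix.ncard_le_even hQ t4 (k := 3) c7 hv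
  have c9 : C.relIndex (X ⊓ Y) = 1 := by
    by_contra h
    have h5 := Nat.mul_le_mul_right (Fintype.card K ^ 3 * (Fintype.card K ^ 4 - 1))
      (show 2 ≤ C.relIndex (X ⊓ Y) by omega)
    have h6 : Fintype.card K ^ 3 * (2 * (Fintype.card K ^ 4 - 1)) ≤ Fintype.card K ^ 3 * (Fintype.card K ^ 4 + 1) := by
      rw [mul_left_comm]
      exact h5.trans (c5.trans c8)
    have h7 := Nat.le_of_mul_le_mul_left h6 (by positivity)
    have q4 : 81 ≤ Fintype.card K ^ 4 := Nat.pow_le_pow_left h3 4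
    omega
  have := finrank_eig_add h2 t1 hε
  exact ⟨s, ε, hs, hε, t3, by omega, relIndex_eq_one.1 c9⟩

end key

end Bo

open Bo in
/-- **[CS-Bo]** -/
theorem boxBo : BoxBo := by
  intro n K _ _ k q m B Sg G X Y P h ⟨hk, hm, hq, F, _, _, hF, ⟨e⟩⟩
  subst hk hm
  have hsph := h.sph
  cases hsph with
  | p1 Q hQ hp hK hd v hv =>
  subst hK
  have h2 := Ix.two_ne_zero_of_odd hq
  have h3 : 3 ≤ Fintype.card K := by
    have := Fintype.one_lt_card (α := K)
    obtain ⟨k, hk⟩ := hq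
    omega
  obtain ⟨Z, hZ⟩ := exists_pack (Ix.two_ne_zero_of_odd (K := F) (by rw [hF]; exact hq)) e
  rw [Nat.card_eq_fintype_card, hF] at hZ
  have idx : (subspaceStabilizer (Submodule.span K {v})).relIndex Y * 2 =
      Fintype.card K ^ 7 * (Fintype.card K ^ 8 - 1) := by
    have h4 : (subspaceStabilizer (Submodule.span K {v})).relIndex Y * Nat.gcd 2 (Fintype.card K - 1) =
      Fintype.card K ^ (8 - 1) * (Fintype.card K ^ 8 - 1) := h.idx
    rwa [Nat.gcd_eq_left (by obtain ⟨k, hk⟩ := hq; omega)] at h4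
  obtain ⟨s, ε, s1, s2, s3, s4, s5⟩ := key hQ hq hd hv h.core h.le h.fac idx hZ
  have hv0 : v ≠ 0 := ne_zero_of (Q := qf hQ) hv
  have hi := H925.omegaGL_le_iso Q (h.le (h.core.le s.2))
  refine ⟨fun w hw hX => ?_, fun hY => ?_⟩
  · obtain ⟨c, rfl⟩ := line_eq hQ hv0 hX
    have h4 : c • v ∈ Eig (s : GL (Fin n) K) ε := Submodule.smul_mem _ _ s3
    exact ⟨Eig s (-ε), s4, fun g hg => Ix.mem_stab_iff.2 fun u hu => cent_eig (s5 hg) hu,
      fun h5 => hw (eig_disj h2 s2 h4 h5), fun u hu => eig_orth hQ h2 hi s2 hu h4⟩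
  · have hs := h.core.simple
    have hsc : scalars (Fin n) K ≤ subspaceStabilizer (Submodule.span K {v}) := fun g hg => by
      obtain ⟨c, hc⟩ := (mem_scalars_iff _).1 hg
      exact Ix.mem_stab_point.2 ⟨c, by rw [hc, Matrix.smul_mulVec, one_mulVec]⟩
    refine hZ.not_prm h3 s1 ⟨s, mem_subgroupOf.2 (Ix.mem_stab_point.2 ⟨ε, s3⟩), rfl⟩ ?_ ?_
    · rintro _ ⟨x, hx, rfl⟩
      have h4 : x * s = s * x := Subtype.ext (mem_centralizer_singleton_iff.1 (s5 ⟨hx, h.core.le x.2⟩))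
      rw [mem_centralizer_singleton_iff]
      change toSoc P x * toSoc P s = toSoc P s * toSoc P x
      rw [← map_mul, ← map_mul, h4]
    · have hN : (scalars (Fin n) K).Normal := ⟨fun a ha g => by
        obtain ⟨c, hc⟩ := (mem_scalars_iff _).1 ha
        refine (mem_scalars_iff _).2 ⟨c, ?_⟩
        rw [Units.val_mul, Units.val_mul, hc, Matrix.mul_smul, Matrix.mul_one, Matrix.smul_mul, ← Units.val_mul,
          mul_inv_cancel, Units.val_one]⟩
      rw [mul_comm, ← idx, relIndex_eq_of_fac h.core.le fun y hy => ?_]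
      · congr 1
        refine index_map_eq _ (toSoc_surjective P) ?_
        rw [QuotientGroup.ker_mk']
        exact subgroupOf_mono P hsc
      · obtain ⟨p, hp, t, ht, rfl⟩ := mem_sup_of_normal_right.1 (hY hy)
        exact ⟨p, hp, by rw [inv_mul_cancel_left]; exact hsc ht⟩

end Cfsg.Agent.SM.CS
end

-- part: H870/GE/Coef
section
set_option linter.all false
open scoped Cfsg.Agent.FastGrp

/-!
# Equal matrix coefficients and descent of intertwiners (helper870, for S3499)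
-/

set_option autoImplicit false

namespace Cfsg.Agent.H870.GE

open Module Cfsg.Agent.H887.DS
open scoped Matrix

/-- an intertwining operator from equal matrix coefficients -/
theorem exists_intertwiner {G k V V' : Type*} [Group G] [Field k] [AddCommGroup V] [Module k V] [FiniteDimensional k V]
    [AddCommGroup V'] [Module k V'] [FiniteDimensional k V'] {ρ : G →* Module.End k V} {ρ' : G →* Module.End k V'}
    (hirr : ∀ L : Submodule k V, (∀ g, ∀ w ∈ L, ρ g w ∈ L) → L = ⊥ ∨ L = ⊤) {φ : Module.Dual k V} (hφ : φ ≠ 0)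
    {v : V} (hv : v ≠ 0) {ψ : Module.Dual k V'} {w : V'} (h : ∀ g, φ (ρ g v) = ψ (ρ' g w))
    (hd : finrank k V' ≤ finrank k V) : ∃ T : V' →ₗ[k] V, T ≠ 0 ∧ ∀ g u, T (ρ' g u) = ρ g (T u) := by
  have hinj := Psi_injective hirr hφ
  have hle : LinearMap.range (Psi ρ φ) ≤ LinearMap.range (Psi ρ' ψ) := by
    rw [LinearMap.range_eq_map, ← span_eq_top hirr hv, Submodule.map_span, Submodule.span_le]
    rintro _ ⟨_, ⟨g, rfl⟩, rfl⟩
    refine ⟨ρ' g w, ?_⟩
    funext x
    rw [Psi_apply, Psi_apply]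
    have h1 := h (x * g)
    rw [map_mul, map_mul] at h1
    exact h1.symm
  have hfin : FiniteDimensional k (LinearMap.range (Psi ρ' ψ)) := inferInstance
  have heq : LinearMap.range (Psi ρ φ) = LinearMap.range (Psi ρ' ψ) := by
    refine Submodule.eq_of_le_of_finrank_le hle ?_
    rw [LinearMap.finrank_range_of_inj hinj]
    exact (LinearMap.finrank_range_le _).trans hd
  let A : V ≃ₗ[k] LinearMap.range (Psi ρ φ) := LinearEquiv.ofInjective _ hinj
  let B : V' →ₗ[k] LinearMap.range (Psi ρ φ) := (Psi ρ' ψ).codRestrict _ fun u => by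
    rw [heq]
    exact ⟨u, rfl⟩
  have hAB : ∀ u, Psi ρ φ (A.symm (B u)) = Psi ρ' ψ u := by
    intro u
    have h1 : (A (A.symm (B u)) : G → k) = (B u : G → k) := by rw [LinearEquiv.apply_symm_apply]
    exact h1
  refine ⟨A.symm.toLinearMap.comp B, ?_, ?_⟩
  · intro h0
    have h1 : ∀ u, Psi ρ' ψ u = 0 := by
      intro u
      rw [← hAB u]
      have h2 : A.symm (B u) = 0 := LinearMap.congr_fun h0 u
      rw [h2, map_zero]
    have h2 : Psi ρ φ v = 0 := by
      have h3 : Psi ρ φ v ∈ LinearMap.range (Psi ρ' ψ) := hle ⟨v, rfl⟩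
      obtain ⟨u, hu⟩ := h3
      rw [← hu, h1]
    exact hv (hinj (h2.trans (map_zero _).symm))
  · intro g u
    apply hinj
    show Psi ρ φ (A.symm (B (ρ' g u))) = Psi ρ φ (ρ g (A.symm (B u)))
    rw [hAB]
    funext x
    have h1 := congrFun (hAB u) (x * g)
    rw [Psi_apply, Psi_apply, map_mul, map_mul] at h1
    rw [Psi_apply, Psi_apply]
    exact h1.symm

/-- descent of an intertwining matrix -/
theorem descend {F k : Type*} [Field F] [Field k] [Algebra F k] {ι G : Type*} [Fintype ι]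
    (A B : G → Matrix ι ι F) {X : Matrix ι ι k} (hX : X ≠ 0)
    (h : ∀ g, X * (B g).map (algebraMap F k) = (A g).map (algebraMap F k) * X) :
    ∃ X0 : Matrix ι ι F, X0 ≠ 0 ∧ ∀ g, X0 * B g = A g * X0 := by
  obtain ⟨i, j, hij⟩ : ∃ i j, X i j ≠ 0 := by
    by_contra hcon
    push Not at hcon
    exact hX (Matrix.ext hcon)
  obtain ⟨l, hl⟩ : ∃ l : Module.Dual F k, l (X i j) ≠ 0 := by
    by_contra hcon
    push Not at hcon
    exact hij ((Module.forall_dual_apply_eq_zero_iff F (X i j)).1 hcon)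
  refine ⟨X.map l, ?_, ?_⟩
  · intro h0
    exact hl (congrFun (congrFun h0 i) j)
  · intro g
    ext a b
    have h1 := congrArg l (congrFun (congrFun (h g) a) b)
    rw [Matrix.mul_apply, Matrix.mul_apply, map_sum, map_sum] at h1
    rw [Matrix.mul_apply, Matrix.mul_apply]
    refine (Finset.sum_congr rfl fun c _ => ?_).trans (h1.trans (Finset.sum_congr rfl fun c _ => ?_))
    · rw [Matrix.map_apply, Matrix.map_apply, mul_comm (X a c), ← Algebra.smul_def, map_smul, smul_eq_mul, mul_comm]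
    · rw [Matrix.map_apply, Matrix.map_apply, ← Algebra.smul_def, map_smul, smul_eq_mul]

end Cfsg.Agent.H870.GE
end

-- part: H870/GE/Twist
section
prune_inst 0x1606404202202000800009021002040c80004020040080048e00900094160020d0008403e000110088a14802009002003100090422800000a00040000000000008310069058ac04140008000084000000000000000000000000000000010004000000000
set_option linter.all false
open scoped Cfsg.Agent.FastGrp

/-!
# `G₂(K)`, characteristic three: twisting with the graph automorphism (helper870, for S3499)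

* `exists_graph` : the graph automorphism on the root elements;
* `not_both` : a simple module and its twist are not both of the second type;
* `exists_x1` : after changing the isomorphism `P ≃* G₂(K)` the coefficient is of the first type.
-/

set_option autoImplicit false
set_option linter.unusedSectionVars false
set_option linter.style.haveILetI false

namespace Cfsg.Agent.H870.GE

open Cfsg.Lie Matrix Cfsg.Agent.H638.G2Rep Cfsg.Agent.H638.G2Mem
open Cfsg.Agent.H638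
open CoxeterSystem Cfsg.Agent.ChevalleyStructure.CoxeterGeom Cfsg.Agent.Tits.Roots Cfsg.Agent.Tits.Core
  Cfsg.Agent.Tits.Exchange Cfsg.Agent.Nodes.Reps Cfsg.Agent.Nodes.BNOf Cfsg.Agent.Nodes.StabComb
  Cfsg.Agent.Nodes.Bruhat Cfsg.Agent.Nodes.OppDec Cfsg.Agent.Nodes.LeviDec Cfsg.Agent.KFacts.RgdOpp
  Cfsg.Agent.Omega.CR Cfsg.Agent.Omega.FOne.Lift.Sd Cfsg.Agent.Nodes.RGDLib
open Cfsg.Agent.H905.Md Cfsg.Agent.H64.CrossChev Cfsg.Agent.Nodes.RGDChev
open Module Cfsg.Agent.H927.LD Cfsg.Agent.H927.G2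

variable {K : Type} [Field K]

/-- the graph automorphism on the root elements -/
theorem exists_graph [Finite K] [CharP K 3] : ∃ α : GK K ≃* GK K, ∀ (r : ℕ) (t : K), r < 12 →
    α (xg r t) = xg ([2, 3, 0, 1, 5, 4, 7, 6, 10, 11, 8, 9].getD r 0) (t ^ [1, 1, 3, 3, 3, 1, 1, 3, 3, 3, 1, 1].getD r 0) := by
  haveI : Fact (Nat.Prime 3) := ⟨Nat.prime_three⟩
  haveI : PerfectRing K 3 := PerfectField.toPerfectRing 3
  obtain ⟨α, hα⟩ := Cfsg.Agent.ChevalleyStructure.GraphG2.exists_graph (K := K) (fun x => by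
    obtain ⟨y, hy⟩ := surjective_frobenius K 3 x
    exact ⟨y, hy⟩)
  refine ⟨α, fun r t hr => ?_⟩
  apply Subtype.ext
  apply Units.ext
  exact hα (xg r t) r t hr rfl

theorem cube_surj [Finite K] [CharP K 3] (x : K) : ∃ y : K, y ^ 3 = x := by
  haveI : Fact (Nat.Prime 3) := ⟨Nat.prime_three⟩
  haveI : PerfectRing K 3 := PerfectField.toPerfectRing 3
  obtain ⟨y, hy⟩ := surjective_frobenius K 3 x
  exact ⟨y, hy⟩

variable {k V : Type*} [Field k] [IsAlgClosed k] [AddCommGroup V] [Module k V] [FiniteDimensional k V] [Nontrivial V]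

/-- **A simple module and its twist are not both of the second type.** -/
theorem not_both [Finite K] [CharP K 3] [CharP k 3] {ρ : GK K →* Module.End k V} (h3 : 3 ≤ Nat.card K)
    (hirr : ∀ L : Submodule k V, Ivt ρ (GG cs2 hc2 (T2 K) (X2 K)) L → L = ⊥ ∨ L = ⊤) {α : GK K ≃* GK K}
    (hα : ∀ (r : ℕ) (t : K), r < 12 →
      α (xg r t) = xg ([2, 3, 0, 1, 5, 4, 7, 6, 10, 11, 8, 9].getD r 0) (t ^ [1, 1, 3, 3, 3, 1, 1, 3, 3, 3, 1, 1].getD r 0))
    {v : V} (hv : v ∈ D cs2 hc2 (X2 K) ρ) (hv0 : v ≠ 0) {φ : Module.Dual k V} (hT : ∀ t ∈ T2 K, ρ t v = φ (ρ t v) • v)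
    {j : K →+* k} (hj : ∀ g, φ (ρ g v) = j (x2 g))
    {v' : V} (hv' : v' ∈ D cs2 hc2 (X2 K) (ρ.comp α.toMonoidHom)) (hv0' : v' ≠ 0) {φ' : Module.Dual k V}
    (hT' : ∀ t ∈ T2 K, (ρ.comp α.toMonoidHom) t v' = φ' ((ρ.comp α.toMonoidHom) t v') • v')
    {j' : K →+* k} (hj' : ∀ g, φ' ((ρ.comp α.toMonoidHom) g v') = j' (x2 g)) : False := by
  haveI : Fact (Nat.Prime 3) := ⟨Nat.prime_three⟩
  obtain ⟨c, hc0, hc1⟩ := exists_two h3
  -- `v'` is fixed by the positive root groups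
  have h1 : ∀ r t, 6 ≤ r → r < 12 → ρ (xg r t) v' = v' := by
    intro r t hr6 hr
    have key : ∀ (s : ℕ) (u : K), 6 ≤ s → s < 12 → ρ (α (xg s u)) v' = v' := by
      intro s u hs6 hs
      refine hv' (xg s u) ?_
      obtain ⟨-, -⟩ := (⟨hs6, hs⟩ : 6 ≤ s ∧ s < 12)
      have h5 : RGD.Pos cs2 hc2 (vec chevG2 2 s) := by
        refine ⟨(isRoot_iff ht cs2 _).2 ⟨s, hs, rfl⟩, ?_⟩
        have htab : ∀ s : Fin 12, 6 ≤ s.val → ∀ i, 0 ≤ rt2 s i := by decide +kernel
        exact htab ⟨s, hs⟩ hs6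
      exact (show X2 K (vec chevG2 2 s) ≤ RGD.Sup (X2 K) (RGD.Pos cs2 hc2) from RGD.le_Sup h5) ((mem_X2 hs).2 ⟨u, rfl⟩)
    obtain ⟨y, hy⟩ := cube_surj t
    interval_cases r
    · have := key 7 y (by norm_num) (by norm_num)
      rw [hα 7 y (by norm_num)] at this
      rw [← hy]
      exact this
    · have := key 6 t (by norm_num) (by norm_num)
      rw [hα 6 t (by norm_num)] at this
      rw [← pow_one t]
      exact this
    · have := key 10 t (by norm_num) (by norm_num)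
      rw [hα 10 t (by norm_num)] at this
      rw [← pow_one t]
      exact this
    · have := key 11 t (by norm_num) (by norm_num)
      rw [hα 11 t (by norm_num)] at this
      rw [← pow_one t]
      exact this
    · have := key 8 y (by norm_num) (by norm_num)
      rw [hα 8 y (by norm_num)] at this
      rw [← hy]
      exact this
    · have := key 9 y (by norm_num) (by norm_num)
      rw [hα 9 y (by norm_num)] at this
      rw [← hy]
      exact this
  have h2 : v' ∈ D cs2 hc2 (X2 K) ρ := by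
    let St : Subgroup (GK K) :=
      { carrier := {g | ρ g v' = v'}
        mul_mem' := fun {a b} ha hb => by
          change ρ (a * b) v' = v'
          rw [rho_mul, hb, ha]
        one_mem' := by change ρ 1 v' = v'; rw [map_one]; rfl
        inv_mem' := fun {a} ha => by
          change ρ a⁻¹ v' = v'
          have ha' : ρ a v' = v' := ha
          conv_lhs => rw [← ha']
          rw [← rho_mul, inv_mul_cancel, map_one]; rfl }
    have h3 : RGD.Sup (X2 K) (RGD.Pos cs2 hc2) ≤ St := by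
      refine RGD.Sup_le fun z hz => ?_
      obtain ⟨r, hr6, hr, e, -⟩ := exists_of_pos hz
      intro u hu
      rw [← e] at hu
      obtain ⟨t, rfl⟩ := (mem_X2 hr).1 hu
      exact h1 r t hr6 hr
    intro u hu
    exact h3 hu
  have h4 : D cs2 hc2 (X2 K) ρ = Submodule.span k {v} :=
    Cfsg.Agent.H911.fx_eq_span (rgd2 (K := K) 3) ρ hirr hv hv0 (χ := fun t => φ (ρ t v)) hT
  rw [h4, Submodule.mem_span_singleton] at h2
  obtain ⟨a, ha⟩ := h2
  have h5 := hT' (hh K 0 c) (hh_mem 0 hc0)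
  rw [hj', x2_hh 0 hc0, if_neg (by decide), map_one, one_smul] at h5
  have h6 : α (hh K 0 c) = hh K 1 (c ^ 3) := by
    rw [hh_0, hh_1]
    simp only [map_mul]
    rw [hα 7 c (by norm_num), hα 4 _ (by norm_num), hα 7 (-1) (by norm_num), hα 4 1 (by norm_num)]
    have e1 : (-c⁻¹) ^ 3 = -(c ^ 3)⁻¹ := by
      rw [← inv_pow]; ring
    have e2 : (-1 : K) ^ 3 = -1 := by ring
    show xg 6 (c ^ 3) * (xg 5 ((-c⁻¹) ^ 3) * xg 6 (c ^ 3)) * (xg 6 ((-1) ^ 3) * (xg 5 (1 ^ 3) * xg 6 ((-1) ^ 3))) = _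
    rw [e1, e2, one_pow]
  have h7 : ρ (hh K 1 (c ^ 3)) v' = v' := by
    rw [← h6]
    exact h5
  have hc3 : c ^ 3 ≠ 0 := pow_ne_zero 3 hc0
  have h8 := hT (hh K 1 (c ^ 3)) (hh_mem 1 hc3)
  rw [hj, x2_hh 1 hc3, if_pos rfl] at h8
  rw [← ha, map_smul, h8] at h7
  have ha0 : a ≠ 0 := by
    rintro rfl
    rw [zero_smul] at ha
    exact hv0' ha.symm
  have h9 : j (c ^ 3) • v = v := smul_right_injective V ha0 h7
  have h10 : j (c ^ 3) = 1 := smul_left_injective k hv0 (by simpa using h9)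
  have h11 : c ^ 3 = 1 := j.injective (by rw [h10, map_one])
  have h12 : (c - 1) ^ 3 = 0 := by
    have e3 : (3 : K) = 0 := by exact_mod_cast CharP.cast_eq_zero K 3
    linear_combination h11 - (c ^ 2 - c) * e3
  exact hc1 (sub_eq_zero.1 (pow_eq_zero_iff (by norm_num) |>.1 h12))

/-! ### the first type -/

section core

open Cfsg Cfsg.Geo Cfsg.Agent.H915.LD Cfsg.Agent.H151.Six Cfsg.Agent.H911

universe u

variable {ι : Type} [Fintype ι] [DecidableEq ι] {F : Type u} [Field F] [Finite F] {P : Subgroup (GL ι F)}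

/-- the representation belonging to an isomorphism -/
noncomputable def repf (f : P ≃* GK K) : GK K →* GL ι F := P.subtype.comp f.symm.toMonoidHom

theorem repf_range (f : P ≃* GK K) : (repf f).range = P := by
  unfold repf
  rw [MonoidHom.range_comp, MonoidHom.range_eq_top.2 f.symm.surjective, ← MonoidHom.range_eq_map,
    Subgroup.range_subtype]

/-- **After changing the isomorphism the coefficient is of the first type.** -/
theorem exists_x1 [Finite K] (p : ℕ) [hp : Fact p.Prime] [CharP F p] [CharP K p] (hC : Core P) (h3 : 3 ≤ Nat.card K)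
    (f : P ≃* GK K) (hn : Fintype.card ι ≤ 12) :
    ∃ f' : P ≃* GK K, ∃ v : ι → AlgebraicClosure F, v ≠ 0 ∧ ∃ φ : Module.Dual (AlgebraicClosure F) (ι → AlgebraicClosure F),
      φ ≠ 0 ∧ ∃ j : K →+* AlgebraicClosure F, ∀ g, φ (lin (acRep (repf f')) g v) = j (x1 g) := by
  haveI := hC.nonempty
  have hchar : CharP (AlgebraicClosure F) p := charP_of_injective_algebraMap (algebraMap F _).injective p
  have hirr : ∀ f : P ≃* GK K, ∀ L : Submodule (AlgebraicClosure F) (ι → AlgebraicClosure F),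
      Ivt (lin (acRep (repf f))) (GG cs2 hc2 (T2 K) (X2 K)) L → L = ⊥ ∨ L = ⊤ :=
    fun f L hL => acRep_irr (repf_range f) (H920.span_eq_top hC.absIrred) GG2 L hL
  have hfin : Module.finrank (AlgebraicClosure F) (ι → AlgebraicClosure F) = Fintype.card ι :=
    Module.finrank_fintype_fun_eq_card _
  have hne : ∀ {v : ι → AlgebraicClosure F} {φ : Module.Dual (AlgebraicClosure F) (ι → AlgebraicClosure F)},
      φ v = 1 → v ≠ 0 ∧ φ ≠ 0 := by
    intro v φ h
    constructor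
    · rintro rfl
      rw [map_zero] at h
      exact zero_ne_one h
    · rintro rfl
      exact zero_ne_one h
  obtain ⟨v, hv, φ, hφ, hφv, hT, j, hj⟩ := cases p h3 (hirr f) (by rw [hfin]; exact hC.two_le) (by rw [hfin]; exact hn)
  rcases hj with ⟨hj, -⟩ | ⟨hj, rfl, -⟩
  · exact ⟨f, v, (hne hφv).1, φ, (hne hφv).2, j, hj⟩
  · obtain ⟨α, hα⟩ := exists_graph (K := K)
    obtain ⟨v', hv', φ', hφ', hφv', hT', j', hj'⟩ := cases 3 h3 (hirr (f.trans α.symm)) (by rw [hfin]; exact hC.two_le)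
      (by rw [hfin]; exact hn)
    rcases hj' with ⟨hj', -⟩ | ⟨hj', -, -⟩
    · exact ⟨f.trans α.symm, v', (hne hφv').1, φ', (hne hφv').2, j', hj'⟩
    · exfalso
      exact not_both h3 (hirr f) hα hv (hne hφv).1 hT hj hv' (hne hφv').1 hT' hj'

end core

end Cfsg.Agent.H870.GE
end

-- part: H870/GE/Rep
section
prune_inst 0x1606444502202000018051032000044880000920043080089e009400949600320010e4134e0011001923ce05009002003100050422800000a00340000030020808340049248a000240009000880000000000000000000000000000000010000000000000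
set_option linter.all false
open scoped Cfsg.Agent.FastGrp

/-!
# Absolutely irreducible groups `G₂(F)` of dimension 6 or 7 over `F` are conjugate to `P0` (helper870, for S3499)
-/

set_option autoImplicit false
set_option linter.unusedSectionVars false
set_option linter.style.haveILetI false
set_option linter.unusedSimpArgs false

namespace Cfsg.Agent.H870.GE

open Cfsg Cfsg.Lie Cfsg.Geo Matrix Cfsg.Agent.H161.Oct Cfsg.Agent.H927.G2 Cfsg.Agent.H638 Cfsg.Agent.H905.Md
  Cfsg.Agent.H911 Module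
open Cfsg.Agent.H915.LD (Core core_of_residual)

/-! ### embeddings of a finite field -/

theorem exists_aut {F : Type*} [Field F] [Finite F] (j : F →+* AlgebraicClosure F) :
    ∃ τ : F ≃+* F, ∀ x, j x = algebraMap F (AlgebraicClosure F) (τ x) := by
  classical
  haveI := Fintype.ofFinite F
  set q := Fintype.card F with hq
  have hq1 : 1 < q := Fintype.one_lt_card
  set p : Polynomial (AlgebraicClosure F) := Polynomial.X ^ q - Polynomial.X with hp
  have hp0 : p ≠ 0 := FiniteField.X_pow_card_sub_X_ne_zero _ hq1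
  have hroot : ∀ y : AlgebraicClosure F, y ^ q = y → y ∈ p.roots.toFinset := by
    intro y hy
    rw [Multiset.mem_toFinset, Polynomial.mem_roots hp0, Polynomial.IsRoot.def, hp]
    simp [hy]
  have hsub : (Finset.univ.image (algebraMap F (AlgebraicClosure F))) ⊆ p.roots.toFinset := by
    intro y hy
    obtain ⟨x, -, rfl⟩ := Finset.mem_image.1 hy
    apply hroot
    rw [← map_pow, FiniteField.pow_card]
  have hcard : p.roots.toFinset.card ≤ (Finset.univ.image (algebraMap F (AlgebraicClosure F))).card := by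
    rw [Finset.card_image_of_injective _ (algebraMap F (AlgebraicClosure F)).injective, Finset.card_univ]
    refine (Multiset.toFinset_card_le _).trans ((Polynomial.card_roots' _).trans ?_)
    rw [hp, FiniteField.X_pow_card_sub_X_natDegree_eq _ hq1]
  have heq := Finset.eq_of_subset_of_card_le hsub hcard
  have hmem : ∀ x : F, ∃ y : F, algebraMap F (AlgebraicClosure F) y = j x := by
    intro x
    have h1 := hroot (j x) (by rw [← map_pow, FiniteField.pow_card])
    rw [← heq, Finset.mem_image] at h1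
    obtain ⟨y, -, hy⟩ := h1
    exact ⟨y, hy⟩
  choose s hs using hmem
  have hinj : Function.Injective (algebraMap F (AlgebraicClosure F)) := (algebraMap F (AlgebraicClosure F)).injective
  let σ : F →+* F :=
    { toFun := s
      map_one' := hinj (by rw [hs, map_one, map_one])
      map_mul' := fun a b => hinj (by rw [hs, map_mul, map_mul, hs, hs])
      map_zero' := hinj (by rw [hs, map_zero, map_zero])
      map_add' := fun a b => hinj (by rw [hs, map_add, map_add, hs, hs]) }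
  exact ⟨RingEquiv.ofBijective σ (Finite.injective_iff_bijective.1 σ.injective), fun x => (hs x).symm⟩

/-! ### the natural representation -/

section nat

variable {F : Type} [Field F] [Finite F] {ι : Type} [Fintype ι] [DecidableEq ι] (M : Md ι F)

theorem th_mem (g : GK F) : th F g ∈ Cfsg.Lie.G2 F :=
  G2Link.link_fst_mem ((MulEquiv.ofBijective (G2Link.toChev F) toChev_bijective).symm g).2

theorem th_surj {y : GL (Fin 8) F} (hy : y ∈ Cfsg.Lie.G2 F) : ∃ g : GK F, th F g = y := by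
  haveI : Finite (GL (Fin 8) F × GL chevG2.Idx F) := inferInstance
  have h1 : Nat.card (G2Link.Link F) ≤ Nat.card (Cfsg.Lie.G2 F) := Nat.card_le_card_of_injective _ G2Link.toG2_injective
  have h2 : Nat.card (chevG2.group F) ≤ Nat.card (G2Link.Link F) :=
    Nat.card_le_card_of_surjective _ G2Link.toChev_surjective
  obtain ⟨e⟩ := G2Iso.equiv (F := F)
  have h3 : Nat.card (Cfsg.Lie.G2 F) = Nat.card (chevG2.group F) := Nat.card_congr e.toEquiv
  have b1 : Function.Bijective (G2Link.toG2 F) :=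
    (Nat.bijective_iff_injective_and_card _).2 ⟨G2Link.toG2_injective, by omega⟩
  obtain ⟨l, hl⟩ := b1.2 ⟨y, hy⟩
  refine ⟨G2Link.toChev F l, ?_⟩
  have h4 : (MulEquiv.ofBijective (G2Link.toChev F) toChev_bijective).symm (G2Link.toChev F l) = l := by
    rw [MulEquiv.symm_apply_eq]
    rfl
  change ((MulEquiv.ofBijective (G2Link.toChev F) toChev_bijective).symm (G2Link.toChev F l)).1.1 = y
  rw [h4]
  exact congrArg Subtype.val hl

/-- the natural representation -/
noncomputable def nat : GK F →* GL ι F :=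
  M.rhoG.comp (((toE F).toMonoidHom.comp (th F)).codRestrict (TO F) (fun g => AutO_le_TO (toE_mem.2 (th_mem g))))

theorem nat_apply (g : GK F) : nat M g = M.rhoG ⟨toE F (th F g), AutO_le_TO (toE_mem.2 (th_mem g))⟩ := rfl

theorem nat_range : (nat M).range = M.P0 := by
  ext x
  rw [M.mem_P0]
  constructor
  · rintro ⟨g, rfl⟩
    exact ⟨_, toE_mem.2 (th_mem g), rfl⟩
  · rintro ⟨f, hf, rfl⟩
    have h1 : (toE F).symm f ∈ Cfsg.Lie.G2 F := by
      rw [← toE_mem, MulEquiv.apply_symm_apply]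
      exact hf
    obtain ⟨g, hg⟩ := th_surj h1
    refine ⟨g, ?_⟩
    rw [nat_apply]
    congr 1
    apply Subtype.ext
    show toE F (th F g) = f
    rw [hg]
    exact (toE F).apply_symm_apply f

theorem nat_mulVec (g : GK F) (v : ι → F) : (nat M g : Matrix ι ι F) *ᵥ v = M.cor (a8 F g (M.inc v)) := by
  rw [nat_apply, M.rhoG_mulVec, M.rho_apply]
  show M.cor (toE F (th F g) (M.inc v)) = _
  rw [toE_apply, a8_apply]

theorem tr_e8 : tr (e8 F) = 0 := by
  have h0 : e8 F 0 = 0 := Pi.single_eq_of_ne (by decide) 1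
  have h7 : e8 F 7 = 0 := Pi.single_eq_of_ne (by decide) 1
  rw [tr, h0, h7, add_zero]

/-- the coefficient of the natural representation -/
theorem nat_coef (g : GK F) : M.inc ((nat M g : Matrix ι ι F) *ᵥ M.cor (e8 F)) 6 = x1 g := by
  rw [nat_mulVec]
  obtain ⟨a, ha⟩ := M.inc_cor (e8 F) tr_e8
  have hg : toE F (th F g) ∈ AutO F := toE_mem.2 (th_mem g)
  have e1 : ∀ x, a8 F g x = toE F (th F g) x := fun x => by rw [toE_apply, a8_apply]
  rw [ha, e1, map_add, map_smul, map_o hg]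
  have h1 : tr (toE F (th F g) (e8 F) + a • o) = 0 := by
    rw [tr_add, map_tr hg, ← tr_add, ← ha, M.tr_inc]
  obtain ⟨b, hb⟩ := M.inc_cor _ h1
  rw [hb, ← e1]
  simp only [Pi.add_apply, Pi.smul_apply, smul_eq_mul, o6, mul_zero, add_zero]
  rfl

end nat

/-! ### field automorphisms -/

section fld

variable {F : Type*} [Field F] {ι : Type} [Fintype ι] [DecidableEq ι]

/-- `inc` and `cor` commute with field automorphisms -/
structure Md.Nat (M : Md ι F) : Prop where
  inc_map : ∀ (τ : F ≃+* F) (v : ι → F), M.inc (fun i => τ (v i)) = fun i => τ (M.inc v i)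
  cor_map : ∀ (τ : F ≃+* F) (x : V F), M.cor (fun i => τ (x i)) = fun i => τ (M.cor x i)

theorem zorn_map (τ : F ≃+* F) (x y : V F) :
    zornMul (fun i => τ (x i)) (fun i => τ (y i)) = fun i => τ (zornMul x y i) := by
  apply ext8
  · rw [mul0, mul0]; simp only [map_add, map_mul, map_sub, true_and]
  · rw [mul1, mul1]; simp only [map_add, map_mul, map_sub, true_and]
  · rw [mul2, mul2]; simp only [map_add, map_mul, map_sub, true_and]
  · rw [mul3, mul3]; simp only [map_add, map_mul, map_sub, true_and]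
  · rw [mul4, mul4]; simp only [map_add, map_mul, map_sub, true_and]
  · rw [mul5, mul5]; simp only [map_add, map_mul, map_sub, true_and]
  · rw [mul6, mul6]; simp only [map_add, map_mul, map_sub, true_and]
  · rw [mul7, mul7]; simp only [map_add, map_mul, map_sub, true_and]

/-- the twist of a linear map -/
def twE (τ : F ≃+* F) (f : V F ≃ₗ[F] V F) : V F ≃ₗ[F] V F where
  toFun x := fun i => τ (f (fun l => τ.symm (x l)) i)
  map_add' x y := by
    have h1 : (fun l => τ.symm ((x + y) l)) = (fun l => τ.symm (x l)) + fun l => τ.symm (y l) := by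
      funext l
      simp
    funext i
    rw [h1, map_add, Pi.add_apply, Pi.add_apply, map_add]
  map_smul' c x := by
    have h1 : (fun l => τ.symm ((c • x) l)) = τ.symm c • fun l => τ.symm (x l) := by
      funext l
      simp
    funext i
    rw [h1, map_smul, Pi.smul_apply, Pi.smul_apply, smul_eq_mul, map_mul, RingEquiv.apply_symm_apply, RingHom.id_apply,
      smul_eq_mul]
  invFun x := fun i => τ (f.symm (fun l => τ.symm (x l)) i)
  left_inv x := by
    funext i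
    simp
  right_inv x := by
    funext i
    simp

theorem twE_apply (τ : F ≃+* F) (f : V F ≃ₗ[F] V F) (x : V F) : twE τ f x = fun i => τ (f (fun l => τ.symm (x l)) i) := rfl

theorem twE_mem (τ : F ≃+* F) {f : V F ≃ₗ[F] V F} (hf : f ∈ AutO F) : twE τ f ∈ AutO F := by
  intro x y
  rw [twE_apply, twE_apply, twE_apply, zorn_map, ← hf, zorn_map]

/-- `P0` is invariant under field automorphisms -/
theorem Md.Nat.stable {M : Md ι F} (hM : M.Nat) (τ : F ≃+* F) {g : GL ι F} (hg : g ∈ M.P0) :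
    ∃ g' ∈ M.P0, (g' : Matrix ι ι F) = (g : Matrix ι ι F).map τ := by
  obtain ⟨f, hf, rfl⟩ := M.mem_P0.1 hg
  refine ⟨_, M.mem_P0.2 ⟨_, twE_mem τ hf, rfl⟩, ?_⟩
  ext a b
  have h1 : ∀ A : Matrix ι ι F, A a b = (A *ᵥ Pi.single b 1) a := fun A => by
    rw [Matrix.mulVec_single_one]; rfl
  rw [Matrix.map_apply, h1 ((M.rhoG ⟨f, AutO_le_TO hf⟩ : GL ι F) : Matrix ι ι F), M.rhoG_mulVec]
  refine (h1 _).trans ?_
  rw [M.rhoG_mulVec, M.rho_apply, M.rho_apply]
  have h2 : (fun l => τ.symm (M.inc (Pi.single b 1) l)) = M.inc (Pi.single b 1) := by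
    rw [← hM.inc_map τ.symm]
    congr 1
    funext i
    by_cases hi : i = b
    · subst hi; simp
    · simp [hi]
  show M.cor (twE τ f (M.inc (Pi.single b 1))) a = _
  rw [twE_apply, h2, hM.cor_map]

end fld

end Cfsg.Agent.H870.GE
end

-- part: H870/GE/RepMain
section
prune_inst 0x10000000000000
set_option linter.all false
open scoped Cfsg.Agent.FastGrp

/-!
# Absolutely irreducible groups `G₂(F)` of dimension 6 or 7 over `F` are conjugate to `P0` (helper870, for S3499)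
-/

set_option autoImplicit false
set_option linter.unusedSectionVars false
set_option linter.style.haveILetI false

namespace Cfsg.Agent.H870.GE

open Cfsg Cfsg.Lie Cfsg.Geo Matrix Cfsg.Agent.H161.Oct Cfsg.Agent.H927.G2 Cfsg.Agent.H638 Cfsg.Agent.H905.Md
  Cfsg.Agent.H911 Module
open Cfsg.Agent.H915.LD (Core core_of_residual)

variable {F : Type} [Field F] [Finite F] {ι : Type} [Fintype ι] [DecidableEq ι]

/-- the natural representation twisted by a field embedding -/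
noncomputable def natj (M : Md ι F) (j : F →+* AlgebraicClosure F) : GK F →* Matrix ι ι (AlgebraicClosure F) :=
  (j.mapMatrix (m := ι)).toMonoidHom.comp ((Units.coeHom (Matrix ι ι F)).comp (nat M))

theorem natj_apply (M : Md ι F) (j : F →+* AlgebraicClosure F) (g : GK F) :
    natj M j g = (nat M g : Matrix ι ι F).map j := rfl

/-- the functional -/
noncomputable def psj (M : Md ι F) (j : F →+* AlgebraicClosure F) :
    Module.Dual (AlgebraicClosure F) (ι → AlgebraicClosure F) :=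
  ∑ i, j (M.inc (Pi.single i 1) 6) • LinearMap.proj i

theorem psj_apply (M : Md ι F) (j : F →+* AlgebraicClosure F) (v : ι → F) :
    psj M j (fun i => j (v i)) = j (M.inc v 6) := by
  have h1 : M.inc v 6 = ∑ i, M.inc (Pi.single i 1) 6 * v i := by
    conv_lhs => rw [← Finset.univ_sum_single v, map_sum, Finset.sum_apply]
    refine Finset.sum_congr rfl fun i _ => ?_
    have h2 : (Pi.single i (v i) : ι → F) = v i • Pi.single i 1 := by
      rw [← Pi.single_smul, smul_eq_mul, mul_one]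
    rw [h2, map_smul, Pi.smul_apply, smul_eq_mul, mul_comm]
  rw [h1, map_sum, psj, LinearMap.sum_apply]
  refine Finset.sum_congr rfl fun i _ => ?_
  rw [LinearMap.smul_apply, LinearMap.proj_apply, smul_eq_mul, map_mul]

theorem psj_coef (M : Md ι F) (j : F →+* AlgebraicClosure F) (g : GK F) :
    psj M j (lin (natj M j) g (fun i => j (M.cor (e8 F) i))) = j (x1 g) := by
  rw [← nat_coef M g, ← psj_apply, lin_apply, natj_apply]
  congr 1
  funext i
  exact (RingHom.map_mulVec j (nat M g : Matrix ι ι F) (M.cor (e8 F)) i).symm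

/-- **The identification of the representation.** -/
theorem rep (p : ℕ) [hp : Fact p.Prime] [CharP F p] {P : Subgroup (GL ι F)} (hC : Core P) (h3 : 3 ≤ Nat.card F)
    (f : P ≃* GK F) (hn : Fintype.card ι ≤ 12) {M : Md ι F} (hM : M.Nat) :
    ∃ θ : GL ι F, P = M.P0.map (MulAut.conj θ).toMonoidHom := by
  haveI := hC.nonempty
  obtain ⟨f', v, hv, φ, hφ, j, hj⟩ := exists_x1 p hC h3 f hn
  obtain ⟨τ, hτ⟩ := exists_aut j
  have hirr : ∀ L : Submodule (AlgebraicClosure F) (ι → AlgebraicClosure F),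
      (∀ g, ∀ w ∈ L, lin (acRep (repf f')) g w ∈ L) → L = ⊥ ∨ L = ⊤ :=
    fun L hL => acRep_irr (repf_range f') (H920.span_eq_top hC.absIrred) (H := ⊤) rfl L fun g _ w hw => hL g w hw
  obtain ⟨T, hT0, hT⟩ := exists_intertwiner (ρ' := lin (natj M j)) hirr hφ hv
    (fun g => (hj g).trans (psj_coef M j g).symm) le_rfl
  -- the matrix
  set X : Matrix ι ι (AlgebraicClosure F) := LinearMap.toMatrix' T with hX
  have hX0 : X ≠ 0 := by
    intro h0
    apply hT0
    exact LinearMap.toMatrix'.injective (by rw [← hX, h0, map_zero])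
  have hXT : ∀ u, X *ᵥ u = T u := fun u => by
    rw [hX, ← Matrix.toLin'_apply, Matrix.toLin'_toMatrix']
  have hXg : ∀ g, X * ((nat M g : Matrix ι ι F).map τ).map (algebraMap F (AlgebraicClosure F)) =
      (repf f' g : Matrix ι ι F).map (algebraMap F (AlgebraicClosure F)) * X := by
    intro g
    have h1 : ((nat M g : Matrix ι ι F).map τ).map (algebraMap F (AlgebraicClosure F)) = natj M j g := by
      rw [natj_apply]
      ext a b
      rw [Matrix.map_apply, Matrix.map_apply, Matrix.map_apply, hτ]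
    rw [h1]
    refine (Matrix.toLin' : Matrix ι ι (AlgebraicClosure F) ≃ₗ[AlgebraicClosure F] _).injective
      (LinearMap.ext fun u => ?_)
    rw [Matrix.toLin'_apply, Matrix.toLin'_apply, ← Matrix.mulVec_mulVec, ← Matrix.mulVec_mulVec, hXT, hXT]
    have h2 := hT g u
    rw [lin_apply, lin_apply] at h2
    exact h2
  obtain ⟨X0, hX00, hX0g⟩ := descend (fun g => (repf f' g : Matrix ι ι F)) (fun g => (nat M g : Matrix ι ι F).map τ) hX0 hXg
  -- `X0` is invertible
  have htop : LinearMap.range (Matrix.toLin' X0) = ⊤ := by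
    refine (hC.absIrred.1 _ ?_).resolve_left ?_
    · rintro _ ⟨x, hx, rfl⟩
      rw [SetLike.mem_coe, ← repf_range f'] at hx
      obtain ⟨g, rfl⟩ := hx
      rintro _ ⟨_, ⟨u, rfl⟩, rfl⟩
      refine ⟨((nat M g : Matrix ι ι F).map τ) *ᵥ u, ?_⟩
      rw [Matrix.toLin'_apply, Matrix.toLin'_apply, Matrix.toLin'_apply, Matrix.mulVec_mulVec, Matrix.mulVec_mulVec, hX0g]
    · intro h0
      apply hX00
      rw [LinearMap.range_eq_bot] at h0
      exact (Matrix.toLin' : Matrix ι ι F ≃ₗ[F] _).injective (by rw [h0, map_zero])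
  have hunit : IsUnit X0 := by
    rw [Matrix.isUnit_iff_isUnit_det, isUnit_iff_ne_zero]
    intro hdet
    have h1 : Function.Injective (Matrix.toLin' X0) :=
      LinearMap.injective_iff_surjective.2 (LinearMap.range_eq_top.1 htop)
    obtain ⟨w, hw0, hw⟩ := (Matrix.exists_mulVec_eq_zero_iff (M := X0)).2 hdet
    apply hw0
    apply h1
    rw [Matrix.toLin'_apply, hw, map_zero]
  obtain ⟨θ, hθ⟩ := hunit
  refine ⟨θ, ?_⟩
  have hle : P ≤ M.P0.map (MulAut.conj θ).toMonoidHom := by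
    intro x hx
    rw [← repf_range f'] at hx
    obtain ⟨g, rfl⟩ := hx
    obtain ⟨g', hg', e⟩ := hM.stable τ (g := nat M g) (by rw [← nat_range]; exact ⟨g, rfl⟩)
    refine ⟨g', hg', ?_⟩
    show θ * g' * θ⁻¹ = repf f' g
    rw [mul_inv_eq_iff_eq_mul]
    apply Units.ext
    rw [Units.val_mul, Units.val_mul, hθ, e]
    exact hX0g g
  refine Subgroup.eq_of_le_of_card_ge hle ?_
  have h1 : Nat.card (M.P0.map (MulAut.conj θ).toMonoidHom) = Nat.card M.P0 :=
    Nat.card_congr (M.P0.equivMapOfInjective _ (MulAut.conj θ).injective).toEquiv.symm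
  rw [h1, ← nat_range M, Nat.card_congr f.toEquiv]
  exact Nat.card_le_card_of_surjective _ (nat M).rangeRestrict_surjective

end Cfsg.Agent.H870.GE

private theorem dce_607a2ee43bd9 : _root_.True := by
  try have : _root_.True := by simp only [_root_.Cfsg.Agent.H870.GE.psj.eq_1]
  exact _root_.True.intro
end

-- part: SM/Alt/MatB
section
set_option linter.all false
open scoped Cfsg.Agent.FastGrp

/-!
# SM (S3570), alternating socle: the 2-transitive actions of the Mathieu groups (helper61)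
-/

set_option autoImplicit false

namespace Cfsg.Agent.SM.Alt.Mat

open Cfsg Equiv Subgroup MulAction

variable {T : Type} [Group T]

theorem isM11 (h : Spor.IsoM11 T) : IsM11 T := by
  obtain ⟨e⟩ := h
  let f := e.trans Schreier.MEleven.equiv.symm
  obtain ⟨h1, h2⟩ := Schreier.MEleven.isM11
  exact ⟨(MulEquiv.isSimpleGroup_congr f).2 h1, by rw [← h2]; exact Nat.card_congr f.toEquiv⟩

theorem m11_eleven (hG : IsM11 T) : One2 T 11 := by
  have : Finite T := Nat.finite_of_card_ne_zero (by rw [hG.2]; norm_num)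
  exact one_of_row (row_of_rowAt (H561.PPow.rowAt_m11 hG) (by norm_num)) (SectRankFour.AutM11.exists_conj hG)

theorem m11_twelve (hG : IsM11 T) : One2 T 12 := by
  classical
  have : Finite T := Nat.finite_of_card_ne_zero (by rw [hG.2]; norm_num)
  have : Fact (Nat.Prime 11) := ⟨by norm_num⟩
  intro Δ₁ Δ₂ _ _ h1 h2
  have := nontriv h2 (by norm_num)
  have := h1.fin
  have := Fintype.ofFinite Δ₁
  have hc : Fintype.card Δ₁ = 12 := by rw [← Nat.card_eq_fintype_card, h1.card]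
  obtain ⟨a₂⟩ : Nonempty Δ₂ := inferInstance
  have c1 : ∀ a : Δ₁, Nat.card (stabilizer T a) = 660 := fun a => by
    have := (stabilizer T a).card_mul_index
    rw [index h1 (by norm_num), hG.2] at this
    omega
  have c2 : Nat.card (stabilizer T a₂) = 660 := by
    have := (stabilizer T a₂).card_mul_index
    rw [index h2 (by norm_num), hG.2] at this
    omega
  obtain ⟨x, hx⟩ := exists_prime_orderOf_dvd_card' (G := stabilizer T a₂) 11 (by rw [c2]; norm_num)
  have hσ : orderOf (toPermHom T Δ₁ x) = 11 := by rw [orderOf_injective _ (inj h1), Subgroup.orderOf_coe, hx]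
  have hct := cycleType_eq (by norm_num) (by rw [hc]; norm_num) hσ
  have hcy : (toPermHom T Δ₁ x).IsCycle := Perm.card_cycleType_eq_one.1 (by rw [hct]; rfl)
  have hs : (toPermHom T Δ₁ x).support.card = 11 := by rw [← hcy.orderOf, hσ]
  obtain ⟨a₁, ha₁⟩ : ∃ a₁, a₁ ∉ (toPermHom T Δ₁ x).support := by
    by_contra hn
    push Not at hn
    rw [Finset.eq_univ_of_forall hn, Finset.card_univ, hc] at hs
    omega
  have hsup : (toPermHom T Δ₁ x).support = Finset.univ.erase a₁ :=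
    Finset.eq_of_subset_of_card_le (fun y hy => Finset.mem_erase.2 ⟨fun e => ha₁ (e ▸ hy), Finset.mem_univ _⟩)
      (by rw [hs, Finset.card_erase_of_mem (Finset.mem_univ _), Finset.card_univ, hc])
  have hmv : ∀ y, y ≠ a₁ → toPermHom T Δ₁ x y ≠ y := fun y hy =>
    Perm.mem_support.1 (hsup ▸ Finset.mem_erase.2 ⟨hy, Finset.mem_univ _⟩)
  by_cases hB : stabilizer T a₂ ≤ stabilizer T a₁
  · have h3 := Subgroup.eq_of_le_of_card_ge hB (by rw [c1, c2])
    exact ⟨a₁, a₂, fun t => by rw [← mem_stabilizer_iff, ← mem_stabilizer_iff, h3]⟩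
  exfalso
  obtain ⟨b, hb, hb1⟩ := SetLike.not_le_iff_exists.1 hB
  have htr : ∀ y : Δ₁, ∃ g : stabilizer T a₂, g • a₁ = y := fun y => by
    by_cases hy : y = a₁
    · exact ⟨1, by rw [hy, one_smul]⟩
    · obtain ⟨i, hi⟩ := hcy.exists_zpow_eq (hmv _ hb1) (hmv _ hy)
      refine ⟨x ^ i * ⟨b, hb⟩, ?_⟩
      rw [← map_zpow] at hi
      rw [mul_smul]
      exact hi
  have : IsPretransitive (stabilizer T a₂) Δ₁ := ⟨fun y z => by
    obtain ⟨g, rfl⟩ := htr y
    obtain ⟨g', rfl⟩ := htr z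
    exact ⟨g' * g⁻¹, by rw [mul_smul, inv_smul_smul]⟩⟩
  obtain ⟨s, hs2⟩ := exists_prime_orderOf_dvd_card' (G := stabilizer T a₂) 2 (by rw [c2]; norm_num)
  obtain ⟨s', hs'⟩ := exists_prime_orderOf_dvd_card' (G := stabilizer T a₁) 2 (by rw [c1]; norm_num)
  obtain ⟨u, hu⟩ := isConj_iff.1 (SporadicA.M11Facts.isConj_involutions hG (u := (s' : T)) (u' := (s : T))
    (by rw [Subgroup.orderOf_coe, hs']) (by rw [Subgroup.orderOf_coe, hs2]))
  have h4 : s ∈ stabilizer (stabilizer T a₂) (u • a₁) := by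
    have h5 : (s : T) • u • a₁ = u • a₁ := by
      rw [← hu, conj_smul, inv_smul_smul]
      exact s'.2
    exact h5
  have h5 := (stabilizer (stabilizer T a₂) (u • a₁)).card_mul_index
  rw [index_stabilizer_of_transitive, h1.card, c2] at h5
  have h6 := Subgroup.orderOf_dvd_natCard _ h4
  rw [hs2] at h6
  omega

open Cfsg.Agent.SporadicA in
theorem m12_row (h : Spor.IsoM12 T) : Row2 T 12 := by
  obtain ⟨e⟩ := h
  have hc : Nat.card T = 95040 := (Nat.card_congr e.toEquiv).trans MTwelveType.SylowModel.card_M12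
  have hs : IsSimpleGroup T := (MulEquiv.isSimpleGroup_congr e).2 Schreier.MTwelve.isSimpleGroup
  have : Finite T := Nat.finite_of_card_ne_zero (by rw [hc]; norm_num)
  refine row_of_std (0 : Fin 12) M12Perm.Std fun Δ _ h1 => ?_
  obtain ⟨ε, hε⟩ := exists_lab h1 (p := 11) (by norm_num) (by rw [hc]; norm_num) (by norm_num) Cand12.orderOf_tP
  obtain ⟨σ, hσ⟩ := M12Perm.exists_relabel (L := (rep ε : T →* Perm (Fin 12)).range)
    ⟨(card_range h1 ε).trans hc, by
      rintro _ ⟨g, rfl⟩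
      exact DegPOne.sign_eq_one hs (by rw [hc]; norm_num) _ g, rep_tr h1 (by norm_num) ε, hε⟩
  exact ⟨ε.trans σ, (range_trans ε σ).trans hσ⟩

theorem m12_two (h : Spor.IsoM12 T) : Two2 T 12 :=
  two_of_row (m12_row h) (by norm_num) (Out2.of_equiv h.some (Out2.of_card S2061.result))

open Cfsg.Agent.H867.Max.Oct in
theorem m22_cj : CjAt Spor.M22 22 := by
  intro A B hA hB
  obtain ⟨p, p1, p2, rfl⟩ := H829.S8.idx22 A hA
  obtain ⟨q, q1, q2, rfl⟩ := H829.S8.idx22 B hB
  obtain ⟨g, hg⟩ : ∃ g : Spor.M22, g • q = p := by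
    by_cases hp : q = p
    · exact ⟨1, by rw [hp, one_smul]⟩
    · obtain ⟨g, hg, g1, g2, g3, -⟩ := map4 (a := none) (b := some 0) (c := q) (d := p)
        (a' := none) (b' := some 0) (c' := p) (d' := q) (by simp) q1.symm p1.symm q2.symm p2.symm hp
        (by simp) p1.symm q1.symm p2.symm q2.symm (Ne.symm hp)
      exact ⟨mk22 g hg g1 g2, g3⟩
  refine ⟨g⁻¹, fun t => ?_⟩
  rw [mem_stabilizer_iff, mem_stabilizer_iff, conj_smul, inv_inv, hg]

theorem m22_one (h : Spor.IsoM22 T) : One2 T 22 := one_of_cjAt (m22_cj.of_equiv h.some) (by norm_num)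

theorem m23_one (h : Spor.IsoM23 T) : One2 T 23 := by
  have : Finite T := Nat.finite_of_card_ne_zero (by
    rw [Nat.card_congr h.some.toEquiv, SporadicA.MathieuRecog.card_M23]; norm_num)
  refine one_of_row (row_of_rowAt (H561.PPow.rowAt_m23 h) (by norm_num)) fun φ => ?_
  obtain ⟨k, hk⟩ := KFacts.M23.OutOne.exists_conj' h φ
  exact ⟨k, MulEquiv.ext hk⟩

open Cfsg.Agent.SporadicA Cfsg.Agent.SporadicA.M24OfIndex in
theorem m24_row (h : Spor.IsoM24 T) : Row2 T 24 := by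
  obtain ⟨e⟩ := h
  have hc : Nat.card T = 244823040 := (Nat.card_congr e.toEquiv).trans S0364.result
  have hs : IsSimpleGroup T := (MulEquiv.isSimpleGroup_congr e).2 S0365.result
  have : Finite T := Nat.finite_of_card_ne_zero (by rw [hc]; norm_num)
  refine row_of_std (0 : Fin 24) (M24.comap ePt.permCongrHom.toMonoidHom) fun Δ _ h1 => ?_
  obtain ⟨ε, hε⟩ := exists_lab h1 (p := 23) (by norm_num) (by rw [hc]; norm_num) (by norm_num) Cand24.orderOf_tP
  obtain ⟨σ, g1, g2, g3, g4⟩ := exists_relabel (L := (rep ε : T →* Perm (Fin 24)).range)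
    ⟨(card_range h1 ε).trans hc, by
      rintro _ ⟨g, rfl⟩
      exact DegPOne.sign_eq_one hs (by rw [hc]; norm_num) _ g, rep_tr h1 (by norm_num) ε, hε⟩
  rw [← range_trans] at g1 g2 g3 g4
  refine ⟨ε.trans σ, ?_⟩
  have hle : M24 ≤ (rep (ε.trans σ) : T →* Perm (Fin 24)).range.map ePt.permCongrHom.toMonoidHom := by
    rw [← S0374.result, Subgroup.closure_le]
    intro g hg
    rcases hg with rfl | rfl | rfl
    · rw [shift_eq]; exact ⟨_, g1, rfl⟩
    · rw [projInv_eq]; exact ⟨_, g4, rfl⟩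
    · obtain ⟨i, hi⟩ := cubeTwist_eq
      rw [hi]
      exact ⟨_, Subgroup.mul_mem _ (Subgroup.pow_mem _ g2 i) g3, rfl⟩
  rw [Subgroup.eq_of_le_of_card_ge hle (by
    rw [Subgroup.card_map_of_injective ePt.permCongrHom.injective, card_range h1, hc, S0364.result]),
    Subgroup.comap_map_eq_self_of_injective ePt.permCongrHom.injective]

theorem m24_one (h : Spor.IsoM24 T) : One2 T 24 :=
  one_of_row (m24_row h) fun _ => Inr.of_equiv h.some (KFacts.M24Two.Out.exists_conj _)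

/-- **the Mathieu groups** -/
theorem boxMat : BoxMat := fun _ _ =>
  ⟨fun h => ⟨m11_eleven (isM11 h), m11_twelve (isM11 h)⟩, fun h => ⟨m12_row h, m12_two h⟩, m22_one, m23_one, m24_one⟩

end Cfsg.Agent.SM.Alt.Mat
end
end
end
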